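import Mathlib

/-!
# S2140 (helper1), piece (P3): if all `U`-orbits have at most `k` points then `|Ω| ≤ k * #orbits`.
-/

set_option autoImplicit false
set_option linter.unusedSectionVars false

namespace Cfsg.Agent.Helper72.MinDeg

/-- orbit-stabiliser for the action of a subgroup, with the stabiliser written `G_ω ⊓ U`. -/
theorem P3_card_orbit_mul {G Ω : Type*} [Group G] [MulAction G Ω] (U : Subgroup G)
    [Finite U] (ω : Ω) :
    Nat.card (MulAction.orbit U ω) *
      Nat.card (MulAction.stabilizer G ω ⊓ U : Subgroup G) = Nat.card U := by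
  classical
  have hstab : MulAction.stabilizer U ω = (MulAction.stabilizer G ω ⊓ U).subgroupOf U := by
    ext u
    simp [Subgroup.mem_subgroupOf, MulAction.mem_stabilizer_iff, Subgroup.smul_def]
  have hcard : Nat.card (MulAction.stabilizer U ω) =
      Nat.card (MulAction.stabilizer G ω ⊓ U : Subgroup G) := by
    rw [hstab]
    exact Nat.card_congr (Subgroup.subgroupOfEquivOfLe inf_le_right).toEquiv
  rw [← hcard]
  have e := MulAction.orbitProdStabilizerEquivGroup U ω
  rw [← Nat.card_congr e, Nat.card_prod]

/-- (P3) if all `U`-orbits have at most `k` points then `|Ω| ≤ k * #orbits`, with equality only if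
all orbits have exactly `k` points. -/
theorem card_le_mul_orbits {G Ω : Type*} [Group G] [Fintype Ω] [MulAction G Ω] (U : Subgroup G)
    [Finite U] (k : ℕ)
    (h : ∀ ω : Ω, Nat.card U ≤ k * Nat.card (MulAction.stabilizer G ω ⊓ U : Subgroup G)) :
    Fintype.card Ω ≤ k * Nat.card (MulAction.orbitRel.Quotient U Ω) ∧
      (Fintype.card Ω = k * Nat.card (MulAction.orbitRel.Quotient U Ω) →
        ∀ ω : Ω, k * Nat.card (MulAction.stabilizer G ω ⊓ U : Subgroup G) = Nat.card U) := by
  classical
  have : Fintype (MulAction.orbitRel.Quotient U Ω) := Fintype.ofFinite _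
  -- every orbit has at most `k` points
  have hspos : ∀ ω : Ω, 0 < Nat.card (MulAction.stabilizer G ω ⊓ U : Subgroup G) := by
    intro ω
    have : Finite (MulAction.stabilizer G ω ⊓ U : Subgroup G) :=
      Finite.of_injective (Subgroup.inclusion (inf_le_right : MulAction.stabilizer G ω ⊓ U ≤ U))
        (Subgroup.inclusion_injective _)
    exact Nat.card_pos
  have horb : ∀ ω : Ω, Nat.card (MulAction.orbit U ω) ≤ k := by
    intro ω
    have h1 := P3_card_orbit_mul U ω
    have h2 := h ω
    rw [← h1] at h2
    exact Nat.le_of_mul_le_mul_right h2 (hspos ω)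
  -- `Ω` is the disjoint union of the orbits
  have hsum : Fintype.card Ω =
      ∑ q : MulAction.orbitRel.Quotient U Ω, Nat.card (MulAction.orbit U q.out) := by
    rw [← Nat.card_eq_fintype_card, Nat.card_congr (MulAction.selfEquivSigmaOrbits U Ω),
      Nat.card_sigma]
  have hle : ∑ q : MulAction.orbitRel.Quotient U Ω, Nat.card (MulAction.orbit U q.out) ≤
      ∑ _q : MulAction.orbitRel.Quotient U Ω, k :=
    Finset.sum_le_sum (fun q _ => horb q.out)
  have hconst : ∑ _q : MulAction.orbitRel.Quotient U Ω, k =
      k * Nat.card (MulAction.orbitRel.Quotient U Ω) := by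
    rw [Finset.sum_const, smul_eq_mul, Finset.card_univ, Nat.card_eq_fintype_card, mul_comm]
  refine ⟨by rw [hsum, ← hconst]; exact hle, ?_⟩
  intro heq ω
  -- every orbit has exactly `k` points
  have hall : ∀ q : MulAction.orbitRel.Quotient U Ω, Nat.card (MulAction.orbit U q.out) = k := by
    intro q
    by_contra hne
    have hlt : Nat.card (MulAction.orbit U q.out) < k := lt_of_le_of_ne (horb q.out) hne
    have hstrict : ∑ q : MulAction.orbitRel.Quotient U Ω, Nat.card (MulAction.orbit U q.out) <
        ∑ _q : MulAction.orbitRel.Quotient U Ω, k :=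
      Finset.sum_lt_sum (fun q _ => horb q.out) ⟨q, Finset.mem_univ _, hlt⟩
    rw [hconst, ← hsum, heq] at hstrict
    exact lt_irrefl _ hstrict
  have hω : MulAction.orbit U (Quotient.mk'' ω : MulAction.orbitRel.Quotient U Ω).out =
      MulAction.orbit U ω := by
    apply MulAction.orbit_eq_iff.mpr
    have : (Quotient.mk'' (Quotient.mk'' ω : MulAction.orbitRel.Quotient U Ω).out :
        MulAction.orbitRel.Quotient U Ω) = Quotient.mk'' ω := Quotient.out_eq' _
    exact Quotient.exact' this
  have hk : Nat.card (MulAction.orbit U ω) = k := by rw [← hω]; exact hall _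
  rw [← hk]
  exact P3_card_orbit_mul U ω

end Cfsg.Agent.Helper72.MinDeg
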