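import Cfsg.Agent.Helper96.StemBoundB

/-!
# Stem extensions: preimage of an elementary abelian group of order 8 with an element of order 7

If `t₁, t₂, t₃` commute pairwise in `G` and some `g` satisfies `g t₁ g⁻¹ = t₂`, `g t₂ g⁻¹ = t₃`,
`g t₃ g⁻¹ = t₁ t₃`, then for every stem extension `σ : Γ →* G` the preimage of `⟨t₁, t₂, t₃⟩` is
abelian; hence kernel elements are killed by the index of `⟨t₁, t₂, t₃⟩`.
-/

set_option autoImplicit false

namespace Cfsg.Agent.Helper72.StemE8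

open Subgroup Cfsg.Agent.Helper96.StemBound
open scoped commutatorElement

universe u v

variable {Γ : Type u} {G : Type v} [Group Γ] [Group G]

/-- In a central extension the commutator of two elements only depends on their images. -/
theorem commElt_congr (σ : Γ →* G) (hσ : Cfsg.IsStemExtension σ) {x x' y y' : Γ}
    (hx : σ x = σ x') (hy : σ y = σ y') : ⁅x, y⁆ = ⁅x', y'⁆ := by
  have hz1 : x'⁻¹ * x ∈ σ.ker := by
    rw [MonoidHom.mem_ker, map_mul, map_inv, hx, inv_mul_cancel]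
  have hz2 : y'⁻¹ * y ∈ σ.ker := by
    rw [MonoidHom.mem_ker, map_mul, map_inv, hy, inv_mul_cancel]
  have c1 := ker_comm σ hσ hz1
  have c2 := ker_comm σ hσ hz2
  set z1 := x'⁻¹ * x with hz1def
  set z2 := y'⁻¹ * y with hz2def
  have ex : x = x' * z1 := by rw [hz1def]; group
  have ey : y = y' * z2 := by rw [hz2def]; group
  have c1i : ∀ w : Γ, w * z1⁻¹ = z1⁻¹ * w := by
    intro w
    have := c1 w
    calc w * z1⁻¹ = z1⁻¹ * (z1 * w) * z1⁻¹ := by group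
      _ = z1⁻¹ * (w * z1) * z1⁻¹ := by rw [this]
      _ = z1⁻¹ * w := by group
  have c2i : ∀ w : Γ, w * z2⁻¹ = z2⁻¹ * w := by
    intro w
    have := c2 w
    calc w * z2⁻¹ = z2⁻¹ * (z2 * w) * z2⁻¹ := by group
      _ = z2⁻¹ * (w * z2) * z2⁻¹ := by rw [this]
      _ = z2⁻¹ * w := by group
  rw [ex, ey, commutatorElement_def, commutatorElement_def]
  calc x' * z1 * (y' * z2) * (x' * z1)⁻¹ * (y' * z2)⁻¹
      = x' * (z1 * y') * z2 * z1⁻¹ * x'⁻¹ * z2⁻¹ * y'⁻¹ := by group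
    _ = x' * (y' * z1) * z2 * z1⁻¹ * x'⁻¹ * z2⁻¹ * y'⁻¹ := by rw [c1 y']
    _ = x' * y' * (z1 * z2) * z1⁻¹ * x'⁻¹ * z2⁻¹ * y'⁻¹ := by group
    _ = x' * y' * (z2 * z1) * z1⁻¹ * x'⁻¹ * z2⁻¹ * y'⁻¹ := by rw [c2 z1]
    _ = x' * y' * z2 * (x'⁻¹ * z2⁻¹) * y'⁻¹ := by group
    _ = x' * y' * z2 * (z2⁻¹ * x'⁻¹) * y'⁻¹ := by rw [c2i x'⁻¹]
    _ = x' * y' * x'⁻¹ * y'⁻¹ := by group

/-- Commutators with trivial image are invariant under conjugation. -/
theorem commElt_conj (σ : Γ →* G) (hσ : Cfsg.IsStemExtension σ) (g x y : Γ)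
    (hxy : σ x * σ y = σ y * σ x) : ⁅g * x * g⁻¹, g * y * g⁻¹⁆ = ⁅x, y⁆ := by
  have hk : ⁅x, y⁆ ∈ σ.ker := by
    rw [MonoidHom.mem_ker, map_commutatorElement, commutatorElement_eq_one_iff_mul_comm]
    exact hxy
  have hc := ker_comm σ hσ hk g
  calc ⁅g * x * g⁻¹, g * y * g⁻¹⁆ = g * ⁅x, y⁆ * g⁻¹ := by
        rw [commutatorElement_def, commutatorElement_def]; group
    _ = ⁅x, y⁆ * g * g⁻¹ := by rw [hc]
    _ = ⁅x, y⁆ := by group

/-- Left multiplicativity when the commutators are central. -/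
theorem commElt_mul_left (σ : Γ →* G) (hσ : Cfsg.IsStemExtension σ) (x y w : Γ)
    (hyw : σ y * σ w = σ w * σ y) : ⁅x * y, w⁆ = ⁅y, w⁆ * ⁅x, w⁆ := by
  have hk : ⁅y, w⁆ ∈ σ.ker := by
    rw [MonoidHom.mem_ker, map_commutatorElement, commutatorElement_eq_one_iff_mul_comm]
    exact hyw
  have hc := ker_comm σ hσ hk x
  calc ⁅x * y, w⁆ = x * ⁅y, w⁆ * (w * x⁻¹ * w⁻¹) := by
        rw [commutatorElement_def, commutatorElement_def]; group
    _ = ⁅y, w⁆ * x * (w * x⁻¹ * w⁻¹) := by rw [hc]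
    _ = ⁅y, w⁆ * ⁅x, w⁆ := by rw [commutatorElement_def x w]; group

/-- The key computation: the three commutators of the lifts vanish. -/
theorem commElt_lifts_eq_one (σ : Γ →* G) (hσ : Cfsg.IsStemExtension σ) (g a b c : Γ)
    (hab : σ a * σ b = σ b * σ a) (hbc : σ b * σ c = σ c * σ b) (hca : σ c * σ a = σ a * σ c)
    (h1 : σ g * σ a = σ b * σ g) (h2 : σ g * σ b = σ c * σ g)
    (h3 : σ g * σ c = σ a * σ c * σ g) :
    ⁅a, b⁆ = 1 ∧ ⁅b, c⁆ = 1 ∧ ⁅c, a⁆ = 1 := by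
  have i1 : σ (g * a * g⁻¹) = σ b := by
    rw [map_mul, map_mul, map_inv, h1, mul_inv_cancel_right]
  have i2 : σ (g * b * g⁻¹) = σ c := by
    rw [map_mul, map_mul, map_inv, h2, mul_inv_cancel_right]
  have i3 : σ (g * c * g⁻¹) = σ (a * c) := by
    rw [map_mul, map_mul, map_inv, h3, mul_inv_cancel_right, map_mul]
  -- ⁅a,b⁆ = ⁅b,c⁆
  have e1 : ⁅a, b⁆ = ⁅b, c⁆ := by
    rw [← commElt_conj σ hσ g a b hab]
    exact commElt_congr σ hσ i1 i2
  -- ⁅b,c⁆ = ⁅c,a⁆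
  have e2 : ⁅b, c⁆ = ⁅c, a⁆ := by
    rw [← commElt_conj σ hσ g b c hbc, commElt_congr σ hσ i2 i3]
    rw [commutatorElement_def, commutatorElement_def]; group
  -- ⁅c,a⁆ = ⁅c,b⁆ * ⁅a,b⁆
  have e3 : ⁅c, a⁆ = ⁅c, b⁆ * ⁅a, b⁆ := by
    rw [← commElt_conj σ hσ g c a hca, commElt_congr σ hσ i3 i1]
    exact commElt_mul_left σ hσ a c b hbc.symm
  have e4 : ⁅c, b⁆ = ⁅b, c⁆⁻¹ := (commutatorElement_inv b c).symm
  have hca1 : ⁅c, a⁆ = 1 := by
    rw [e3, e4, ← e1, inv_mul_cancel]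
  refine ⟨by rw [e1, e2, hca1], by rw [e2, hca1], hca1⟩

/-- The derived subgroup of the preimage of `⟨t₁, t₂, t₃⟩` is trivial. -/
theorem commutator_comap_closure_eq_bot (σ : Γ →* G) (hσ : Cfsg.IsStemExtension σ)
    (g t₁ t₂ t₃ : G)
    (h12 : t₁ * t₂ = t₂ * t₁) (h23 : t₂ * t₃ = t₃ * t₂) (h31 : t₃ * t₁ = t₁ * t₃)
    (h1 : g * t₁ = t₂ * g) (h2 : g * t₂ = t₃ * g) (h3 : g * t₃ = t₁ * t₃ * g) :
    ⁅(closure ({t₁, t₂, t₃} : Set G)).comap σ, (closure ({t₁, t₂, t₃} : Set G)).comap σ⁆ = ⊥ := by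
  obtain ⟨a, rfl⟩ := hσ.1 t₁
  obtain ⟨b, rfl⟩ := hσ.1 t₂
  obtain ⟨c, rfl⟩ := hσ.1 t₃
  obtain ⟨g', rfl⟩ := hσ.1 g
  obtain ⟨k1, k2, k3⟩ := commElt_lifts_eq_one σ hσ g' a b c h12 h23 h31 h1 h2 h3
  set S : Set Γ := {a, b, c} ∪ (σ.ker : Set Γ) with hS
  have hle : (closure ({σ a, σ b, σ c} : Set G)).comap σ ≤ closure S := by
    intro h hh
    rw [Subgroup.mem_comap] at hh
    have hsub : closure ({σ a, σ b, σ c} : Set G) ≤ (closure S).map σ := by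
      rw [Subgroup.closure_le]
      intro x hx
      simp only [Set.mem_insert_iff, Set.mem_singleton_iff] at hx
      rcases hx with rfl | rfl | rfl
      · exact ⟨a, subset_closure (Or.inl (by simp)), rfl⟩
      · exact ⟨b, subset_closure (Or.inl (by simp)), rfl⟩
      · exact ⟨c, subset_closure (Or.inl (by simp)), rfl⟩
    obtain ⟨k, hk, hkh⟩ := hsub hh
    have hz : k⁻¹ * h ∈ σ.ker := by
      rw [MonoidHom.mem_ker, map_mul, map_inv, hkh, inv_mul_cancel]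
    have e : h = k * (k⁻¹ * h) := by group
    rw [e]
    exact mul_mem hk (subset_closure (Or.inr hz))
  rw [eq_bot_iff]
  refine le_trans (Subgroup.commutator_mono hle hle) ?_
  apply commutator_closure_le_of_central S ⊥ bot_le
  have hker : ∀ z ∈ σ.ker, ∀ w : Γ, ⁅z, w⁆ = 1 ∧ ⁅w, z⁆ = 1 := by
    intro z hz w
    have h1 := commElt_ker σ hσ hz w
    refine ⟨h1, ?_⟩
    rw [← commutatorElement_inv, h1, inv_one]
  have inv1 : ∀ x y : Γ, ⁅x, y⁆ = 1 → ⁅y, x⁆ = 1 := by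
    intro x y h
    rw [← commutatorElement_inv, h, inv_one]
  rintro x (hx | hx) y (hy | hy)
  · rw [Subgroup.mem_bot]
    simp only [Set.mem_insert_iff, Set.mem_singleton_iff] at hx hy
    rcases hx with rfl | rfl | rfl <;> rcases hy with rfl | rfl | rfl
    · exact commutatorElement_self _
    · exact k1
    · exact inv1 _ _ k3
    · exact inv1 _ _ k1
    · exact commutatorElement_self _
    · exact k2
    · exact k3
    · exact inv1 _ _ k2
    · exact commutatorElement_self _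
  · rw [Subgroup.mem_bot]; exact (hker y hy x).2
  · rw [Subgroup.mem_bot]; exact (hker x hx y).1
  · rw [Subgroup.mem_bot]; exact (hker x hx y).1

/-- Kernel elements of a finite stem extension are killed by the index of `⟨t₁, t₂, t₃⟩`. -/
theorem ker_pow_index_closure [Finite Γ] (σ : Γ →* G) (hσ : Cfsg.IsStemExtension σ)
    (g t₁ t₂ t₃ : G)
    (h12 : t₁ * t₂ = t₂ * t₁) (h23 : t₂ * t₃ = t₃ * t₂) (h31 : t₃ * t₁ = t₁ * t₃)
    (h1 : g * t₁ = t₂ * g) (h2 : g * t₂ = t₃ * g) (h3 : g * t₃ = t₁ * t₃ * g)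
    {z : Γ} (hz : z ∈ σ.ker) : z ^ (closure ({t₁, t₂, t₃} : Set G)).index = 1 := by
  have h := ker_pow_index_mem σ hσ (closure ({t₁, t₂, t₃} : Set G)) hz
  rw [commutator_comap_closure_eq_bot σ hσ g t₁ t₂ t₃ h12 h23 h31 h1 h2 h3, Subgroup.mem_bot] at h
  exact h

end Cfsg.Agent.Helper72.StemE8
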