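import Mathlib
import Cfsg.Agent.Helper5.OmBN.Defs

/-!
# (CCB) for helper5's S2549 skeleton 2 (helper72)

The conjugation `cc` of the middle plane (matrix `c0Mat α`) normalises the Borel subgroup `Bsub`:
`c₀ R(x, y) c₀ = R(x + α y, -y)`.
-/

set_option autoImplicit false

namespace Cfsg.Agent.Helper72.OmBN

open Matrix Cfsg.Agent.Helper5.OmBN

variable {F : Type*} [Field F] {m : ℕ} {α β : F}

/-- the conjugation `cc` is block upper triangular -/
theorem CCB_cc_mem_Bfull (cc : OG m α β) (hcc : mat cc = c0Mat α) : cc ∈ Bfull m α β := by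
  rw [mem_Bfull_iff]
  intro r s hrs
  rw [hcc, c0Mat_apply]
  by_cases hs : s = c2
  · rw [if_pos hs]
    rw [hs, pos_c2] at hrs
    have h1 : r ≠ c1 := by
      intro h
      rw [h, pos_c1] at hrs
      exact lt_irrefl _ hrs
    have h2 : r ≠ c2 := by
      intro h
      rw [h, pos_c2] at hrs
      exact lt_irrefl _ hrs
    rw [if_neg h1, if_neg h2]
  · rw [if_neg hs]
    have hne : r ≠ s := by
      intro h
      rw [h] at hrs
      exact lt_irrefl _ hrs
    rw [if_neg hne]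

/-- the conjugation `cc` is an involution -/
theorem CCB_cc_inv (cc : OG m α β) (hcc : mat cc = c0Mat α)
    (hcc2 : c0Mat (m := m) α * c0Mat α = 1) : cc⁻¹ = cc := by
  have h : cc * cc = 1 := by
    apply mat_injective
    rw [mat_mul, hcc, hcc2, mat_one]
  exact inv_eq_of_mul_eq_one_left h

/-- (CCB) the conjugation `cc` normalises `B` -/
theorem cc_conj_mem_Bsub (cc : OG m α β) (hcc : mat cc = c0Mat α)
    (hcc2 : c0Mat (m := m) α * c0Mat α = 1) (b : OG m α β) (hb : b ∈ Bsub m α β) :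
    cc * b * cc⁻¹ ∈ Bsub m α β := by
  rw [CCB_cc_inv cc hcc hcc2]
  have hcB : cc ∈ Bfull m α β := CCB_cc_mem_Bfull cc hcc
  have hbB : b ∈ Bfull m α β := Bsub_le_Bfull hb
  have hcbB : cc * b ∈ Bfull m α β := (Bfull m α β).mul_mem hcB hbB
  obtain ⟨hb1, hb2⟩ := hb.2
  -- the middle block of `cc`
  have c11 : mat cc c1 c1 = 1 := by
    rw [hcc, c0Mat_apply, if_neg c1_ne_c2, if_pos rfl]
  have c12 : mat cc c1 c2 = α := by
    rw [hcc, c0Mat_apply, if_pos rfl, if_pos rfl]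
  have c21 : mat cc c2 c1 = 0 := by
    rw [hcc, c0Mat_apply, if_neg c1_ne_c2, if_neg c1_ne_c2.symm]
  have c22 : mat cc c2 c2 = -1 := by
    rw [hcc, c0Mat_apply, if_pos rfl, if_neg c1_ne_c2.symm, if_pos rfl]
  refine ⟨(Bfull m α β).mul_mem hcbB hcB, ?_, ?_⟩
  · rw [mul_apply_mid (cc * b) cc hcbB hcB c1 c2 pos_c1 pos_c2,
      mul_apply_mid (cc * b) cc hcbB hcB c2 c1 pos_c2 pos_c1,
      mul_apply_mid cc b hcB hbB c1 c1 pos_c1 pos_c1,
      mul_apply_mid cc b hcB hbB c1 c2 pos_c1 pos_c2,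
      mul_apply_mid cc b hcB hbB c2 c1 pos_c2 pos_c1,
      mul_apply_mid cc b hcB hbB c2 c2 pos_c2 pos_c2,
      c11, c12, c21, c22, hb1, hb2]
    ring
  · rw [mul_apply_mid (cc * b) cc hcbB hcB c2 c2 pos_c2 pos_c2,
      mul_apply_mid (cc * b) cc hcbB hcB c1 c1 pos_c1 pos_c1,
      mul_apply_mid (cc * b) cc hcbB hcB c2 c1 pos_c2 pos_c1,
      mul_apply_mid cc b hcB hbB c1 c1 pos_c1 pos_c1,
      mul_apply_mid cc b hcB hbB c1 c2 pos_c1 pos_c2,
      mul_apply_mid cc b hcB hbB c2 c1 pos_c2 pos_c1,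
      mul_apply_mid cc b hcB hbB c2 c2 pos_c2 pos_c2,
      c11, c12, c21, c22, hb1, hb2]
    ring

end Cfsg.Agent.Helper72.OmBN
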