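import Mathlib
import Cfsg.Agent.Helper5.OmBN.Defs

/-!
# (STEP1) for helper5's S2549 skeleton 2 (helper72)

Reduction step, last nonzero coordinate `A` in the left outer part: the element `s_k x_k(t)` with
`k = A - 1` (a root of kind I) and `t = - v_{A-1} / v_A`.
-/

set_option autoImplicit false

namespace Cfsg.Agent.Helper72.OmBN

open Matrix Cfsg.Agent.Helper5.OmBN

variable {F : Type*} [Field F] {m : ℕ} {α β : F}

/-- the action of a root element on a vector -/
theorem STEP1_xMat_mulVec (a b : Fin (2 * m + 2)) (t : F) (v : Fin (2 * m + 2) → F)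
    (l : Fin (2 * m + 2)) :
    (xMat a b t *ᵥ v) l = v l + (if l = a then t * v b else 0)
      - (if l = Fin.rev b then t * v (Fin.rev a) else 0) := by
  unfold xMat
  rw [Matrix.sub_mulVec, Matrix.add_mulVec, Matrix.one_mulVec,
    Matrix.smul_mulVec, Matrix.smul_mulVec, Matrix.single_mulVec, Matrix.single_mulVec]
  simp only [Pi.add_apply, Pi.sub_apply, Pi.smul_apply, Function.update_apply, Pi.zero_apply,
    smul_eq_mul, one_mul, mul_ite, mul_zero]

/-- the action of a permutation matrix on a vector, for an involution -/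
theorem STEP1_pMat_mulVec (π : Equiv.Perm (Fin (2 * m + 2))) (hπ : ∀ q, π (π q) = q)
    (w : Fin (2 * m + 2) → F) (p : Fin (2 * m + 2)) :
    ((pMat π : Matrix _ _ F) *ᵥ w) p = w (π p) := by
  simp only [Matrix.mulVec, dotProduct, pMat_apply]
  rw [Finset.sum_eq_single (π p)]
  · rw [hπ, if_pos rfl, one_mul]
  · intro b _ hb
    rw [if_neg, zero_mul]
    intro h
    apply hb
    rw [h, hπ]
  · intro h; exact absurd (Finset.mem_univ _) h

/-- the common core: for a root `k` of kind I the element `s_k x_k(t)` lies in `G1`, fixes the first `k`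
basis vectors and acts as `x_k(t)` followed by the permutation `sPerm k` -/
theorem STEP1_core (hXI : HasXI m α β) (hS : HasS m α β)
    (k : Fin m) (hk : k.val + 1 < m) (t : F) (j : ℕ) (hjk : j ≤ k.val) :
    ∃ h ∈ G1 m α β, Fixj j h ∧ ∀ (v : Fin (2 * m + 2) → F) (p : Fin (2 * m + 2)),
      (mat h *ᵥ v) p = (xMat (lo k) (ib k) t *ᵥ v) (sPerm k p) := by
  have hlc1 : lo k ≠ c1 := lo_ne_c1 k
  have hlc2 : lo k ≠ c2 := lo_ne_c2 k
  have hic1 : ib k ≠ c1 := by
    intro h
    have := congrArg Fin.val h
    rw [val_ib, val_c1] at this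
    omega
  have hic2 : ib k ≠ c2 := by
    intro h
    have := congrArg Fin.val h
    rw [val_ib, val_c2] at this
    omega
  have hab : lo k ≠ ib k := by
    intro h
    have := congrArg Fin.val h
    rw [val_lo, val_ib] at this
    omega
  have harb : lo k ≠ Fin.rev (ib k) := by
    intro h
    have := congrArg Fin.val h
    rw [val_lo, val_rev, val_ib] at this
    omega
  have hrl1 : Fin.rev (lo k) ≠ c1 := by
    intro h
    have := congrArg Fin.val h
    rw [val_rev, val_lo, val_c1] at this
    omega
  have hrl2 : Fin.rev (lo k) ≠ c2 := by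
    intro h
    have := congrArg Fin.val h
    rw [val_rev, val_lo, val_c2] at this
    omega
  have hri1 : Fin.rev (ib k) ≠ c1 := by
    intro h
    have := congrArg Fin.val h
    rw [val_rev, val_ib, val_c1] at this
    omega
  have hri2 : Fin.rev (ib k) ≠ c2 := by
    intro h
    have := congrArg Fin.val h
    rw [val_rev, val_ib, val_c2] at this
    omega
  obtain ⟨x, hx⟩ := hXI (lo k) (ib k) hlc1 hlc2 hic1 hic2 hab harb t
  obtain ⟨s, hs⟩ := hS k
  rw [sMat_of_lt α k hk] at hs
  -- `x ∈ B`
  have hxB : x ∈ Bsub m α β := by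
    rw [mem_Bsub_iff]
    refine ⟨?_, ?_, ?_⟩
    · intro p q hqp
      have hpq : p ≠ q := by
        intro h
        rw [h] at hqp
        exact lt_irrefl _ hqp
      rw [hx, xMat_apply, if_neg hpq]
      have h1 : ¬ (lo k = p ∧ ib k = q) := by
        rintro ⟨e1, e2⟩
        rw [← e1, ← e2] at hqp
        unfold pos at hqp
        rw [val_lo, val_ib] at hqp
        split_ifs at hqp <;> omega
      have h2 : ¬ (Fin.rev (ib k) = p ∧ Fin.rev (lo k) = q) := by
        rintro ⟨e1, e2⟩
        rw [← e1, ← e2] at hqp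
        unfold pos at hqp
        rw [val_rev, val_rev, val_lo, val_ib] at hqp
        split_ifs at hqp <;> omega
      rw [if_neg h1, if_neg h2]
      simp
    · rw [hx, xMat_apply, xMat_apply]
      simp [hlc1, hlc2, hri1, hri2, c1_ne_c2, c1_ne_c2.symm]
    · rw [hx, xMat_apply, xMat_apply, xMat_apply]
      simp [hlc1, hlc2, hri1, hri2, c1_ne_c2.symm]
  have hsN : s ∈ Nsub m α β := Sset_subset_Nsub ⟨k, by rw [hs, sMat_of_lt α k hk]⟩
  refine ⟨s * x, Subgroup.mul_mem _ (Nsub_le_G1 hsN) (Bsub_le_G1 hxB), ?_, ?_⟩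
  · -- the first `j` columns
    intro p q hq
    rw [mat_mul, Matrix.mul_apply]
    have hqn := q.2
    have hcol : ∀ l : Fin (2 * m + 2), mat x l q = if l = q then 1 else 0 := by
      intro l
      rw [hx, xMat_apply]
      have h1 : ¬ (lo k = l ∧ ib k = q) := by
        rintro ⟨_, e2⟩
        have e2' := congrArg Fin.val e2
        rw [val_ib] at e2'
        omega
      have h2 : ¬ (Fin.rev (ib k) = l ∧ Fin.rev (lo k) = q) := by
        rintro ⟨_, e2⟩
        have e2' := congrArg Fin.val e2
        rw [val_rev, val_lo] at e2'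
        omega
      rw [if_neg h1, if_neg h2]
      simp
    rw [Finset.sum_eq_single q]
    · rw [hcol q, if_pos rfl, mul_one, hs, pMat_apply]
      have hfix : sPerm k q = q := by
        apply Fin.ext
        rw [val_sPerm k hk]
        rw [if_neg (by omega), if_neg (by omega), if_neg (by omega), if_neg (by omega)]
      rw [hfix]
    · intro l _ hl
      rw [hcol l, if_neg hl, mul_zero]
    · intro h
      exact absurd (Finset.mem_univ _) h
  · intro v p
    rw [mat_mul, ← Matrix.mulVec_mulVec, hs, STEP1_pMat_mulVec _ (sPerm_sPerm k hk), hx]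

/-- (STEP1) the last nonzero coordinate `A` is in the left part: use `x ∈ X_{A-1}` and `s_{A-1}` -/
theorem step_first (hXI : HasXI m α β) (hS : HasS m α β)
    (j A : ℕ) (hjA : j < A) (hA : A < m) (v : Fin (2 * m + 2) → F)
    (hvA : ∀ r : Fin (2 * m + 2), A < r.val → v r = 0) (a : Fin (2 * m + 2)) (ha : a.val = A)
    (hva : v a ≠ 0) :
    ∃ h ∈ G1 m α β, Fixj j h ∧ ∀ r : Fin (2 * m + 2), A ≤ r.val → (mat h *ᵥ v) r = 0 := by
  have hk : A - 1 < m := by omega
  set k : Fin m := ⟨A - 1, hk⟩ with hkdef
  have hkval : k.val = A - 1 := rfl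
  have hk1 : k.val + 1 < m := by rw [hkval]; omega
  have hib : ib k = a := by
    apply Fin.ext
    rw [val_ib, hkval, ha]
    omega
  obtain ⟨h, hh, hfix, hact⟩ :=
    STEP1_core (α := α) (β := β) hXI hS k hk1 (-(v (lo k)) / v a) j (by rw [hkval]; omega)
  refine ⟨h, hh, hfix, ?_⟩
  intro p hp
  rw [hact, STEP1_xMat_mulVec]
  have hrev : v (Fin.rev (lo k)) = 0 := by
    apply hvA
    rw [val_rev, val_lo, hkval]
    omega
  rw [hrev, mul_zero, ite_self, sub_zero]
  have hpn := p.2
  by_cases hpA : p.val = A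
  · have e : sPerm k p = lo k := by
      apply Fin.ext
      rw [val_sPerm k hk1, val_lo, hkval]
      rw [if_neg (by omega), if_pos (by omega)]
    rw [e, if_pos rfl, hib]
    field_simp
    ring
  · have hgt : A < (sPerm k p).val := by
      rw [val_sPerm k hk1, hkval]
      split_ifs <;> omega
    have hne : sPerm k p ≠ lo k := by
      intro h
      have := congrArg Fin.val h
      rw [val_lo, hkval] at this
      omega
    rw [if_neg hne, add_zero]
    exact hvA _ hgt

end Cfsg.Agent.Helper72.OmBN
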