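import Mathlib
import Cfsg.Agent.Helper13.SqOMDefs
import Cfsg.Agent.Helper93.OmBNR1I

/-!
# (STEPX) for helper13's piece (OM) of S4625 (helper72)

Clearing ONE outer entry `(lo j, s)` of the row `lo j` of an element of `Usub` by a root element
`x_{lo j, s}(t)`.
-/

set_option autoImplicit false

namespace Cfsg.Agent.Helper72.SqOM

open Matrix Cfsg Cfsg.Agent.Helper5.OmBN Cfsg.Agent.Helper13.SqOM

variable {F : Type*} [Field F] {m : ℕ} {α β : F}

/-- (STEPX) clearing ONE outer entry `(lo j, s)` of the row `lo j` by a root element `x_{lo j, s}(t)` -/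
theorem clear_entry
    (hadj : ∀ (g' : OG m α β) (a : Fin (2 * m + 2)), a ≠ c1 → a ≠ c2 → RowId g' a →
      ColId g' (Fin.rev a))
    (g : OG m α β) (hg : g ∈ Usub m α β) (j : Fin m)
    (hrows : ∀ i : Fin m, i.val < j.val → RowId g (lo i))
    (s : Fin (2 * m + 2)) (hs1 : s ≠ c1) (hs2 : s ≠ c2) (hsj : s ≠ lo j) (hsj' : s ≠ hi j) :
    ∃ y ∈ Subgroup.closure (RootSet m α β),
      (∀ i : Fin m, i.val < j.val → RowId (g * y) (lo i)) ∧ mat (g * y) (lo j) s = 0 ∧
      ∀ s' : Fin (2 * m + 2), s' ≠ s → s' ≠ hi j → mat (g * y) (lo j) s' = mat g (lo j) s' := by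
  by_cases hz : mat g (lo j) s = 0
  · refine ⟨1, Subgroup.one_mem _, ?_, ?_, ?_⟩
    · rw [mul_one]; exact hrows
    · rw [mul_one]; exact hz
    · intro s' _ _; rw [mul_one]
  · obtain ⟨hU1, hU2⟩ := (mem_Usub_iff g).1 hg
    -- the position of `s`
    have hpos : pos (lo j) < pos s := by
      rcases lt_trichotomy (pos (lo j)) (pos s) with h | h | h
      · exact h
      · exfalso
        apply hz
        rw [hU2 (lo j) s h, if_neg (fun h' => hsj h'.symm)]
      · exact absurd (hU1 (lo j) s h) hz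
    have hab : lo j ≠ s := fun h => hsj h.symm
    have hab' : lo j ≠ Fin.rev s := by
      intro h
      apply hsj'
      rw [← rev_lo, h, Fin.rev_rev]
    obtain ⟨y, hy⟩ := hasXI (α := α) (β := β) (lo j) s (lo_ne_c1 j) (lo_ne_c2 j) hs1 hs2 hab hab'
      (-(mat g (lo j) s))
    have hyR : y ∈ RootSet m α β :=
      Or.inl ⟨lo j, s, -(mat g (lo j) s), lo_ne_c1 j, lo_ne_c2 j, hs1, hs2, hpos, hab', hy⟩
    have hdiag : mat g (lo j) (lo j) = 1 := by rw [hU2 (lo j) (lo j) rfl, if_pos rfl]
    have hentry : ∀ i k : Fin (2 * m + 2), mat (g * y) i k =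
        mat g i k + (if s = k then mat g i (lo j) * (-(mat g (lo j) s)) else 0)
          - (if hi j = k then mat g i (Fin.rev s) * (-(mat g (lo j) s)) else 0) := by
      intro i k
      rw [mat_mul, hy, Cfsg.Agent.Helper93.OmBNR1I.mul_xMat_apply, rev_lo]
    refine ⟨y, Subgroup.subset_closure hyR, ?_, ?_, ?_⟩
    · intro i hij k
      have hrow := hrows i hij
      rw [hentry, hrow k, hrow (lo j), hrow (Fin.rev s)]
      have h1 : lo j ≠ lo i := by
        intro h
        have := lo_injective h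
        rw [this] at hij
        exact lt_irrefl _ hij
      have h2 : Fin.rev s ≠ lo i := by
        intro h
        apply hz
        have hs : s = hi i := by rw [← rev_lo, ← h, Fin.rev_rev]
        have hcol := hadj g (lo i) (lo_ne_c1 i) (lo_ne_c2 i) hrow (lo j)
        rw [rev_lo] at hcol
        rw [hs, hcol, if_neg (lo_ne_hi j i)]
      rw [if_neg h1, if_neg h2]
      simp
    · rw [hentry, if_pos rfl, if_neg (fun h => hsj' h.symm), hdiag]
      ring
    · intro s' hs' hs'j
      rw [hentry, if_neg (fun h => hs' h.symm), if_neg (fun h => hs'j h.symm)]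
      ring

end Cfsg.Agent.Helper72.SqOM
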