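import Cfsg.Agent.Helper77.KW.Defs

/-!
# S4588 piece (L3b) for helper77: the Gram matrix of the PIM-type functions
-/

set_option autoImplicit false

namespace Cfsg.Agent.Helper72.KW

open Cfsg Cfsg.Agent.Helper77.KW
open scoped ComplexConjugate

universe u

variable {K : Type u} [Group K] [Fintype K]

/-- the sum of the exceptional characters, as a function -/
noncomputable def L3b_S {p : ℕ} {M : Ideal AlgInt} (D : PimData p M K) : K → ℂ :=
  ∑ ψ ∈ D.Y, ((ψ : IrrCharacter K) : K → ℂ)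

theorem L3b_pim_eq {p : ℕ} {M : Ideal AlgInt} (D : PimData p M K) (i : Fin D.e) :
    D.pim i = ((D.θ i : IrrCharacter K) : K → ℂ) + ((D.ε i : ℂ) * (D.δ : ℂ)) • L3b_S D := by
  funext g
  simp only [PimData.pim, L3b_S, Pi.add_apply, Pi.smul_apply, Finset.sum_apply, smul_eq_mul]

theorem L3b_inner_θ_S {p : ℕ} {M : Ideal AlgInt} (D : PimData p M K) (i : Fin D.e) :
    classInner ((D.θ i : IrrCharacter K) : K → ℂ) (L3b_S D) = 0 := by
  unfold L3b_S
  rw [Helper74.classInner_sum_right]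
  apply Finset.sum_eq_zero
  intro ψ hψ
  apply Helper74.irr_inner_ne
  intro h
  exact D.hdisj i (h ▸ hψ)

theorem L3b_inner_S_θ {p : ℕ} {M : Ideal AlgInt} (D : PimData p M K) (i : Fin D.e) :
    classInner (L3b_S D) ((D.θ i : IrrCharacter K) : K → ℂ) = 0 := by
  unfold L3b_S
  rw [Helper74.classInner_sum_left]
  apply Finset.sum_eq_zero
  intro ψ hψ
  apply Helper74.irr_inner_ne
  intro h
  exact D.hdisj i (h ▸ hψ)

theorem L3b_inner_S_S {p : ℕ} {M : Ideal AlgInt} (D : PimData p M K) :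
    classInner (L3b_S D) (L3b_S D) = (D.t : ℂ) := by
  classical
  unfold L3b_S
  rw [Helper74.classInner_sum_left]
  have : ∀ ψ ∈ D.Y, classInner ((ψ : IrrCharacter K) : K → ℂ)
      (∑ ψ' ∈ D.Y, ((ψ' : IrrCharacter K) : K → ℂ)) = 1 := by
    intro ψ hψ
    rw [Helper74.classInner_sum_right, Finset.sum_eq_single ψ]
    · exact Helper74.irr_inner_self ψ
    · intro ψ' _ hne
      exact Helper74.irr_inner_ne (Ne.symm hne)
    · intro h; exact absurd hψ h
  rw [Finset.sum_congr rfl this]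
  simp [PimData.t]

theorem L3b_inner_θ_θ {p : ℕ} {M : Ideal AlgInt} (D : PimData p M K) (i j : Fin D.e) :
    classInner ((D.θ i : IrrCharacter K) : K → ℂ) ((D.θ j : IrrCharacter K) : K → ℂ) =
      if i = j then (1 : ℂ) else 0 := by
  by_cases h : i = j
  · subst h
    rw [if_pos rfl]
    exact Helper74.irr_inner_self _
  · rw [if_neg h]
    apply Helper74.irr_inner_ne
    intro h'
    exact h (D.hθ h')

/-- (L3b) the Gram matrix of the PIM-type functions -/
theorem classInner_pim_pim {p : ℕ} {M : Ideal AlgInt} (D : PimData p M K) (i j : Fin D.e) :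
    classInner (D.pim i) (D.pim j) =
      (if i = j then (1 : ℂ) else 0) + (D.ε i : ℂ) * (D.ε j : ℂ) * (D.t : ℂ) := by
  rw [L3b_pim_eq D i, L3b_pim_eq D j]
  rw [Helper74.classInner_add_left, Helper74.classInner_add_right, Helper74.classInner_add_right,
    Helper74.classInner_smul_left, Helper74.classInner_smul_left,
    Helper74.classInner_smul_right, Helper74.classInner_smul_right,
    L3b_inner_θ_θ, L3b_inner_θ_S, L3b_inner_S_θ, L3b_inner_S_S]
  have hδ : (D.δ : ℂ) * (D.δ : ℂ) = 1 := by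
    rcases D.hδ with h | h <;> rw [h] <;> norm_num
  have hconj : conj ((D.ε j : ℂ) * (D.δ : ℂ)) = (D.ε j : ℂ) * (D.δ : ℂ) := by
    rw [map_mul, map_intCast, map_intCast]
  rw [hconj]
  calc (if i = j then (1 : ℂ) else 0) + (D.ε j : ℂ) * (D.δ : ℂ) * 0 +
        ((D.ε i : ℂ) * (D.δ : ℂ) * 0 +
          (D.ε i : ℂ) * (D.δ : ℂ) * ((D.ε j : ℂ) * (D.δ : ℂ) * (D.t : ℂ)))
      = (if i = j then (1 : ℂ) else 0) +
          (D.ε i : ℂ) * (D.ε j : ℂ) * ((D.δ : ℂ) * (D.δ : ℂ)) * (D.t : ℂ) := by ring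
    _ = _ := by rw [hδ, mul_one]

end Cfsg.Agent.Helper72.KW
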