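import Mathlib

/-!
# (FF1) of helper18's S4278/S4279: `-1` is a sum of two squares in a finite field of odd order.
-/

set_option autoImplicit false

namespace Cfsg.Agent.Helper72.G2Inv

open Polynomial

/-- (FF1) `-1` is a sum of two squares in a finite field of odd order
(`FiniteField.exists_root_sum_quadratic` with `X²` and `X² + 1`). -/
theorem exists_sq_add_sq_eq_neg_one {K : Type*} [Field K] [Fintype K] (hK : Odd (Fintype.card K)) :
    ∃ p ρ : K, p * p + ρ * ρ = -1 := by
  have hf2 : degree (X ^ 2 : K[X]) = 2 := degree_X_pow 2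
  have hg2 : degree (X ^ 2 + 1 : K[X]) = 2 := by
    rw [show (1 : K[X]) = C 1 from (map_one C).symm]
    exact degree_X_pow_add_C (by norm_num) 1
  obtain ⟨a, b, hab⟩ := FiniteField.exists_root_sum_quadratic hf2 hg2 (Nat.odd_iff.mp hK)
  refine ⟨a, b, ?_⟩
  simp only [eval_pow, eval_X, eval_add, eval_one] at hab
  linear_combination hab

end Cfsg.Agent.Helper72.G2Inv
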