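import Cfsg.Agent.Helper40.SL2Hom

/-!
# (R2) of helper18's S4278/S4279: `rank1_flip`

If `-c⁻¹ = f²` is a square (and `-1 = p² + ρ²`), an element `m` swapping the two root groups
(`m x(t) m⁻¹ = y(c t)`, `m y(t) m⁻¹ = x(c⁻¹ t)`) is conjugate to `m h(-1)` by an element of `⟨x(t), y(t)⟩`.
-/

set_option autoImplicit false

namespace Cfsg.Agent.Helper72.G2Inv

open Cfsg.Agent.Helper40.SL2Hom

variable {F : Type*} [Field F] {Γ : Type*} [Group Γ] {x y : F → Γ}

/-- `n x(u) n⁻¹ = y(-u)` -/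
theorem n_x (R : Rel x y) (u : F) : w x y 1 * x u * (w x y 1)⁻¹ = y (-u) := by
  have h1 := R.conj 1 u one_ne_zero
  have e1 : -((1 : F)⁻¹ * 1⁻¹ * u) = -u := by simp
  rw [e1] at h1
  exact h1

/-- `h(t) y(v) h(t)⁻¹ = y(t⁻² v)` -/
theorem h_y (R : Rel x y) (t v : F) (ht : t ≠ 0) :
    h x y t * y v * (h x y t)⁻¹ = y (t⁻¹ * t⁻¹ * v) := by
  have e1 : y v = w x y 1 * x (-v) * (w x y 1)⁻¹ := by
    rw [n_x R, neg_neg]
  have e2 : h x y t * w x y 1 = w x y 1 * h x y t⁻¹ := by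
    have := R.n_h' t⁻¹ (inv_ne_zero ht)
    rw [inv_inv] at this
    exact this.symm
  have e3 := R.h_x t⁻¹ (-v) (inv_ne_zero ht)
  calc h x y t * y v * (h x y t)⁻¹
      = (h x y t * w x y 1) * x (-v) * (h x y t * w x y 1)⁻¹ := by rw [e1]; group
    _ = w x y 1 * (h x y t⁻¹ * x (-v) * (h x y t⁻¹)⁻¹) * (w x y 1)⁻¹ := by rw [e2]; group
    _ = y (t⁻¹ * t⁻¹ * v) := by
        rw [e3, n_x R]
        congr 1
        ring

/-- `w(f)² = h(-1)` -/
theorem w_mul_w (R : Rel x y) (f : F) (hf : f ≠ 0) : w x y f * w x y f = h x y (-1) := by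
  have e1 : w x y f = h x y f * w x y 1 := (Rel.h_mul_n f).symm
  have e2 := R.n_h' f hf
  have e3 : h x y f * h x y f⁻¹ = 1 := by
    rw [← R.h_mul _ _ hf (inv_ne_zero hf), mul_inv_cancel₀ hf, Rel.h_one]
  calc w x y f * w x y f = h x y f * (w x y 1 * h x y f) * w x y 1 := by rw [e1]; group
    _ = (h x y f * h x y f⁻¹) * (w x y 1 * w x y 1) := by rw [e2]; group
    _ = h x y (-1) := by rw [e3, R.n_sq, one_mul]

/-- `h(-1)² = 1` -/
theorem h_neg_one_sq (R : Rel x y) : h x y (-1) * h x y (-1) = 1 := by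
  rw [← R.h_mul _ _ (by simp) (by simp)]
  simp [Rel.h_one]

/-- the matrix `[[p, fρ], [ρ/f, -p]]` of determinant `-(p² + ρ²) = 1` -/
def Pm (f p ρ : F) (hf : f ≠ 0) (hs : p * p + ρ * ρ = -1) : Matrix.SpecialLinearGroup (Fin 2) F :=
  ⟨!![p, f * ρ; ρ / f, -p], by
    rw [Matrix.det_fin_two_of]
    field_simp
    linear_combination (-1 : F) * hs⟩

theorem Pm_coe (f p ρ : F) (hf : f ≠ 0) (hs : p * p + ρ * ρ = -1) :
    ((Pm f p ρ hf hs : Matrix.SpecialLinearGroup (Fin 2) F) : Matrix (Fin 2) (Fin 2) F) =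
      !![p, f * ρ; ρ / f, -p] := rfl

/-- `Wf * P * Wf = P` for `Wf = U f * L (-f⁻¹) * U f = [[0, f], [-f⁻¹, 0]]` -/
theorem Wf_mul_Pm_mul_Wf (f p ρ : F) (hf : f ≠ 0) (hs : p * p + ρ * ρ = -1) :
    (U f * L (-f⁻¹) * U f) * Pm f p ρ hf hs * (U f * L (-f⁻¹) * U f) = Pm f p ρ hf hs := by
  apply Subtype.ext
  simp only [Matrix.SpecialLinearGroup.coe_mul, U_coe, L_coe, Pm_coe]
  ext i j
  fin_cases i <;> fin_cases j <;>
    simp [Matrix.mul_apply, Fin.sum_univ_two] <;> field_simp <;> ring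

/-- (R2) if `-c⁻¹ = f²` is a square (and `-1` is a sum of two squares in `F`), `m` is conjugate to `m h(-1)` by an
element of `⟨x(t), y(t)⟩`. -/
theorem rank1_flip (R : Rel x y) (m : Γ) (c f p ρ : F) (hf : f ≠ 0) (hc : c * (f * f) = -1)
    (hs : p * p + ρ * ρ = -1)
    (hx : ∀ t, m * x t * m⁻¹ = y (c * t)) (hy : ∀ t, m * y t * m⁻¹ = x (c⁻¹ * t)) :
    ∃ g ∈ Subgroup.closure (Set.range x ∪ Set.range y), g * m * g⁻¹ = m * h x y (-1) := by
  have hc0 : c ≠ 0 := by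
    rintro rfl
    rw [zero_mul] at hc
    exact absurd hc (by norm_num)
  have hcinv : c⁻¹ = -(f * f) := by
    calc c⁻¹ = c⁻¹ * -(c * (f * f)) := by rw [hc]; ring
      _ = -(f * f) := by field_simp
  have hc' : c = -(f⁻¹ * f⁻¹) := by
    calc c = c * (f * f) * (f⁻¹ * f⁻¹) := by field_simp
      _ = -(f⁻¹ * f⁻¹) := by rw [hc]; ring
  set n := w x y 1 with hn
  set C := Subgroup.closure (Set.range x ∪ Set.range y) with hC
  have hxC : ∀ t, x t ∈ C := fun t => Subgroup.subset_closure (Or.inl ⟨t, rfl⟩)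
  have hyC : ∀ t, y t ∈ C := fun t => Subgroup.subset_closure (Or.inr ⟨t, rfl⟩)
  have hwC : ∀ t, w x y t ∈ C := fun t => C.mul_mem (C.mul_mem (hxC _) (hyC _)) (hxC _)
  have hhC : ∀ t, h x y t ∈ C := fun t => C.mul_mem (hwC _) (C.inv_mem (hwC _))
  -- `z₀` centralizes `x`, `y`
  set z₀ := (h x y f)⁻¹ * m * n⁻¹ with hz₀
  have hz₀x : ∀ u, z₀ * x u * z₀⁻¹ = x u := by
    intro u
    have e1 := R.conj' 1 u one_ne_zero
    have e1' : -((1 : F)⁻¹ * 1⁻¹ * u) = -u := by simp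
    rw [e1'] at e1
    have e2 := hy (-u)
    have e3 := R.h_x f u hf
    have e4 : c⁻¹ * -u = f * f * u := by rw [hcinv]; ring
    rw [e4] at e2
    calc z₀ * x u * z₀⁻¹
        = (h x y f)⁻¹ * (m * (n⁻¹ * x u * n) * m⁻¹) * h x y f := by rw [hz₀]; group
      _ = (h x y f)⁻¹ * (h x y f * x u * (h x y f)⁻¹) * h x y f := by rw [e1, e2, e3]
      _ = x u := by group
  have hz₀y : ∀ v, z₀ * y v * z₀⁻¹ = y v := by
    intro v
    have e1 := R.conj_y' 1 v one_ne_zero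
    have e1' : -((1 : F) * 1 * v) = -v := by simp
    rw [e1'] at e1
    have e2 := hx (-v)
    have e3 := h_y R f v hf
    have e4 : c * -v = f⁻¹ * f⁻¹ * v := by rw [hc']; ring
    rw [e4] at e2
    calc z₀ * y v * z₀⁻¹
        = (h x y f)⁻¹ * (m * (n⁻¹ * y v * n) * m⁻¹) * h x y f := by rw [hz₀]; group
      _ = (h x y f)⁻¹ * (h x y f * y v * (h x y f)⁻¹) * h x y f := by rw [e1, e2, e3]
      _ = y v := by group
  have hcent : C ≤ Subgroup.centralizer ({z₀} : Set Γ) := by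
    rw [hC, Subgroup.closure_le]
    rintro k (⟨t, rfl⟩ | ⟨t, rfl⟩)
    · rw [SetLike.mem_coe, Subgroup.mem_centralizer_iff]
      intro z hz
      rw [Set.mem_singleton_iff] at hz
      subst hz
      have := hz₀x t
      calc z₀ * x t = (z₀ * x t * z₀⁻¹) * z₀ := by group
        _ = x t * z₀ := by rw [this]
    · rw [SetLike.mem_coe, Subgroup.mem_centralizer_iff]
      intro z hz
      rw [Set.mem_singleton_iff] at hz
      subst hz
      have := hz₀y t
      calc z₀ * y t = (z₀ * y t * z₀⁻¹) * z₀ := by group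
        _ = y t * z₀ := by rw [this]
  have hcomm : ∀ k ∈ C, z₀ * k = k * z₀ := fun k hk =>
    (Subgroup.mem_centralizer_iff.mp (hcent hk)) z₀ (Set.mem_singleton _)
  -- `m = z₀ w(f)`
  have hm : m = z₀ * w x y f := by
    have e1 : m = h x y f * z₀ * n := by rw [hz₀]; group
    have e2 := hcomm (h x y f) (hhC f)
    calc m = h x y f * z₀ * n := e1
      _ = z₀ * (h x y f * n) := by rw [← e2]; group
      _ = z₀ * w x y f := by rw [hn, Rel.h_mul_n]
  -- the conjugating element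
  set g := R.hom (Pm f p ρ hf hs) with hg
  have hgC : g ∈ C := by
    rw [hC, ← R.range_hom]
    exact ⟨_, rfl⟩
  have hWf : R.hom (U f * L (-f⁻¹) * U f) = w x y f := by
    rw [map_mul, map_mul, R.hom_U, R.hom_L]
    rfl
  have hgw : w x y f * g * w x y f = g := by
    rw [← hWf, hg, ← map_mul, ← map_mul, Wf_mul_Pm_mul_Wf]
  have hgw' : g * w x y f * g⁻¹ = (w x y f)⁻¹ := by
    calc g * w x y f * g⁻¹ = (w x y f)⁻¹ * (w x y f * g * w x y f) * g⁻¹ := by group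
      _ = (w x y f)⁻¹ := by rw [hgw]; group
  have hwinv : (w x y f)⁻¹ = w x y f * h x y (-1) := by
    apply inv_eq_of_mul_eq_one_right
    rw [← mul_assoc, w_mul_w R f hf, h_neg_one_sq R]
  refine ⟨g, hgC, ?_⟩
  have e1 := hcomm g hgC
  calc g * m * g⁻¹ = (g * z₀) * w x y f * g⁻¹ := by rw [hm]; group
    _ = z₀ * (g * w x y f * g⁻¹) := by rw [← e1]; group
    _ = z₀ * (w x y f * h x y (-1)) := by rw [hgw', hwinv]
    _ = m * h x y (-1) := by rw [hm]; group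

end Cfsg.Agent.Helper72.G2Inv
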