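import Mathlib
import Cfsg.Agent.Helper15.MixDefs

/-!
# Basic facts about helper15's configuration `Cfg G p a Q x` (S4017), used by helper72's pieces
-/

set_option autoImplicit false
set_option linter.unusedSectionVars false

namespace Cfsg.Agent.Helper72.Mix

open Subgroup Cfsg.Agent.Helper15.Mix

variable {G : Type*} [Group G] [Finite G] {p a : ℕ} {Q : Subgroup G} {x : G}

/-! ## Generalities -/

/-- `g ∈ H` as soon as two coprime powers of `g` lie in `H`. -/
theorem mem_of_pow_mem_of_coprime {G : Type*} [Group G] (H : Subgroup G) {g : G} {m n : ℕ}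
    (hc : Nat.Coprime m n) (h1 : g ^ m ∈ H) (h2 : g ^ n ∈ H) : g ∈ H := by
  obtain ⟨a, b, hab⟩ := Nat.isCoprime_iff_coprime.mpr hc
  have : g = (g ^ m) ^ a * (g ^ n) ^ b := by
    rw [← zpow_natCast, ← zpow_natCast, ← zpow_mul, ← zpow_mul, ← zpow_add,
      mul_comm (m : ℤ), mul_comm (n : ℤ), hab, zpow_one]
  rw [this]
  exact H.mul_mem (H.zpow_mem h1 a) (H.zpow_mem h2 b)

/-- An element whose order has only the prime divisors `2` and `p` has two coprime powers, one a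
`2`-element and one a `p`-element. -/
theorem exists_two_p_powers {G : Type*} [Group G] (hp : p.Prime) (hp2 : p ≠ 2) {g : G}
    (hpos : 0 < orderOf g)
    (hg : ∀ r : ℕ, r.Prime → r ∣ orderOf g → r = p ∨ r = 2) :
    ∃ m n : ℕ, Nat.Coprime m n ∧ (∃ i : ℕ, orderOf (g ^ m) = 2 ^ i) ∧ IsPElt p (g ^ n) := by
  set o := orderOf g with ho
  have ho0 : o ≠ 0 := hpos.ne'
  set i := o.factorization 2 with hi
  set m := o / 2 ^ i with hm
  have hmul : 2 ^ i * m = o := Nat.ordProj_mul_ordCompl_eq_self o 2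
  have hm2 : ¬ 2 ∣ m := Nat.not_dvd_ordCompl Nat.prime_two ho0
  have hm0 : m ≠ 0 := by
    rintro h0
    rw [h0, mul_zero] at hmul
    exact ho0 hmul.symm
  have hmdvd : m ∣ o := Dvd.intro_left _ hmul
  have hmp : m = p ^ m.primeFactorsList.length := by
    apply Nat.eq_prime_pow_of_unique_prime_dvd hm0
    intro d hd hdm
    rcases hg d hd (hdm.trans hmdvd) with h | h
    · exact h
    · exact absurd (h ▸ hdm) hm2
  refine ⟨m, 2 ^ i, ?_, ?_, ?_⟩
  · rw [hmp]
    exact Nat.Coprime.pow _ _ ((Nat.coprime_primes hp Nat.prime_two).mpr hp2)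
  · have h1 : (g ^ m) ^ (2 ^ i) = 1 := by
      rw [← pow_mul, mul_comm, hmul, ho, pow_orderOf_eq_one]
    obtain ⟨k, _, hk⟩ := (Nat.dvd_prime_pow Nat.prime_two).1 (orderOf_dvd_of_pow_eq_one h1)
    exact ⟨k, hk⟩
  · have h1 : (g ^ (2 ^ i)) ^ m = 1 := by
      rw [← pow_mul, hmul, ho, pow_orderOf_eq_one]
    have h2 : orderOf (g ^ (2 ^ i)) ∣ p ^ m.primeFactorsList.length := by
      rw [← hmp]
      exact orderOf_dvd_of_pow_eq_one h1
    obtain ⟨k, _, hk⟩ := (Nat.dvd_prime_pow hp).1 h2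
    exact ⟨k, hk⟩

/-- A nontrivial `p`-element has order divisible by `p`. -/
theorem IsPElt.dvd_orderOf {G : Type*} [Group G] {g : G} (hg : IsPElt p g) (h1 : g ≠ 1) :
    p ∣ orderOf g := by
  obtain ⟨j, hj⟩ := hg
  have hj0 : j ≠ 0 := by
    rintro rfl
    rw [pow_zero, orderOf_eq_one_iff] at hj
    exact h1 hj
  rw [hj]
  exact dvd_pow_self p hj0

/-- An element that is both a `2`-element and a `p`-element (`p` odd) is trivial. -/
theorem eq_one_of_two_of_p {G : Type*} [Group G] (hp : p.Prime) (hp2 : p ≠ 2) {g : G} {i : ℕ}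
    (h2 : orderOf g = 2 ^ i) (hg : IsPElt p g) : g = 1 := by
  by_contra h1
  have hd := IsPElt.dvd_orderOf hg h1
  rw [h2] at hd
  exact hp2 ((Nat.prime_dvd_prime_iff_eq hp Nat.prime_two).mp (hp.dvd_of_dvd_pow hd))

/-- Conjugates of `p`-elements are `p`-elements. -/
theorem IsPElt.conj {G : Type*} [Group G] {g : G} (hg : IsPElt p g) (c : G) :
    IsPElt p (c * g * c⁻¹) := by
  obtain ⟨j, hj⟩ := hg
  refine ⟨j, ?_⟩
  rw [← hj, ← MulAut.conj_apply]
  exact MulEquiv.orderOf_eq (MulAut.conj c) g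

/-- Powers of `p`-elements are `p`-elements. -/
theorem IsPElt.pow {G : Type*} [Group G] (hp : p.Prime) {g : G} (hg : IsPElt p g) (k : ℕ) :
    IsPElt p (g ^ k) := by
  obtain ⟨j, hj⟩ := hg
  have : orderOf (g ^ k) ∣ p ^ j := by
    rw [← hj]
    exact orderOf_pow_dvd k
  obtain ⟨l, _, hl⟩ := (Nat.dvd_prime_pow hp).1 this
  exact ⟨l, hl⟩

/-- A `p`-element generates a `p`-group. -/
theorem IsPElt.isPGroup_zpowers {G : Type*} [Group G] {g : G} (hg : IsPElt p g) :
    IsPGroup p (zpowers g) := by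
  obtain ⟨j, hj⟩ := hg
  apply IsPGroup.of_card (n := j)
  rw [Nat.card_zpowers, hj]

/-- The elements of a finite `p`-group are `p`-elements. -/
theorem isPElt_of_mem_isPGroup {G : Type*} [Group G] (hp : p.Prime) {H : Subgroup G}
    (hH : IsPGroup p H) {g : G} (hg : g ∈ H) : IsPElt p g := by
  obtain ⟨k, hk⟩ := hH ⟨g, hg⟩
  have h1 : g ^ p ^ k = 1 := by
    have := congrArg Subtype.val hk
    simpa using this
  obtain ⟨l, _, hl⟩ := (Nat.dvd_prime_pow hp).1 (orderOf_dvd_of_pow_eq_one h1)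
  exact ⟨l, hl⟩

/-! ## Facts from `MC` -/

theorem MC.three_le (h : MC G p a) : 3 ≤ p := by
  have h1 : 2 ^ 2 ≤ 2 ^ a := Nat.pow_le_pow_right (by norm_num) h.ha
  have := h.hpa
  omega

theorem MC.ne_two (h : MC G p a) : p ≠ 2 := by
  have := MC.three_le h
  omega

/-! ## Facts from `Cfg` -/

theorem Cfg.Q_comm (h : Cfg G p a Q x) : ∀ u ∈ Q, ∀ v ∈ Q, u * v = v * u := by
  intro u hu v hv
  have h1 := h.qexp u hu
  have h2 := h.qexp v hv
  have h3 := h.qexp (u * v) (Q.mul_mem hu hv)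
  have hu' : u⁻¹ = u := inv_eq_of_mul_eq_one_left h1
  have hv' : v⁻¹ = v := inv_eq_of_mul_eq_one_left h2
  have h4 : (u * v)⁻¹ = u * v := inv_eq_of_mul_eq_one_left h3
  rw [mul_inv_rev, hu', hv'] at h4
  exact h4.symm

theorem Cfg.four_le_card (h : Cfg G p a Q x) : 4 ≤ Nat.card Q := by
  rw [h.qcard]
  calc 4 = 2 ^ 2 := rfl
    _ ≤ 2 ^ a := Nat.pow_le_pow_right (by norm_num) h.mc.ha

theorem Cfg.isPGroup_Q (h : Cfg G p a Q x) : IsPGroup 2 Q := IsPGroup.of_card h.qcard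

/-- `Q` has a third element besides `1` and `t`. -/
theorem Cfg.exists_ne (h : Cfg G p a Q x) (t : G) : ∃ v ∈ Q, v ≠ 1 ∧ v ≠ t := by
  classical
  by_contra hcon
  push Not at hcon
  have hsub : (Q : Set G) ⊆ ({1, t} : Set G) := by
    intro v hv
    by_cases h1 : v = 1
    · left; exact h1
    · right; exact hcon v hv h1
  have hle : Nat.card Q ≤ 2 := by
    have h1 : Nat.card Q = (Q : Set G).ncard := rfl
    rw [h1]
    calc (Q : Set G).ncard ≤ ({1, t} : Set G).ncard := Set.ncard_le_ncard hsub (Set.toFinite _)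
      _ ≤ ({t} : Set G).ncard + 1 := Set.ncard_insert_le 1 {t}
      _ = 2 := by rw [Set.ncard_singleton]
  have := Cfg.four_le_card h
  omega

theorem Cfg.Q_ne_bot (h : Cfg G p a Q x) : Q ≠ ⊥ := by
  rintro rfl
  have := Cfg.four_le_card h
  rw [Subgroup.card_bot] at this
  omega

theorem Cfg.x_not_mem_centralizer (h : Cfg G p a Q x) : x ∉ centralizer (Q : Set G) := by
  intro hx
  obtain ⟨t, ht, ht1, -⟩ := Cfg.exists_ne h 1
  obtain ⟨v, hv, hv1, hvt⟩ := Cfg.exists_ne h t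
  obtain ⟨k, hk⟩ := h.xtrans t ht v hv ht1 hv1
  have hxk : x ^ k ∈ centralizer (Q : Set G) := Subgroup.pow_mem _ hx k
  have := hxk t ht
  apply hvt
  rw [← hk, ← this, mul_inv_cancel_right]

theorem Cfg.x_ne_one (h : Cfg G p a Q x) : x ≠ 1 := by
  rintro rfl
  exact Cfg.x_not_mem_centralizer h (Subgroup.one_mem _)

theorem Cfg.two_dvd_card_Q (h : Cfg G p a Q x) : 2 ∣ Nat.card Q := by
  rw [h.qcard]
  exact dvd_pow_self 2 (by have := h.mc.ha; omega)

theorem Cfg.Q_ne_top (h : Cfg G p a Q x) : Q ≠ ⊤ := by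
  rintro rfl
  have h1 : Nat.card G = 2 ^ a := by
    rw [← h.qcard, Subgroup.card_top]
  have h2 := h.mc.hpG
  rw [h1] at h2
  exact MC.ne_two h.mc ((Nat.prime_dvd_prime_iff_eq h.mc.hp Nat.prime_two).mp
    (h.mc.hp.dvd_of_dvd_pow h2))

/-- The normalizer of a proper nontrivial subgroup is proper. -/
theorem Cfg.normalizer_ne_top (h : Cfg G p a Q x) (H : Subgroup G) (h1 : H ≠ ⊥) (h2 : H ≠ ⊤) :
    normalizer (H : Set G) ≠ ⊤ := by
  intro htop
  have hn : H.Normal := Subgroup.normalizer_eq_top_iff.mp htop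
  have := h.simple
  rcases hn.eq_bot_or_eq_top with h3 | h3
  · exact h1 h3
  · exact h2 h3

theorem Cfg.N_ne_top (h : Cfg G p a Q x) : normalizer (Q : Set G) ≠ ⊤ :=
  Cfg.normalizer_ne_top h Q (Cfg.Q_ne_bot h) (Cfg.Q_ne_top h)

/-- A subgroup containing `Q` and `x`-like elements: even and not a `2`-group. -/
theorem Cfg.not_isPGroup_two_of_mem (h : Cfg G p a Q x) (H : Subgroup G) {y : G} (hy : y ∈ H)
    (hyp : IsPElt p y) (hy1 : y ≠ 1) : ¬ IsPGroup 2 H := by
  intro h2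
  have hy2 : IsPElt 2 y := isPElt_of_mem_isPGroup Nat.prime_two h2 hy
  obtain ⟨i, hi⟩ := hy2
  exact hy1 (eq_one_of_two_of_p h.mc.hp (MC.ne_two h.mc) hi hyp)

/-- Prime divisors of the order of a proper subgroup containing `Q` and a nontrivial `p`-element. -/
theorem Cfg.prime_dvd_card (h : Cfg G p a Q x) (H : Subgroup G) (hH : H ≠ ⊤) (hQH : Q ≤ H) {y : G}
    (hy : y ∈ H) (hyp : IsPElt p y) (hy1 : y ≠ 1) :
    ∀ r : ℕ, r.Prime → r ∣ Nat.card H → r = p ∨ r = 2 :=
  h.mc.f1 H hH ((Cfg.two_dvd_card_Q h).trans (Subgroup.card_dvd_of_le hQH))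
    (Cfg.not_isPGroup_two_of_mem h H hy hyp hy1)

theorem Cfg.prime_dvd_card_N (h : Cfg G p a Q x) :
    ∀ r : ℕ, r.Prime → r ∣ Nat.card (normalizer (Q : Set G)) → r = p ∨ r = 2 :=
  Cfg.prime_dvd_card h _ (Cfg.N_ne_top h) le_normalizer h.xN h.xp (Cfg.x_ne_one h)

/-- A `2`-subgroup containing `Q` equals `Q`. -/
theorem Cfg.eq_of_isPGroup_two (h : Cfg G p a Q x) (H : Subgroup G) (hH : IsPGroup 2 H)
    (hQH : Q ≤ H) : H = Q := by
  obtain ⟨n, hn⟩ := hH.exists_card_eq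
  have hdvd : 2 ^ n ∣ Nat.card G := hn ▸ Subgroup.card_subgroup_dvd_card H
  have hG0 : Nat.card G ≠ 0 := Nat.card_pos.ne'
  have hle : n ≤ a := by
    rw [← h.mc.hcard]
    exact (Nat.Prime.pow_dvd_iff_le_factorization Nat.prime_two hG0).mp hdvd
  symm
  apply Subgroup.eq_of_le_of_card_ge hQH
  rw [hn, h.qcard]
  exact Nat.pow_le_pow_right (by norm_num) hle

/-- A `2`-element of `N(Q)` lies in `Q`. -/
theorem Cfg.mem_Q_of_two_elt (h : Cfg G p a Q x) {y : G} (hy : y ∈ normalizer (Q : Set G))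
    {i : ℕ} (hi : orderOf y = 2 ^ i) : y ∈ Q := by
  have hZ : IsPGroup 2 (zpowers y) := by
    apply IsPGroup.of_card (n := i)
    rw [Nat.card_zpowers, hi]
  have hZN : zpowers y ≤ normalizer (Q : Set G) := by
    rw [zpowers_le]; exact hy
  have hsup : IsPGroup 2 (zpowers y ⊔ Q : Subgroup G) :=
    IsPGroup.to_sup_of_normal_right' hZ (Cfg.isPGroup_Q h) hZN
  have := Cfg.eq_of_isPGroup_two h _ hsup le_sup_right
  rw [← this]
  exact (le_sup_left : zpowers y ≤ _) (mem_zpowers y)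

/-- `C(Q) ≤ N(Q)`. -/
theorem centralizer_le_normalizer' {G : Type*} [Group G] (Q : Subgroup G) :
    centralizer (Q : Set G) ≤ normalizer (Q : Set G) := by
  intro g hg
  rw [mem_normalizer_iff]
  intro v
  constructor
  · intro hv
    have := hg v hv
    rw [← this, mul_inv_cancel_right]
    exact hv
  · intro hv
    have := hg _ hv
    -- (g v g⁻¹) g = g (g v g⁻¹)
    have e : v = g * v * g⁻¹ := by
      have e1 : g * v * g⁻¹ * g = g * (g * v * g⁻¹) := this
      have e2 : g * v = g * (g * v * g⁻¹) := by rw [← e1]; group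
      exact mul_left_cancel e2
    rw [e]; exact hv

/-- `N(Q)` normalizes `C(Q)`. -/
theorem conj_mem_centralizer_of_mem_normalizer {G : Type*} [Group G] (Q : Subgroup G) {g y : G}
    (hg : g ∈ normalizer (Q : Set G)) (hy : y ∈ centralizer (Q : Set G)) :
    g * y * g⁻¹ ∈ centralizer (Q : Set G) := by
  intro v hv
  have hv' : g⁻¹ * v * g ∈ Q := by
    have := (mem_normalizer_iff''.mp hg v).mp hv
    exact this
  have := hy _ hv'
  -- (g⁻¹ v g) y = y (g⁻¹ v g)
  calc v * (g * y * g⁻¹) = g * ((g⁻¹ * v * g) * y) * g⁻¹ := by group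
    _ = g * (y * (g⁻¹ * v * g)) * g⁻¹ := by rw [this]
    _ = g * y * g⁻¹ * v := by group

end Cfsg.Agent.Helper72.Mix
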