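import Mathlib
import Cfsg.Agent.Helper15.MixDefs
import Cfsg.Agent.Helper81.MixH1
import Cfsg.Agent.Helper72.MixBase

/-!
# Piece (C1) of S4017 (helper15's plan, board #5926/#5944)
-/

set_option autoImplicit false
set_option linter.unusedSectionVars false

namespace Cfsg.Agent.Helper72.Mix

open Subgroup Cfsg.Agent.Helper15.Mix

variable {G : Type*} [Group G] [Finite G] {p a : ℕ} {Q : Subgroup G} {x : G}

/-- Every `g ∈ N(Q)` has two coprime powers, one in `Q` and one a `p`-element of `N(Q)`. -/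
theorem Cfg.exists_decomp_N (h : Cfg G p a Q x) {g : G} (hg : g ∈ normalizer (Q : Set G)) :
    ∃ m n : ℕ, Nat.Coprime m n ∧ g ^ m ∈ Q ∧ IsPElt p (g ^ n) := by
  have hdvd : orderOf g ∣ Nat.card (normalizer (Q : Set G)) := by
    have := orderOf_dvd_natCard (⟨g, hg⟩ : normalizer (Q : Set G))
    rwa [Subgroup.orderOf_mk] at this
  obtain ⟨m, n, hc, ⟨i, hi⟩, hpn⟩ := exists_two_p_powers h.mc.hp (MC.ne_two h.mc) (orderOf_pos g)
    (fun r hr hrd => Cfg.prime_dvd_card_N h r hr (hrd.trans hdvd))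
  exact ⟨m, n, hc, Cfg.mem_Q_of_two_elt h (Subgroup.pow_mem _ hg m) hi, hpn⟩

/-- `Q ≤ C(Q)`. -/
theorem Cfg.Q_le_centralizer (h : Cfg G p a Q x) : Q ≤ centralizer (Q : Set G) := by
  intro u hu v hv
  exact Cfg.Q_comm h v hv u hu

theorem Cfg.card_Q_eq (h : Cfg G p a Q x) : Nat.card Q = p + 1 := by
  rw [h.qcard, h.mc.hpa]

/-- A `p`-element of `N(Q)` commuting with some `t ∈ Q \ 1` centralizes `Q`. -/
theorem Cfg.pelt_mem_centralizer (h : Cfg G p a Q x) {g t : G}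
    (hg : g ∈ normalizer (Q : Set G)) (hgp : IsPElt p g) (ht : t ∈ Q) (ht1 : t ≠ 1)
    (hgt : g * t = t * g) : g ∈ centralizer (Q : Set G) := by
  by_contra hgc
  obtain ⟨v, hv, hv1, hvt⟩ := Cfg.exists_ne h t
  obtain ⟨k, hk⟩ := Cfsg.Agent.Helper81.Mix.trans_of_pelt h.mc.hp Q (Cfg.card_Q_eq h) hg hgp hgc
    t ht v hv ht1 hv1
  apply hvt
  rw [← hk]
  have hc : Commute g t := hgt
  have hck : g ^ k * t = t * g ^ k := (hc.pow_left k)
  rw [hck, mul_inv_cancel_right]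

/-- (C1) -/
theorem Cfg.mem_centralizer_of_commute (h : Cfg G p a Q x) {g t : G}
    (hg : g ∈ normalizer (Q : Set G)) (ht : t ∈ Q) (ht1 : t ≠ 1) (hgt : g * t = t * g) :
    g ∈ centralizer (Q : Set G) := by
  obtain ⟨m, n, hc, hm, hn⟩ := Cfg.exists_decomp_N h hg
  apply mem_of_pow_mem_of_coprime _ hc (Cfg.Q_le_centralizer h hm)
  apply Cfg.pelt_mem_centralizer h (Subgroup.pow_mem _ hg n) hn ht ht1
  have hcm : Commute g t := hgt
  exact hcm.pow_left n

end Cfsg.Agent.Helper72.Mix
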