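import Mathlib
import Cfsg.Agent.Helper15.MixDefs
import Cfsg.Agent.Helper91.MixC2
import Cfsg.Agent.Helper72.MixBase
import Cfsg.Agent.Helper72.MixC1

/-!
# Piece (C4) of S4017 (helper15's plan, board #5926/#5944): `N(Q)` centralizes `Y`
-/

set_option autoImplicit false
set_option linter.unusedSectionVars false

namespace Cfsg.Agent.Helper72.Mix

open Subgroup Cfsg.Agent.Helper15.Mix

variable {G : Type*} [Group G] [Finite G] {p a : ℕ} {Q : Subgroup G} {x : G}

/-- (C2), unprimed (helper91's `isPGroup_W'` glued with (C1)). -/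
theorem Cfg.isPGroup_W (h : Cfg G p a Q x) {t : G} (ht : t ∈ Q) (ht1 : t ≠ 1) :
    IsPGroup p (W p t) :=
  Cfsg.Agent.Helper91.Mix.isPGroup_W' h
    (fun _ _ hg ht ht1 hgt => Cfg.mem_centralizer_of_commute h hg ht ht1 hgt) ht ht1

theorem Y_le_centralizer {G : Type*} [Group G] (p : ℕ) (Q : Subgroup G) :
    Y p Q ≤ centralizer (Q : Set G) := by
  rw [Y, closure_le]
  rintro g ⟨hg, -⟩
  exact hg

theorem Y_le_W' {G : Type*} [Group G] (p : ℕ) (Q : Subgroup G) {t : G} (ht : t ∈ Q) :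
    Y p Q ≤ W p t := by
  rw [Y, W]
  apply Subgroup.closure_mono
  rintro g ⟨hg, hgp⟩
  exact ⟨(hg t ht).symm, hgp⟩

theorem Cfg.isPGroup_Y (h : Cfg G p a Q x) : IsPGroup p (Y p Q) := by
  obtain ⟨t, ht, ht1, -⟩ := Cfg.exists_ne h 1
  exact (Cfg.isPGroup_W h ht ht1).to_le (Y_le_W' p Q ht)

/-- Conjugation by `g ∈ N(Q)` maps `Y` into `Y`. -/
theorem conj_mem_Y {G : Type*} [Group G] (p : ℕ) (Q : Subgroup G) {g : G}
    (hg : g ∈ normalizer (Q : Set G)) : ∀ y ∈ Y p Q, g * y * g⁻¹ ∈ Y p Q := by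
  intro y hy
  have hmap : (Y p Q).map (MulAut.conj g).toMonoidHom ≤ Y p Q := by
    rw [Y, MonoidHom.map_closure, closure_le]
    rintro _ ⟨z, ⟨hz, hzp⟩, rfl⟩
    apply Subgroup.subset_closure
    refine ⟨?_, ?_⟩
    · exact conj_mem_centralizer_of_mem_normalizer Q hg hz
    · exact IsPElt.conj hzp g
  have := hmap (Subgroup.mem_map_of_mem _ hy)
  simpa [MulAut.conj_apply] using this

theorem normalizer_le_normalizer_Y {G : Type*} [Group G] (p : ℕ) (Q : Subgroup G) :
    normalizer (Q : Set G) ≤ normalizer ((Y p Q : Subgroup G) : Set G) := by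
  intro g hg
  rw [mem_normalizer_iff]
  intro y
  constructor
  · exact conj_mem_Y p Q hg y
  · intro hy
    have hg' : g⁻¹ ∈ normalizer (Q : Set G) := Subgroup.inv_mem _ hg
    have := conj_mem_Y p Q hg' _ hy
    have e : g⁻¹ * (g * y * g⁻¹) * g⁻¹⁻¹ = y := by group
    rwa [e] at this

/-- (C4) -/
theorem Cfg.normalizer_le_centralizer_Y (h : Cfg G p a Q x) :
    normalizer (Q : Set G) ≤ centralizer ((Y p Q : Subgroup G) : Set G) := by
  intro g hg
  obtain ⟨m, n, hc, hm, hn⟩ := Cfg.exists_decomp_N h hg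
  apply mem_of_pow_mem_of_coprime _ hc
  · -- the 2-part lies in `Q`, and `Y ≤ C(Q)`
    intro y hy
    exact ((Y_le_centralizer p Q hy) _ hm).symm
  · -- the p-part: `⟨g^n⟩ Y` is a p-group, hence abelian
    have hgn : g ^ n ∈ normalizer (Q : Set G) := Subgroup.pow_mem _ hg n
    have hZ : IsPGroup p (zpowers (g ^ n)) := IsPElt.isPGroup_zpowers hn
    have hZN : zpowers (g ^ n) ≤ normalizer ((Y p Q : Subgroup G) : Set G) := by
      rw [zpowers_le]
      exact normalizer_le_normalizer_Y p Q hgn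
    have hsup : IsPGroup p (zpowers (g ^ n) ⊔ Y p Q : Subgroup G) :=
      IsPGroup.to_sup_of_normal_right' hZ (Cfg.isPGroup_Y h) hZN
    intro y hy
    exact h.mc.pab _ hsup y ((le_sup_right : Y p Q ≤ _) hy) (g ^ n)
      ((le_sup_left : zpowers (g ^ n) ≤ _) (mem_zpowers _))

end Cfsg.Agent.Helper72.Mix
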