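import Cfsg.Agent.Helper57.BP.PartI
import Cfsg.Agent.Helper81.BHC4

/-!
# (P17) of helper16's S4705: the `P`-sum of a non-exceptional character of the block of an
invariant linear `θ`.
-/

set_option autoImplicit false
set_option linter.style.haveILetI false
set_option linter.unusedVariables false
set_option linter.unusedSectionVars false

namespace Cfsg.Agent.Helper72.B66

open Cfsg Cfsg.Agent.Helper16 Cfsg.Agent.Helper16.DefOne Cfsg.Agent.Helper82.DefOne
  Cfsg.Agent.Helper77.DefOne Cfsg.Agent.Helper57.BH Cfsg.Agent.Helper57.BP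
open scoped ComplexConjugate

universe u

variable {G : Type u} [Group G] [Fintype G] {p : ℕ} [Fact p.Prime] (P : Sylow p G)

/-- (P17) the `P`-sum of a non-exceptional character of the block of an invariant linear `θ` -/
theorem pSum_X_lin (hP : Nat.card P = p) (θ : IrrCharacter (cen P)) (hθ : IsCanon P θ)
    (hθ1 : charDegree (θ : cen P → ℂ) = 1) (hinv : ∀ n : nor P, n • θ = θ)
    {X Y : Set (IrrCharacter G)} {ε : IrrCharacter G → ℤ} {δ : ℤ} (D : IsRData P θ X Y ε δ)
    (χ : IrrCharacter G) (hχ : χ ∈ X) :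
    pSum P (χ : G → ℂ) = (charDegree (χ : G → ℂ) : ℂ) + ((p : ℂ) - 1) * (ε χ : ℂ) := by
  haveI : Fintype (P : Subgroup G) := Fintype.ofFinite _
  haveI : Fintype (cen P) := Fintype.ofFinite _
  rw [Helper81.BH.pSum_eq_sum, Helper81.BH.sum_P_split P hP (χ : G → ℂ) (ε χ : ℂ),
    irr_one_eq_natCast χ]
  intro x hx hx1
  have hc := dvd_orderOf_of_mem P hP x hx hx1
  have h1 := D.valX χ hχ ⟨x, le_cen P hP hx⟩ hc
  have horb : MulAction.orbit (nor P) θ = {θ} := by
    ext φ
    constructor
    · rintro ⟨n, rfl⟩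
      exact hinv n
    · intro h
      rw [Set.mem_singleton_iff] at h
      rw [h]
      exact MulAction.mem_orbit_self _
  rw [horb, finsum_mem_singleton] at h1
  have h2 : (θ : cen P → ℂ) ⟨x, le_cen P hP hx⟩ = 1 := by
    rw [hθ ⟨x, le_cen P hP hx⟩ hx, irr_one_eq_natCast θ, hθ1, Nat.cast_one]
  rw [h2, mul_one] at h1
  exact h1

end Cfsg.Agent.Helper72.B66
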