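import Cfsg.Agent.Helper57.BP.PartI
import Cfsg.Agent.Helper81.BHC4

/-!
# (P18) of helper16's S4705: the `P`-sum of an exceptional character of the block of a linear `θ`
(after `Helper81.BH.pSum_Y0`).
-/

set_option autoImplicit false
set_option linter.style.haveILetI false
set_option linter.unusedVariables false
set_option linter.unusedSectionVars false

namespace Cfsg.Agent.Helper72.B66

open Cfsg Cfsg.Agent.Helper16 Cfsg.Agent.Helper16.DefOne Cfsg.Agent.Helper82.DefOne
  Cfsg.Agent.Helper77.DefOne Cfsg.Agent.Helper57.BH Cfsg.Agent.Helper57.BP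
open scoped ComplexConjugate

universe u

variable {G : Type u} [Group G] [Fintype G] {p : ℕ} [Fact p.Prime] (P : Sylow p G)

open Classical in
/-- (P18) the `P`-sum of an exceptional character of the block of a linear `θ` -/
theorem pSum_Y_lin (hP : Nat.card P = p)
    [((P : Subgroup G).subgroupOf (nor P)).Normal] (hmod : ModCount p P)
    (θ : IrrCharacter (cen P)) (hθ : IsCanon P θ) (hθ1 : charDegree (θ : cen P → ℂ) = 1)
    {X Y : Set (IrrCharacter G)} {ε : IrrCharacter G → ℤ} {δ : ℤ} (D : IsRData P θ X Y ε δ)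
    (ψ : IrrCharacter G) (hψ : ψ ∈ Y) :
    pSum P (ψ : G → ℂ) =
      (charDegree (ψ : G → ℂ) : ℂ) - (δ : ℂ) * ((cen P).relIndex (nor P) : ℂ) := by
  haveI : Fintype (P : Subgroup G) := Fintype.ofFinite _
  haveI : Fintype (cen P) := Fintype.ofFinite _
  haveI : Finite (IrrCharacter (cen P)) := Helper79.irr_finite'
  haveI : Fintype (IrrCharacter (cen P)) := Fintype.ofFinite _
  have hp : p.Prime := Fact.out
  obtain ⟨φ₀, h1, h2, hrow⟩ := D.rowY ψ hψ
  have hrows := Helper48.BH.rowZ_eq_of_mem_Y P hP hmod θ hθ D ψ hψ φ₀ h1 h2 hrow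
  set O : Set (IrrCharacter (cen P)) := MulAction.orbit (nor P) φ₀ with hO
  have hOfin : O.Finite := Set.toFinite O
  have hcardO : hOfin.toFinset.card = (cen P).relIndex (nor P) := by
    rw [← Helper48.BH.card_orbit_of_not_isCanon P hP φ₀ h2, ← Set.ncard_eq_toFinset_card _ hOfin]
    exact (Nat.card_coe_set_eq _).symm
  have hOnc : ∀ φ ∈ O, ¬ IsCanon P φ := by
    rintro φ ⟨n, rfl⟩
    exact Helper48.BH.not_isCanon_smul P hP n φ₀ h2
  have hOone : ∀ φ ∈ O, (φ : cen P → ℂ) 1 = 1 := by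
    intro φ hφ
    rw [irr_one_eq_natCast φ, Helper48.BH.charDegree_of_mem_orbit P φ₀ φ hφ,
      ← Helper48.BH.charDegree_can P hP φ₀, h1, hθ1, Nat.cast_one]
  -- the values on `P`
  have hval : ∀ x : (P : Subgroup G), (ψ : G → ℂ) (x : G) =
      (if x = 1 then (ψ : G → ℂ) 1 - (δ : ℂ) * ((cen P).relIndex (nor P) : ℂ) else 0) +
        (δ : ℂ) * ∑ φ ∈ hOfin.toFinset, (φ : cen P → ℂ) ⟨(x : G), le_cen P hP x.2⟩ := by
    intro x
    by_cases hx : x = 1
    · subst hx
      rw [if_pos rfl]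
      have : ∑ φ ∈ hOfin.toFinset, (φ : cen P → ℂ) ⟨((1 : (P : Subgroup G)) : G),
          le_cen P hP (1 : (P : Subgroup G)).2⟩ = ((cen P).relIndex (nor P) : ℂ) := by
        rw [Finset.sum_congr rfl (g := fun _ => (1 : ℂ))]
        · rw [Finset.sum_const, hcardO, nsmul_eq_mul, mul_one]
        · intro φ hφ
          exact hOone φ (hOfin.mem_toFinset.mp hφ)
      rw [this]
      simp
    · rw [if_neg hx, zero_add]
      have hx1 : (x : G) ≠ 1 := fun h => hx (Subtype.ext h)
      have hc := dvd_orderOf_of_mem P hP (x : G) x.2 hx1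
      have h3 : (ψ : G → ℂ) (x : G) = ∑ᶠ φ : IrrCharacter (cen P), (rowZ P ψ φ : ℂ) *
          (φ : cen P → ℂ) ⟨(x : G), le_cen P hP x.2⟩ :=
        apply_singular_eq P hP ψ ⟨(x : G), le_cen P hP x.2⟩ hc
      rw [h3, finsum_eq_sum_of_fintype, Finset.mul_sum]
      symm
      rw [← Finset.sum_subset (Finset.subset_univ hOfin.toFinset)]
      · refine Finset.sum_congr rfl fun φ hφ => ?_
        rw [hrows φ, if_pos (hOfin.mem_toFinset.mp hφ)]
      · intro φ _ hφ
        have hφ' : φ ∉ O := fun h => hφ (hOfin.mem_toFinset.mpr h)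
        rw [hrows φ, if_neg hφ', Int.cast_zero, zero_mul]
  rw [Helper81.BH.pSum_eq_sum, Finset.sum_congr rfl (fun x _ => hval x), Finset.sum_add_distrib,
    Finset.sum_ite_eq' Finset.univ (1 : (P : Subgroup G)), if_pos (Finset.mem_univ _),
    ← Finset.mul_sum, Finset.sum_comm]
  rw [Finset.sum_congr rfl (g := fun _ => (0 : ℂ)) (fun φ hφ =>
    Helper81.BH.sum_P_of_not_isCanon P hP φ (hOnc φ (hOfin.mem_toFinset.mp hφ)))]
  rw [Finset.sum_const_zero, mul_zero, add_zero, irr_one_eq_natCast ψ]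

end Cfsg.Agent.Helper72.B66
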