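import Mathlib

/-!
# Piece (CSTR) of S1022 (helper17's plan, board #6513): the structure of `C(P)` of order `76`
-/

set_option autoImplicit false

namespace Cfsg.Agent.Helper72.O459

open Subgroup

universe u

variable {G : Type u} [Group G] [Finite G]

/-- A group of order `76` whose subgroup `P` of order `19` is central is abelian. -/
theorem comm_of_card_76 {C : Type*} [Group C] [Finite C] (hC : Nat.card C = 76)
    (P : Subgroup C) (hP : Nat.card P = 19) (hcent : ∀ x ∈ P, ∀ c : C, c * x = x * c) :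
    ∀ a b : C, a * b = b * a := by
  have : Fact (Nat.Prime 2) := ⟨Nat.prime_two⟩
  obtain ⟨T, hT⟩ := Sylow.exists_subgroup_card_pow_prime (G := C) 2 (n := 2)
    (by rw [hC]; norm_num)
  have hTcomm : ∀ s t : T, s * t = t * s := IsPGroup.commutative_of_card_eq_prime_sq hT
  have hcompl : IsComplement' P T := by
    apply isComplement'_of_coprime
    · rw [hP, hT, hC]; norm_num
    · rw [hP, hT]; norm_num
  intro a b
  obtain ⟨⟨p1, t1⟩, h1, -⟩ := hcompl.existsUnique a
  obtain ⟨⟨p2, t2⟩, h2, -⟩ := hcompl.existsUnique b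
  simp only at h1 h2
  rw [← h1, ← h2]
  have e1 : ∀ c : C, c * (p1 : C) = p1 * c := fun c => hcent p1 p1.2 c
  have e2 : ∀ c : C, c * (p2 : C) = p2 * c := fun c => hcent p2 p2.2 c
  have e3 : (t1 : C) * t2 = t2 * t1 := by
    have := hTcomm t1 t2
    exact congrArg Subtype.val this
  calc (p1 : C) * t1 * (p2 * t2) = p1 * (t1 * p2) * t2 := by group
    _ = p1 * (p2 * t1) * t2 := by rw [e2 t1]
    _ = (p1 * p2) * (t1 * t2) := by group
    _ = (p2 * p1) * (t2 * t1) := by rw [e3, ← e2 p1]
    _ = p2 * (p1 * t2) * t1 := by group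
    _ = p2 * (t2 * p1) * t1 := by rw [e1 t2]
    _ = p2 * t2 * (p1 * t1) := by group

/-- In a finite abelian group of order `76` the number of involutions is `1` or `3`. -/
theorem card_involutions_of_card_76 {C : Type*} [Group C] [Finite C] (hC : Nat.card C = 76)
    (hcomm : ∀ a b : C, a * b = b * a) :
    Nat.card {y : C // orderOf y = 2} = 1 ∨ Nat.card {y : C // orderOf y = 2} = 3 := by
  have : Fact (Nat.Prime 2) := ⟨Nat.prime_two⟩
  -- the subgroup of elements of order dividing 2
  let Ω : Subgroup C :=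
    { carrier := {y | y * y = 1}
      one_mem' := by simp
      mul_mem' := by
        intro a b ha hb
        simp only [Set.mem_ofPred_eq] at ha hb ⊢
        calc a * b * (a * b) = a * (b * a) * b := by group
          _ = a * (a * b) * b := by rw [hcomm b a]
          _ = (a * a) * (b * b) := by group
          _ = 1 := by rw [ha, hb, one_mul]
      inv_mem' := by
        intro a ha
        simp only [Set.mem_ofPred_eq] at ha ⊢
        rw [← mul_inv_rev, ha, inv_one] }
  have hΩmem : ∀ y : C, y ∈ Ω ↔ y * y = 1 := fun y => Iff.rfl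
  have hΩp : IsPGroup 2 Ω := by
    intro y
    refine ⟨1, ?_⟩
    apply Subtype.ext
    have := (hΩmem y).mp y.2
    simp [pow_two, this]
  obtain ⟨k, hk⟩ := hΩp.exists_card_eq
  have hdvd : 2 ^ k ∣ 76 := by
    rw [← hk, ← hC]
    exact Subgroup.card_subgroup_dvd_card Ω
  have hk2 : k ≤ 2 := by
    by_contra hcon
    push Not at hcon
    have h8 : 2 ^ 3 ∣ 2 ^ k := pow_dvd_pow 2 hcon
    have : 2 ^ 3 ∣ 76 := h8.trans hdvd
    norm_num at this
  -- there is an involution
  obtain ⟨y0, hy0⟩ := exists_prime_orderOf_dvd_card' (G := C) 2 (by rw [hC]; norm_num)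
  have hy0Ω : y0 ∈ Ω := by
    rw [hΩmem, ← pow_two, ← hy0, pow_orderOf_eq_one]
  have hk1 : 1 ≤ k := by
    by_contra hcon
    have hk0 : k = 0 := by omega
    rw [hk0, pow_zero] at hk
    have hbot : Ω = ⊥ := Subgroup.card_eq_one.mp hk
    rw [hbot, Subgroup.mem_bot] at hy0Ω
    rw [hy0Ω, orderOf_one] at hy0
    norm_num at hy0
  -- count
  have hset : {y : C | orderOf y = 2} = (Ω : Set C) \ {1} := by
    ext y
    simp only [Set.mem_ofPred_eq, Set.mem_sdiff, SetLike.mem_coe, Set.mem_singleton_iff, hΩmem]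
    rw [orderOf_eq_prime_iff, pow_two]
  have hcard : Nat.card {y : C // orderOf y = 2} = Nat.card Ω - 1 := by
    have h1 : Nat.card {y : C // orderOf y = 2} = Set.ncard {y : C | orderOf y = 2} :=
      Nat.card_coe_set_eq _
    rw [h1, hset, Set.ncard_sdiff_singleton_of_mem (Ω.one_mem)]
    rfl
  rw [hcard, hk]
  have : k = 1 ∨ k = 2 := by omega
  rcases this with rfl | rfl
  · left; norm_num
  · right; norm_num

/-- (CSTR) -/
theorem centralizer_structure (P : Sylow 19 G) (hP : Nat.card (P : Subgroup G) = 19)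
    (hC : Nat.card (centralizer ((P : Subgroup G) : Set G)) = 76) :
    (∀ a ∈ centralizer ((P : Subgroup G) : Set G), ∀ b ∈ centralizer ((P : Subgroup G) : Set G),
      a * b = b * a) ∧
    (Nat.card {y : G // y ∈ centralizer ((P : Subgroup G) : Set G) ∧ orderOf y = 2} = 1 ∨
     Nat.card {y : G // y ∈ centralizer ((P : Subgroup G) : Set G) ∧ orderOf y = 2} = 3) := by
  have : Fact (Nat.Prime 19) := ⟨by norm_num⟩
  set C := centralizer ((P : Subgroup G) : Set G) with hCdef
  -- `P` is abelian, so `P ≤ C`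
  have hPcyc : IsCyclic (P : Subgroup G) := isCyclic_of_prime_card hP
  have hPC : (P : Subgroup G) ≤ C := by
    intro x hx y hy
    have hmc : IsMulCommutative (P : Subgroup G) := IsCyclic.isMulCommutative
    have hcomm : (⟨y, hy⟩ : (P : Subgroup G)) * ⟨x, hx⟩ = ⟨x, hx⟩ * ⟨y, hy⟩ :=
      hmc.is_comm.comm _ _
    exact congrArg Subtype.val hcomm
  have hP' : Nat.card ((P : Subgroup G).subgroupOf C) = 19 := by
    exact (Nat.card_congr (Subgroup.subgroupOfEquivOfLe hPC).toEquiv).trans hP
  have hcent : ∀ x ∈ (P : Subgroup G).subgroupOf C, ∀ c : C, c * x = x * c := by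
    intro x hx c
    apply Subtype.ext
    have hxP : (x : G) ∈ (P : Subgroup G) := Subgroup.mem_subgroupOf.mp hx
    have := c.2 (x : G) hxP
    simpa using this.symm
  have hcomm := comm_of_card_76 hC ((P : Subgroup G).subgroupOf C) hP' hcent
  refine ⟨?_, ?_⟩
  · intro a ha b hb
    exact congrArg Subtype.val (hcomm ⟨a, ha⟩ ⟨b, hb⟩)
  · have h := card_involutions_of_card_76 hC hcomm
    have e : Nat.card {y : G // y ∈ C ∧ orderOf y = 2} = Nat.card {y : C // orderOf y = 2} := by
      apply Nat.card_congr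
      refine ⟨fun y => ⟨⟨y.1, y.2.1⟩, ?_⟩, fun y => ⟨y.1.1, y.1.2, ?_⟩, ?_, ?_⟩
      · exact (Subgroup.orderOf_mk _ _).trans y.2.2
      · exact (Subgroup.orderOf_coe y.1).trans y.2
      · intro y; rfl
      · intro y; rfl
    rw [e]
    exact h

end Cfsg.Agent.Helper72.O459
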