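import Cfsg.Agent.Helper6.BN6

/-!
# (BN1) for helper19's S5751 farm (helper72)

A subgroup `Y` of the maximal parabolic `P_J` (`J = S \ {s₀}`) which is normalised by `P_J` and whose
`s₀`-conjugate still lies in `P_J` is contained in `B` (irreducible `(B, N)`-pair).
-/

set_option autoImplicit false

namespace Cfsg.Agent.Helper72.E8C

open Cfsg Cfsg.Agent.Helper6 DoubleCoset

variable {G : Type*} [Group G]

/-- the commutation lemma of `Helper6.comm_of_normal`, in the form actually used by its proof: `s = b h`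
with `s' h s'⁻¹` in an overgroup `M` of `B` not containing `s'` -/
theorem BN1_comm_of_conj_mem {P : Cfsg.BNPair G} (M : Subgroup G) (hBM : P.B ≤ M) {s s' b : G}
    (hs : s ∈ P.S) (hs' : s' ∈ P.S) (hne : s ≠ s') (hb : b ∈ P.B)
    (hconj : s' * (b⁻¹ * s) * s'⁻¹ ∈ M) (hs'M : s' ∉ M) :
    s * s' * s⁻¹ * s'⁻¹ ∈ P.B := by
  obtain ⟨b0, hb0, hs'inv⟩ := S_inv P hs'
  have hss'N : s * s' ∈ P.N := P.N.mul_mem (P.subset hs) (P.subset hs')
  have hs's : len P P.S (s' * s) = 2 := len_S_mul_S_eq_two hs' hs (Ne.symm hne)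
  have hss' : len P P.S (s * s') = 2 := len_S_mul_S_eq_two hs hs' hne
  have h1 : s * s' * b0 ∈ dc P (s * s') := mem_dc_mul P hb0 (self_mem_dc P _)
  have h2 := S_mul_mem P hs' hss'N (mul_mem_dc P (P.B.inv_mem hb) h1)
  have e2 : s' * (b⁻¹ * (s * s' * b0)) = s' * (b⁻¹ * s) * s'⁻¹ := by
    rw [hs'inv]; group
  rw [e2] at h2
  have hw2 : WordFor P P.S [s, s'] (s * s') :=
    ⟨by intro x hx; simp at hx; rcases hx with rfl | rfl <;> assumption, by simpa using Rel.refl _⟩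
  rcases h2 with h2 | h2
  · have hn3 : s' * (s * s') ∈ M := mem_of_dc_inter hBM h2 hconj
    have hw3 : WordFor P P.S [s', s, s'] (s' * (s * s')) := hw2.cons hs'
    have hlen3 : len P P.S (s' * (s * s')) ≠ 3 := by
      intro h3
      have := letters_mem hBM 3 _ hn3 _ hw3 rfl h3 s' (by simp)
      exact hs'M this
    have hle3 := len_le hw3
    have hne3 := len_S_mul_ne (le_refl _) (expr_of_mem_N hss'N) hs'
    have hlt : len P P.S (s' * (s * s')) < len P P.S (s * s') := by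
      simp at hle3
      omega
    have hC := cond_C hs' hs' (P.subset hs)
      (by rw [len_S_eq_one hs, hs's]; omega) hlt
    have hN : s' * s ∈ P.N := P.N.mul_mem (P.subset hs') (P.subset hs)
    have := T_conj P hN hC
    have e3 : s' * s * ((s' * s)⁻¹ * (s * s')) * (s' * s)⁻¹ = s * s' * s⁻¹ * s'⁻¹ := by group
    rw [e3] at this
    exact this.1
  · exfalso
    have hn2 : s * s' ∈ M := mem_of_dc_inter hBM h2 hconj
    have := letters_mem hBM 2 _ hn2 _ hw2 rfl hss' s' (by simp)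
    exact hs'M this

/-- (BN1) -/
theorem le_B_of_normal (P : Cfsg.BNPair G) (hirr : P.Irreducible) (s₀ : G) (hs₀ : s₀ ∈ P.S)
    (Y : Subgroup G)
    (hYn : P.parabolic (P.S \ {s₀}) ≤ Subgroup.normalizer (Y : Set G))
    (hY : Y ≤ P.parabolic (P.S \ {s₀}))
    (hYs : ∀ y ∈ Y, s₀ * y * s₀⁻¹ ∈ P.parabolic (P.S \ {s₀})) : Y ≤ P.B := by
  have hJS : P.S \ {s₀} ⊆ P.S := Set.sdiff_subset
  have hs₀J : s₀ ∉ P.parabolic (P.S \ {s₀}) := fun h => (S_mem_parabolic hJS hs₀ h).2 rfl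
  have hBJ : P.B ≤ P.parabolic (P.S \ {s₀}) := B_le_parabolic P _
  set M : Subgroup G := P.B ⊔ Y with hM
  have hBM : P.B ≤ M := le_sup_left
  have hYM : Y ≤ M := le_sup_right
  have hMJ : M ≤ P.parabolic (P.S \ {s₀}) := sup_le hBJ hY
  have hBn : P.B ≤ Subgroup.normalizer (Y : Set G) := hBJ.trans hYn
  have hmem : ∀ g ∈ M, ∃ b ∈ P.B, ∃ y ∈ Y, g = b * y := by
    intro g hg
    have hg' : g ∈ ((P.B ⊔ Y : Subgroup G) : Set G) := hg
    rw [Subgroup.coe_mul_of_left_le_normalizer_right P.B Y hBn] at hg'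
    obtain ⟨b, hb, y, hy, e⟩ := hg'
    exact ⟨b, hb, y, hy, e.symm⟩
  have hpar := overgroup_eq_parabolic M hBM
  set K : Set G := {s | s ∈ P.S ∧ s ∈ M} with hK
  have hKS : K ⊆ P.S := fun s hs => hs.1
  have hs₀K : s₀ ∈ P.S \ K := ⟨hs₀, fun h => hs₀J (hMJ h.2)⟩
  by_cases hKne : K.Nonempty
  · exfalso
    obtain ⟨t, ht, s', hs', hnot⟩ := hirr K hKS hKne ⟨s₀, hs₀K⟩
    apply hnot
    obtain ⟨b, hb, y, hy, e⟩ := hmem t ht.2
    have hy' : b⁻¹ * t = y := by rw [e]; group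
    have hne : t ≠ s' := by
      rintro rfl
      exact hs'.2 ht
    have hs'M : s' ∉ M := fun h => hs'.2 ⟨hs'.1, h⟩
    by_cases hs0 : s' = s₀
    · -- use `P_J`
      apply BN1_comm_of_conj_mem (P.parabolic (P.S \ {s₀})) hBJ ht.1 hs'.1 hne hb
      · rw [hy', hs0]
        exact hYs y hy
      · rw [hs0]
        exact hs₀J
    · -- use `M`
      apply BN1_comm_of_conj_mem M hBM ht.1 hs'.1 hne hb _ hs'M
      rw [hy']
      apply hYM
      have hs'J : s' ∈ P.parabolic (P.S \ {s₀}) :=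
        closure_le_parabolic P _ (Subgroup.subset_closure ⟨hs'.1, hs0⟩)
      exact (Subgroup.mem_normalizer_iff.mp (hYn hs'J) y).mp hy
  · rw [Set.not_nonempty_iff_eq_empty] at hKne
    rw [hKne, parabolic_empty] at hpar
    rw [← hpar]
    exact hYM

end Cfsg.Agent.Helper72.E8C
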