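import Mathlib
import Cfsg.Agent.Helper5.SuBN.Defs

/-!
# S2546 piece (RED) for helper5: reduction of an isotropic vector by induction on its last nonzero
coordinate
-/

set_option autoImplicit false

namespace Cfsg.Agent.Helper72.SuBNRED

open Matrix Cfsg.Agent.Helper5.SuBN

variable {F : Type*} [Field F] {n : ℕ} {σ : F →+* F}

theorem RED_fixj_one (j : ℕ) : Fixj j (1 : UG n σ) := by
  intro a b _
  rw [mat_one, Matrix.one_apply]

theorem RED_fixj_mul (j : ℕ) (h₂ h₁ : UG n σ) (H₂ : Fixj j h₂) (H₁ : Fixj j h₁) :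
    Fixj j (h₂ * h₁) := by
  intro a b hb
  rw [mat_mul, Matrix.mul_apply, Finset.sum_eq_single b]
  · rw [H₁ b b hb, if_pos rfl, mul_one, H₂ a b hb]
  · intro x _ hx
    rw [H₁ x b hb, if_neg hx, mul_zero]
  · intro h; exact absurd (Finset.mem_univ _) h

theorem RED_hermJ_mulVec (h : UG n σ) (v : Fin n → F) :
    hermJ σ (mat h *ᵥ v) (mat h *ᵥ v) = hermJ σ v v := h.2 v v

theorem exists_reduce (c : F)
    (hstep : ∀ (j A : ℕ), j < A → A + j ≤ n - 1 → ∀ v : Fin n → F, hermJ σ v v = 0 →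
      (∀ a : Fin n, A < a.val → v a = 0) → ∀ a : Fin n, a.val = A → v a ≠ 0 →
      ∃ h ∈ Bsub n σ ⊔ Nsub n σ c, Fixj j h ∧ ∀ a : Fin n, A ≤ a.val → (mat h *ᵥ v) a = 0)
    (j : ℕ) (hj : j < n / 2) (v : Fin n → F) (hv : hermJ σ v v = 0)
    (hv0 : ∀ a : Fin n, n - 1 - j < a.val → v a = 0) (hv1 : ∃ a : Fin n, j ≤ a.val ∧ v a ≠ 0) :
    ∃ h ∈ Bsub n σ ⊔ Nsub n σ c, Fixj j h ∧ ∀ a : Fin n, j < a.val → (mat h *ᵥ v) a = 0 := by
  have key : ∀ A : ℕ, ∀ v : Fin n → F, hermJ σ v v = 0 →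
      (∀ a : Fin n, n - 1 - j < a.val → v a = 0) → (∀ a : Fin n, A < a.val → v a = 0) →
      ∃ h ∈ Bsub n σ ⊔ Nsub n σ c, Fixj j h ∧ ∀ a : Fin n, j < a.val → (mat h *ᵥ v) a = 0 := by
    intro A
    induction A with
    | zero =>
      intro v _ _ hb
      refine ⟨1, Subgroup.one_mem _, RED_fixj_one j, fun a ha => ?_⟩
      rw [mat_one, Matrix.one_mulVec]
      exact hb a (by omega)
    | succ A ih =>
      intro v hv hv0 hb
      by_cases hAj : A + 1 ≤ j
      · refine ⟨1, Subgroup.one_mem _, RED_fixj_one j, fun a ha => ?_⟩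
        rw [mat_one, Matrix.one_mulVec]
        exact hb a (by omega)
      · by_cases hz : ∀ a : Fin n, a.val = A + 1 → v a = 0
        · apply ih v hv hv0
          intro a ha
          by_cases h1 : a.val = A + 1
          · exact hz a h1
          · exact hb a (by omega)
        · push Not at hz
          obtain ⟨a₀, ha₀, hne⟩ := hz
          have hle : A + 1 + j ≤ n - 1 := by
            by_contra hlt
            exact hne (hv0 a₀ (by omega))
          obtain ⟨h₁, hh₁, hF₁, hz₁⟩ := hstep j (A + 1) (by omega) hle v hv hb a₀ ha₀ hne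
          obtain ⟨h₂, hh₂, hF₂, hz₂⟩ := ih (mat h₁ *ᵥ v)
            (by rw [RED_hermJ_mulVec]; exact hv)
            (fun a ha => hz₁ a (by omega))
            (fun a ha => hz₁ a (by omega))
          refine ⟨h₂ * h₁, Subgroup.mul_mem _ hh₂ hh₁, RED_fixj_mul j h₂ h₁ hF₂ hF₁, fun a ha => ?_⟩
          rw [mat_mul, ← Matrix.mulVec_mulVec]
          exact hz₂ a ha
  exact key n v hv hv0 (fun a ha => absurd a.2 (by omega))

end Cfsg.Agent.Helper72.SuBNRED
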