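import Mathlib
import Cfsg.Agent.Helper5.SuBN.Defs

/-!
# S2546 piece (STEP2III) for helper5: the reduction step for a root of kind III (`n = 2k + 3`)
-/

set_option autoImplicit false

namespace Cfsg.Agent.Helper72.SuBNSTEP2III

open Matrix Cfsg.Agent.Helper5.SuBN

variable {F : Type*} [Field F] {n : ℕ} {σ : F →+* F}

/-- the action of a root element on a vector -/
theorem xMat_mulVec (k : Fin (n / 2)) (t u : F) (v : Fin n → F) (i : Fin n) :
    (xMat σ k t u *ᵥ v) i = v i + (if ia k = i then t * v (ib k) else 0)
      - (if Fin.rev (ib k) = i then σ t * v (Fin.rev (ia k)) else 0)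
      + (if ia k = i then u * v (Fin.rev (ia k)) else 0) := by
  simp only [Matrix.mulVec, dotProduct, xMat_apply, add_mul, sub_mul, Finset.sum_add_distrib,
    Finset.sum_sub_distrib, ite_mul, zero_mul, one_mul, ite_and, Finset.sum_ite_eq,
    Finset.mem_univ, if_true]
  congr 1
  congr 1
  · congr 1
    by_cases h : ia k = i
    · simp [h]
    · simp [h]
  · by_cases h : Fin.rev (ib k) = i
    · simp [h]
    · simp [h]
  · by_cases h : ia k = i
    · simp [h]
    · simp [h]

/-- the action of a reflection matrix on a vector -/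
theorem sMat_mulVec (c : F) (k : Fin (n / 2)) (w : Fin n → F) (i : Fin n) :
    (sMat c k *ᵥ w) i = sSign c k (sPerm k i) * w (sPerm k i) := by
  simp only [Matrix.mulVec, dotProduct, sMat_apply]
  rw [Finset.sum_eq_single (sPerm k i)]
  · rw [sPerm_sPerm, if_pos rfl]
  · intro b _ hb
    rw [if_neg, zero_mul]
    intro h
    apply hb
    rw [h, sPerm_sPerm]
  · intro h; exact absurd (Finset.mem_univ _) h

theorem step_second_III (hσ : ∀ x, σ (σ x) = x)
    (hX : ∀ (k : Fin (n / 2)) (t u : F), Param σ k t u → IsUJ σ (xMat σ k t u))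
    (c : F) (hS : ∀ k : Fin (n / 2), IsUJ σ (sMat c k))
    (j A : ℕ) (hA : A + j ≤ n - 1) (hAn : A < n) (hIII : 2 * (n - 1 - A) + 3 = n) (v : Fin n → F)
    (hv : hermJ σ v v = 0)
    (hvA : ∀ a : Fin n, A < a.val → v a = 0) (a : Fin n) (ha : a.val = A) (hva : v a ≠ 0) :
    ∃ h ∈ Bsub n σ ⊔ Nsub n σ c, Fixj j h ∧ ∀ a : Fin n, A ≤ a.val → (mat h *ᵥ v) a = 0 := by
  -- the root
  let k : Fin (n / 2) := ⟨n - 1 - A, by omega⟩
  have hkv : k.val = n - 1 - A := rfl
  have hk1 : ¬ 2 * k.val + 3 < n := by rw [hkv]; omega
  have hk2 : ¬ 2 * k.val + 2 = n := by rw [hkv]; omega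
  set p : Fin n := ia k with hp
  set m : Fin n := ib k with hm
  have hpv : p.val = n - 1 - A := rfl
  have hmv : m.val = n - 1 - A + 1 := rfl
  have hrp : Fin.rev p = a := by
    apply Fin.ext; rw [val_rev, hpv, ha]; omega
  have hrm : Fin.rev m = m := by
    apply Fin.ext; rw [val_rev, hmv]; omega
  have hra : Fin.rev a = p := by rw [← hrp, Fin.rev_rev]
  have hpm : p ≠ m := by
    intro h; have := congrArg Fin.val h; rw [hpv, hmv] at this; omega
  have hpa : p ≠ a := by
    intro h; have := congrArg Fin.val h; rw [hpv, ha] at this; omega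
  have hma : m ≠ a := by
    intro h; have := congrArg Fin.val h; rw [hmv, ha] at this; omega
  -- the isotropy relation
  have hiso : v p * σ (v a) + v m * σ (v m) + v a * σ (v p) = 0 := by
    have hsum : ∑ i ∈ ({p, m, a} : Finset (Fin n)), v i * σ (v (Fin.rev i)) =
        ∑ i, v i * σ (v (Fin.rev i)) := by
      apply Finset.sum_subset (Finset.subset_univ _)
      intro i _ hi
      simp only [Finset.mem_insert, Finset.mem_singleton, not_or] at hi
      obtain ⟨h1, h2, h3⟩ := hi
      have hiv1 : i.val ≠ n - 1 - A := fun h => h1 (Fin.ext (by rw [hpv]; exact h))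
      have hiv2 : i.val ≠ n - 1 - A + 1 := fun h => h2 (Fin.ext (by rw [hmv]; exact h))
      have hiv3 : i.val ≠ A := fun h => h3 (Fin.ext (by rw [ha]; exact h))
      by_cases hi : A < i.val
      · rw [hvA i hi, zero_mul]
      · rw [hvA (Fin.rev i) (by rw [val_rev]; have := i.2; omega), map_zero, mul_zero]
    have hv' : ∑ i, v i * σ (v (Fin.rev i)) = 0 := hv
    rw [← hsum, Finset.sum_insert (by simp [hpm, hpa]), Finset.sum_pair hma, hrp, hrm, hra] at hv'
    linear_combination hv'
  -- the parameters
  have hσa : σ (v a) ≠ 0 := by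
    intro h
    apply hva
    rw [← hσ (v a), h, map_zero]
  set t : F := σ (v m / v a) with ht
  set u : F := -(v p + t * v m) / v a with hu
  have hσt : σ t = v m / v a := by rw [ht, hσ]
  have hPar : Param σ k t u := by
    unfold Param
    rw [if_neg hk1, if_neg hk2]
    have h1 : σ u = -(σ (v p) + v m / v a * σ (v m)) / σ (v a) := by
      rw [hu, map_div₀, map_neg, map_add, map_mul, hσt]
    have h2 : t = σ (v m) / σ (v a) := by rw [ht, map_div₀]
    rw [h1, hσt, hu, h2]
    field_simp
    linear_combination (-1 : F) * hiso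
  obtain ⟨x, hx⟩ := exists_of_isUJ (hX k t u hPar)
  obtain ⟨s, hs⟩ := exists_of_isUJ (hS k)
  -- membership
  have hxB : x ∈ Bsub n σ := by
    rw [mem_Bsub_iff]
    intro a' b' hab
    rw [hx, xMat_apply]
    have hab' : b'.val < a'.val := hab
    have e1 : ¬ a' = b' := fun h => by rw [h] at hab'; omega
    have e2 : ¬ (ia k = a' ∧ ib k = b') := by
      rintro ⟨h1, h2⟩
      have := congrArg Fin.val h1; have := congrArg Fin.val h2
      rw [val_ia] at *; rw [val_ib] at *; omega
    have e3 : ¬ (Fin.rev (ib k) = a' ∧ Fin.rev (ia k) = b') := by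
      rintro ⟨h1, h2⟩
      have h1' := congrArg Fin.val h1; have h2' := congrArg Fin.val h2
      rw [val_rev, val_ib] at h1'; rw [val_rev, val_ia] at h2'; omega
    have e4 : ¬ (ia k = a' ∧ Fin.rev (ia k) = b') := by
      rintro ⟨h1, h2⟩
      have h1' := congrArg Fin.val h1; have h2' := congrArg Fin.val h2
      rw [val_ia] at h1'; rw [val_rev, val_ia] at h2'; omega
    rw [if_neg e1, if_neg e2, if_neg e3, if_neg e4]
    ring
  have hsN : s ∈ Nsub n σ c := by
    unfold Nsub
    apply Subgroup.mem_sup_left
    apply Subgroup.subset_closure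
    exact ⟨k, hs⟩
  refine ⟨s * x, Subgroup.mul_mem _ (Subgroup.mem_sup_right hsN) (Subgroup.mem_sup_left hxB), ?_, ?_⟩
  · -- the first `j` columns
    intro a' b' hb'
    have hb'k : b'.val < n - 1 - A := by omega
    have hxcol : ∀ c' : Fin n, mat x c' b' = if c' = b' then 1 else 0 := by
      intro c'
      rw [hx, xMat_apply]
      have e2 : ¬ (ia k = c' ∧ ib k = b') := by
        rintro ⟨_, h2⟩
        have h2' := congrArg Fin.val h2
        rw [val_ib] at h2'; omega
      have e3 : ¬ (Fin.rev (ib k) = c' ∧ Fin.rev (ia k) = b') := by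
        rintro ⟨_, h2⟩
        have h2' := congrArg Fin.val h2
        rw [val_rev, val_ia] at h2'; omega
      have e4 : ¬ (ia k = c' ∧ Fin.rev (ia k) = b') := by
        rintro ⟨_, h2⟩
        have h2' := congrArg Fin.val h2
        rw [val_rev, val_ia] at h2'; omega
      rw [if_neg e2, if_neg e3, if_neg e4]
      ring
    rw [mat_mul, Matrix.mul_apply, Finset.sum_eq_single b']
    · rw [hxcol, if_pos rfl, mul_one, hs, sMat_apply]
      have hsp : sPerm k b' = b' := by
        apply Fin.ext
        rw [val_sPerm, if_neg hk1]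
        have := b'.2
        split_ifs <;> omega
      have hss : sSign c k b' = 1 := by
        unfold sSign
        rw [if_neg hk1, if_neg hk2, if_neg]
        intro h
        have h' := congrArg Fin.val h
        rw [val_ib] at h'; omega
      rw [hsp, hss]
    · intro c' _ hc'
      rw [hxcol, if_neg hc', mul_zero]
    · intro h; exact absurd (Finset.mem_univ _) h
  · -- the coordinates `≥ A` vanish
    intro i hi
    rw [mat_mul, ← Matrix.mulVec_mulVec, hs, sMat_mulVec, hx]
    have hzero : (xMat σ k t u *ᵥ v) (sPerm k i) = 0 := by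
      by_cases hiA : i.val = A
      · have hia : i = a := Fin.ext (by rw [hiA, ha])
        have hsp : sPerm k i = p := by
          apply Fin.ext
          rw [val_sPerm, if_neg hk1, hiA, hpv, hkv]
          split_ifs <;> omega
        rw [hsp, xMat_mulVec, if_pos rfl, if_neg (by rw [← hm, hrm]; exact fun h => hpm h.symm),
          if_pos rfl, ← hm, ← hp, hrp, hu]
        field_simp
        ring
      · have hsp : sPerm k i = i := by
          apply Fin.ext
          rw [val_sPerm, if_neg hk1, hkv]
          have := i.2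
          split_ifs <;> omega
        rw [hsp, xMat_mulVec, if_neg, if_neg, if_neg, hvA i (by omega)]
        · ring
        · intro h; have h' := congrArg Fin.val h; rw [val_ia] at h'; omega
        · intro h; have h' := congrArg Fin.val h; rw [val_rev, val_ib] at h'; omega
        · intro h; have h' := congrArg Fin.val h; rw [val_ia] at h'; omega
    rw [hzero, mul_zero]

end Cfsg.Agent.Helper72.SuBNSTEP2III
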