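import Mathlib
import Cfsg.Agent.Helper21.A6Defs

/-!
# S3341 piece (GA3b) for helper21: if `|N_G(T)| = 72` then all of `T#` is one class.
-/

set_option autoImplicit false

namespace Cfsg.Agent.Helper72.A6

open Cfsg.Agent.Helper21.A6

universe u
variable {G : Type u} [Group G] [Finite G]

omit [Finite G] in
/-- number of elements of a subgroup as a filter card. -/
theorem card_filter_mem_eq [Fintype G] [DecidableEq G] (H : Subgroup G)
    [DecidablePred (· ∈ H)] :
    (Finset.univ.filter (· ∈ H)).card = Nat.card H := by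
  rw [Nat.card_eq_fintype_card, Fintype.card_subtype]

/-- (GA3b) -/
theorem isConj_of_card_normalizer (T : Subgroup G) (hT : Hyp T)
    (hN : Nat.card (Subgroup.normalizer (T : Set G)) = 72) :
    ∀ a ∈ T, ∀ b ∈ T, a ≠ 1 → b ≠ 1 → IsConj a b := by
  classical
  intro a ha b hb ha1 hb1
  have : Fintype G := Fintype.ofFinite G
  set N := Subgroup.normalizer (T : Set G) with hNdef
  set NF : Finset G := Finset.univ.filter (· ∈ N) with hNFdef
  set TF : Finset G := Finset.univ.filter (· ∈ T) with hTFdef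
  set SF : Finset G := TF.erase 1 with hSFdef
  have hNF : NF.card = 72 := by rw [hNFdef, card_filter_mem_eq, hN]
  have hTF : TF.card = 9 := by rw [hTFdef, card_filter_mem_eq, hT.cardT]
  have hSF : SF.card = 8 := by
    rw [hSFdef, Finset.card_erase_of_mem, hTF]
    simp [hTFdef, T.one_mem]
  set φ : G → G := fun n => n * a * n⁻¹ with hφ
  have himg : NF.image φ ⊆ SF := by
    intro s hs
    obtain ⟨n, hn, rfl⟩ := Finset.mem_image.mp hs
    have hnN : n ∈ N := (Finset.mem_filter.mp hn).2
    rw [hSFdef, Finset.mem_erase]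
    refine ⟨?_, ?_⟩
    · intro h
      apply ha1
      have : n * a * n⁻¹ = 1 := h
      have h2 : a = n⁻¹ * (n * a * n⁻¹) * n := by group
      rw [h2, this]; group
    · rw [hTFdef, Finset.mem_filter]
      exact ⟨Finset.mem_univ _, (Subgroup.mem_normalizer_iff.mp hnN a).mp ha⟩
  have hfib : ∀ s ∈ NF.image φ, (NF.filter (fun n => φ n = s)).card ≤ 9 := by
    intro s hs
    obtain ⟨n₀, hn₀, rfl⟩ := Finset.mem_image.mp hs
    rw [← hTF]
    apply Finset.card_le_card_of_injOn (fun n => n₀⁻¹ * n)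
    · intro n hn
      have hn' := Finset.mem_filter.mp (Finset.mem_coe.mp hn)
      have heq : n * a * n⁻¹ = n₀ * a * n₀⁻¹ := hn'.2
      show n₀⁻¹ * n ∈ (TF : Set G)
      rw [Finset.mem_coe, hTFdef, Finset.mem_filter]
      refine ⟨Finset.mem_univ _, ?_⟩
      rw [← hT.cent a ha ha1, Subgroup.mem_centralizer_iff]
      intro v hv
      rw [Set.mem_singleton_iff] at hv
      subst hv
      have : n₀⁻¹ * (n * v * n⁻¹) * n₀ = v := by rw [heq]; group
      calc v * (n₀⁻¹ * n) = (n₀⁻¹ * (n * v * n⁻¹) * n₀) * (n₀⁻¹ * n) := by rw [this]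
        _ = n₀⁻¹ * n * v := by group
    · intro n _ m _ h
      exact mul_left_cancel h
  have h1 : NF.card ≤ 9 * (NF.image φ).card := Finset.card_le_mul_card_image NF 9 hfib
  have h2 : 8 ≤ (NF.image φ).card := by omega
  have h3 : NF.image φ = SF := Finset.eq_of_subset_of_card_le himg (by omega)
  have hbS : b ∈ NF.image φ := by
    rw [h3, hSFdef, Finset.mem_erase, hTFdef, Finset.mem_filter]
    exact ⟨hb1, Finset.mem_univ _, hb⟩
  obtain ⟨n, _, hnb⟩ := Finset.mem_image.mp hbS
  exact isConj_iff.mpr ⟨n, hnb⟩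

end Cfsg.Agent.Helper72.A6
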