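import Mathlib
import Cfsg.Agent.Helper21.A6Defs
import Cfsg.Agent.Helper72.A6_GA3b

/-!
# S3341 piece (GA5a) for helper21: the case `|N_G(T)| = 36`.
-/

set_option autoImplicit false

namespace Cfsg.Agent.Helper72.A6

open Cfsg.Agent.Helper21.A6

universe u
variable {G : Type u} [Group G] [Finite G]

omit [Finite G] in
/-- an element with `s = s⁻¹` and `s ^ 3 = 1` is trivial. -/
theorem eq_one_of_eq_inv_of_pow_three {s : G} (h : s = s⁻¹) (h3 : s ^ 3 = 1) : s = 1 := by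
  have h2 : s * s = 1 := by
    nth_rewrite 2 [h]
    exact mul_inv_cancel s
  calc s = (s * s)⁻¹ * s ^ 3 := by group
    _ = 1 := by rw [h2, h3]; group

omit [Finite G] in
/-- `T` has a non-identity element. -/
theorem Hyp_exists_ne_one {T : Subgroup G} (hT : Hyp T) : ∃ x ∈ T, x ≠ 1 := by
  by_contra hcon
  push Not at hcon
  have : T = ⊥ := (Subgroup.eq_bot_iff_forall T).mpr hcon
  have h9 := hT.cardT
  rw [this, Subgroup.card_bot] at h9
  omega

/-- (GA5a) -/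
theorem exists_sq_not_mem (T : Subgroup G) (hT : Hyp T)
    (hN : Nat.card (Subgroup.normalizer (T : Set G)) = 36) :
    ∃ j ∈ Subgroup.normalizer (T : Set G), j ^ 2 ∉ T := by
  classical
  by_contra hcon
  push Not at hcon
  have : Fintype G := Fintype.ofFinite G
  set N := Subgroup.normalizer (T : Set G) with hNdef
  set NF : Finset G := Finset.univ.filter (· ∈ N) with hNFdef
  set TF : Finset G := Finset.univ.filter (· ∈ T) with hTFdef
  have hNF : NF.card = 36 := by rw [hNFdef, card_filter_mem_eq, hN]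
  have hTF : TF.card = 9 := by rw [hTFdef, card_filter_mem_eq, hT.cardT]
  -- every element of `N \ T` inverts `T`
  have hinv : ∀ n ∈ N, n ∉ T → ∀ s ∈ T, n * s * n⁻¹ = s⁻¹ := fun n hn hnT =>
    hT.inverts_of_sq_mem hn hnT (hcon n hn)
  -- pick `n₁ ∈ N \ T`
  obtain ⟨n₁, hn₁N, hn₁T⟩ : ∃ n ∈ NF, n ∉ TF :=
    Finset.exists_mem_notMem_of_card_lt_card (by omega)
  have hn₁N' : n₁ ∈ N := (Finset.mem_filter.mp hn₁N).2
  have hn₁T' : n₁ ∉ T := fun h => hn₁T (Finset.mem_filter.mpr ⟨Finset.mem_univ _, h⟩)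
  -- pick `n₂ ∈ N` outside `T ∪ n₁⁻¹ T`
  have hU : (TF ∪ TF.image (fun t => n₁⁻¹ * t)).card < NF.card := by
    have h1 := Finset.card_union_le TF (TF.image (fun t => n₁⁻¹ * t))
    have h2 : (TF.image (fun t => n₁⁻¹ * t)).card ≤ TF.card := Finset.card_image_le
    omega
  obtain ⟨n₂, hn₂N, hn₂U⟩ := Finset.exists_mem_notMem_of_card_lt_card hU
  have hn₂N' : n₂ ∈ N := (Finset.mem_filter.mp hn₂N).2
  have hn₂T' : n₂ ∉ T := fun h =>
    hn₂U (Finset.mem_union_left _ (Finset.mem_filter.mpr ⟨Finset.mem_univ _, h⟩))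
  have hn₁₂T : n₁ * n₂ ∉ T := by
    intro h
    apply hn₂U
    apply Finset.mem_union_right
    rw [Finset.mem_image]
    exact ⟨n₁ * n₂, Finset.mem_filter.mpr ⟨Finset.mem_univ _, h⟩, by group⟩
  have hn₁₂N : n₁ * n₂ ∈ N := N.mul_mem hn₁N' hn₂N'
  -- `T` is then trivial
  obtain ⟨x, hxT, hx1⟩ := Hyp_exists_ne_one hT
  apply hx1
  apply eq_one_of_eq_inv_of_pow_three _ (hT.expT x hxT)
  have e1 := hinv (n₁ * n₂) hn₁₂N hn₁₂T x hxT
  have e2 := hinv n₂ hn₂N' hn₂T' x hxT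
  have e3 := hinv n₁ hn₁N' hn₁T' x⁻¹ (T.inv_mem hxT)
  have e4 : n₁ * n₂ * x * (n₁ * n₂)⁻¹ = n₁ * (n₂ * x * n₂⁻¹) * n₁⁻¹ := by group
  rw [e4, e2, e3, inv_inv] at e1
  exact e1

end Cfsg.Agent.Helper72.A6
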