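import Mathlib
import Cfsg.Agent.Helper21.A6Defs
import Cfsg.Agent.Helper72.A6_GA5a

/-!
# S3341 piece (GA5b) for helper21: coordinates of `N_G(T) = T ⋊ ⟨j⟩`, `|N_G(T)| = 36`.
-/

set_option autoImplicit false

namespace Cfsg.Agent.Helper72.A6

open Cfsg.Agent.Helper21.A6

universe u
variable {G : Type u} [Group G] [Finite G]

/-- the quotient `N_G(T) / T` has order `4` when `|N_G(T)| = 36`, `|T| = 9`: consequences
for an element `j ∈ N` with `j ^ 2 ∉ T`. -/
theorem quot_four (T : Subgroup G) (hT : Hyp T)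
    (hN : Nat.card (Subgroup.normalizer (T : Set G)) = 36)
    (j : G) (hj : j ∈ Subgroup.normalizer (T : Set G)) (hj2 : j ^ 2 ∉ T) :
    j ^ 4 ∈ T ∧ ∀ n ∈ Subgroup.normalizer (T : Set G),
      ∃ t ∈ T, n = t ∨ n = t * j ∨ n = t * j ^ 2 ∨ n = t * j ^ 3 := by
  classical
  set N := Subgroup.normalizer (T : Set G) with hNdef
  have hTN : T ≤ N := Subgroup.le_normalizer
  have hnorm : (T.subgroupOf N).Normal := Subgroup.normal_in_normalizer
  have hcardT' : Nat.card (T.subgroupOf N) = 9 := by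
    rw [Nat.card_congr (Subgroup.subgroupOfEquivOfLe hTN).toEquiv, hT.cardT]
  have hQ : Nat.card (N ⧸ T.subgroupOf N) = 4 := by
    have h := Subgroup.card_eq_card_quotient_mul_card_subgroup (T.subgroupOf N)
    rw [hN, hcardT'] at h
    omega
  set q : N ⧸ T.subgroupOf N := QuotientGroup.mk (⟨j, hj⟩ : N) with hq
  have hmk_eq_one : ∀ m : N, (QuotientGroup.mk m : N ⧸ T.subgroupOf N) = 1 ↔ (m : G) ∈ T := by
    intro m
    rw [QuotientGroup.eq_one_iff, Subgroup.mem_subgroupOf]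
  have hqpow : ∀ k : ℕ, q ^ k = QuotientGroup.mk ((⟨j, hj⟩ : N) ^ k) := fun k => rfl
  have hq4 : q ^ 4 = 1 := by
    have := pow_card_eq_one' (G := N ⧸ T.subgroupOf N) (x := q)
    rwa [hQ] at this
  have hj4 : j ^ 4 ∈ T := by
    have := hq4
    rw [hqpow, hmk_eq_one] at this
    simpa using this
  have hq2 : q ^ 2 ≠ 1 := by
    intro h
    rw [hqpow, hmk_eq_one] at h
    apply hj2
    simpa using h
  have hord : orderOf q = 4 := by
    have hdvd : orderOf q ∣ 4 := orderOf_dvd_of_pow_eq_one hq4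
    have hle : orderOf q ≤ 4 := Nat.le_of_dvd (by norm_num) hdvd
    have hpos : 0 < orderOf q := orderOf_pos q
    have hnd : ¬ orderOf q ∣ 2 := fun h => hq2 (orderOf_dvd_iff_pow_eq_one.mp h)
    interval_cases h : orderOf q
    · exact absurd (one_dvd 2) hnd
    · exact absurd (dvd_refl 2) hnd
    · norm_num at hdvd
    · rfl
  have htop : Subgroup.zpowers q = ⊤ := by
    apply Subgroup.eq_top_of_card_eq
    rw [Nat.card_zpowers, hord, hQ]
  refine ⟨hj4, ?_⟩
  intro n hn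
  have hmem : (QuotientGroup.mk (⟨n, hn⟩ : N) : N ⧸ T.subgroupOf N) ∈ Subgroup.zpowers q := by
    rw [htop]; exact Subgroup.mem_top _
  rw [← mem_powers_iff_mem_zpowers, Submonoid.mem_powers_iff] at hmem
  obtain ⟨k, hk⟩ := hmem
  have hk' : q ^ (k % 4) = QuotientGroup.mk (⟨n, hn⟩ : N) := by
    rw [← hk, ← hord, pow_mod_orderOf]
  -- `n * (j ^ m)⁻¹ ∈ T`
  have key : n * (j ^ (k % 4))⁻¹ ∈ T := by
    have h1 : (QuotientGroup.mk ((⟨n, hn⟩ : N) * ((⟨j, hj⟩ : N) ^ (k % 4))⁻¹) :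
        N ⧸ T.subgroupOf N) = 1 := by
      rw [QuotientGroup.mk_mul, QuotientGroup.mk_inv, ← hqpow, hk', mul_inv_cancel]
    rw [hmk_eq_one] at h1
    simpa using h1
  refine ⟨n * (j ^ (k % 4))⁻¹, key, ?_⟩
  have hlt : k % 4 < 4 := Nat.mod_lt _ (by norm_num)
  interval_cases h : k % 4
  · left; simp
  · right; left; simp
  · right; right; left; simp
  · right; right; right; simp

/-- (GA5b) -/
theorem exists_ndata4 (T : Subgroup G) (hT : Hyp T) (hb : BasisStmt T)
    (hN : Nat.card (Subgroup.normalizer (T : Set G)) = 36)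
    (j : G) (hj : j ∈ Subgroup.normalizer (T : Set G)) (hj2 : j ^ 2 ∉ T) :
    ∃ x y : G, NData4 T x y j := by
  obtain ⟨hj4, hmemN⟩ := quot_four T hT hN j hj hj2
  -- `j ^ 2` inverts `T`
  have hj2N : j ^ 2 ∈ Subgroup.normalizer (T : Set G) := Subgroup.pow_mem _ hj 2
  have hinv : ∀ s ∈ T, j ^ 2 * s * (j ^ 2)⁻¹ = s⁻¹ :=
    hT.inverts_of_sq_mem hj2N hj2 (by rw [← pow_mul]; exact hj4)
  obtain ⟨x, hxT, hx1⟩ := Hyp_exists_ne_one hT
  have hx3 : x ^ 3 = 1 := hT.expT x hxT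
  have hyT : j * x * j⁻¹ ∈ T := (Subgroup.mem_normalizer_iff.mp hj x).mp hxT
  have hy1 : j * x * j⁻¹ ≠ 1 := by
    intro h
    apply hx1
    have h2 : x = j⁻¹ * (j * x * j⁻¹) * j := by group
    rw [h2, h]; group
  have hjy : j * (j * x * j⁻¹) * j⁻¹ = x⁻¹ := by
    rw [← hinv x hxT, pow_two, mul_inv_rev]
    simp only [mul_assoc]
  -- `y` is not a power of `x`
  have hnp : ∀ i : ℕ, j * x * j⁻¹ ≠ x ^ i := by
    intro i hi
    have hconj : j * x ^ i * j⁻¹ = (j * x * j⁻¹) ^ i := by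
      rw [conj_pow]
    have e1 : x⁻¹ = x ^ (i * i) := by
      rw [← hjy, hi, hconj, hi, ← pow_mul]
    have h3 : i % 3 = 0 ∨ i % 3 = 1 ∨ i % 3 = 2 := by omega
    rcases h3 with h | h | h
    · apply hy1
      rw [hi, pow_eq_pow_mod i hx3, h, pow_zero]
    · apply hx1
      apply eq_one_of_eq_inv_of_pow_three _ hx3
      have : (i * i) % 3 = 1 := by rw [Nat.mul_mod, h]
      rw [pow_eq_pow_mod (i * i) hx3, this, pow_one] at e1
      exact e1.symm
    · apply hx1
      apply eq_one_of_eq_inv_of_pow_three _ hx3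
      have : (i * i) % 3 = 1 := by rw [Nat.mul_mod, h]
      rw [pow_eq_pow_mod (i * i) hx3, this, pow_one] at e1
      exact e1.symm
  obtain ⟨hindep, hmemT⟩ := hb x hxT hx1 (j * x * j⁻¹) hyT hnp
  exact ⟨x, j * x * j⁻¹,
    { x3 := hx3
      y3 := hT.expT _ hyT
      x1 := hx1
      y1 := hy1
      comm := hT.commT x hxT _ hyT
      commT := hT.commT
      xT := hxT
      yT := hyT
      indep := hindep
      memT := hmemT
      jN := hj
      jx := rfl
      jy := hjy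
      memN := hmemN }⟩

end Cfsg.Agent.Helper72.A6
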