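import Mathlib
import Cfsg.Agent.Helper6.ReeH1

/-!
# Piece (A) of S2343 (helper6's plan, board #6395): algebra of the Fourier projections
-/

set_option autoImplicit false
set_option linter.unusedSectionVars false

namespace Cfsg.Agent.Helper72.ReeA

open Cfsg.Agent.Helper6.ReeH

variable {A ι M : Type*} [AddCommGroup A] [Fintype A] [DecidableEq A] [Fintype ι] [DecidableEq ι]
  [Ring M] [Algebra ℂ M]

theorem mul_fproj (χ : ι → AddChar A ℂ) (s : A → M) (hs : ∀ x y, s (x + y) = s x * s y) (x : A)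
    (p : ι) : s x * fproj χ s p = χ p x • fproj χ s p := by
  have key : s x * ∑ y : A, χ p (-y) • s y = χ p x • ∑ y : A, χ p (-y) • s y := by
    rw [Finset.mul_sum, Finset.smul_sum]
    calc ∑ y : A, s x * (χ p (-y) • s y)
        = ∑ y : A, χ p x • (χ p (-(x + y)) • s (x + y)) := by
          apply Finset.sum_congr rfl
          intro y _
          rw [mul_smul_comm, ← hs, smul_smul, ← AddChar.map_add_eq_mul]
          congr 2
          abel
      _ = ∑ z : A, χ p x • (χ p (-z) • s z) :=
          Equiv.sum_comp (Equiv.addLeft x) (fun z => χ p x • (χ p (-z) • s z))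
  unfold fproj
  rw [mul_smul_comm, key, smul_comm]

theorem fproj_mul (χ : ι → AddChar A ℂ) (s : A → M) (hs : ∀ x y, s (x + y) = s x * s y)
    (hO1 : ∀ p p', ∑ x : A, χ p x * χ p' (-x) = if p = p' then (Fintype.card A : ℂ) else 0)
    (p p' : ι) : fproj χ s p * fproj χ s p' = if p = p' then fproj χ s p else 0 := by
  have hN : (Fintype.card A : ℂ) ≠ 0 := by
    have : 0 < Fintype.card A := Fintype.card_pos
    exact_mod_cast this.ne'
  have h1 : fproj χ s p * fproj χ s p' =
      (Fintype.card A : ℂ)⁻¹ • ((∑ x : A, χ p (-x) * χ p' x) • fproj χ s p') := by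
    conv_lhs => rw [fproj]
    rw [smul_mul_assoc, Finset.sum_mul, Finset.sum_smul]
    congr 1
    apply Finset.sum_congr rfl
    intro x _
    rw [smul_mul_assoc, mul_fproj χ s hs, smul_smul]
  have h2 : ∑ x : A, χ p (-x) * χ p' x = ∑ x : A, χ p x * χ p' (-x) := by
    rw [← Equiv.sum_comp (Equiv.neg A) (fun x => χ p x * χ p' (-x))]
    apply Finset.sum_congr rfl
    intro x _
    simp
  rw [h1, h2, hO1 p p']
  split_ifs with hpp
  · subst hpp
    rw [smul_smul, inv_mul_cancel₀ hN, one_smul]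
  · rw [zero_smul, smul_zero]

theorem sum_fproj (χ : ι → AddChar A ℂ) (s : A → M) (hs0 : s 0 = 1)
    (hO2 : ∀ x : A, ∑ p : ι, χ p x = if x = 0 then (Fintype.card A : ℂ) else 0) :
    ∑ p : ι, fproj χ s p = 1 := by
  have hN : (Fintype.card A : ℂ) ≠ 0 := by
    have : 0 < Fintype.card A := Fintype.card_pos
    exact_mod_cast this.ne'
  unfold fproj
  rw [← Finset.smul_sum, Finset.sum_comm]
  have h1 : ∀ x : A, ∑ p : ι, χ p (-x) • s x =
      (if x = 0 then (Fintype.card A : ℂ) else 0) • s x := by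
    intro x
    rw [← Finset.sum_smul, hO2 (-x)]
    simp only [neg_eq_zero]
  rw [Finset.sum_congr rfl (fun x _ => h1 x)]
  simp only [ite_smul, zero_smul, Finset.sum_ite_eq', Finset.mem_univ, if_true]
  rw [smul_smul, inv_mul_cancel₀ hN, one_smul, hs0]

theorem conj_fproj (χ : ι → AddChar A ℂ) (s : A → M) (g g' : M) (σ : A ≃ A)
    (hg : ∀ x, g * s x * g' = s (σ x)) (p p' : ι) (hp : ∀ x, χ p (-x) = χ p' (-(σ x))) :
    g * fproj χ s p * g' = fproj χ s p' := by
  unfold fproj
  rw [mul_smul_comm, smul_mul_assoc, Finset.mul_sum, Finset.sum_mul]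
  congr 1
  calc ∑ x : A, g * (χ p (-x) • s x) * g'
      = ∑ x : A, χ p' (-(σ x)) • s (σ x) := by
        apply Finset.sum_congr rfl
        intro x _
        rw [mul_smul_comm, smul_mul_assoc, hg, hp]
    _ = ∑ y : A, χ p' (-y) • s y := Equiv.sum_comp σ (fun y => χ p' (-y) • s y)

end Cfsg.Agent.Helper72.ReeA
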