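import Mathlib

/-!
# Piece (C) of S2343 (helper6's plan, board #6395): traces of idempotents and of operators permuting
a complete system of orthogonal idempotents
-/

set_option autoImplicit false
set_option linter.unusedSectionVars false

namespace Cfsg.Agent.Helper72.ReeC

variable {V : Type*} [AddCommGroup V] [Module ℂ V] [FiniteDimensional ℂ V]

theorem trace_idem (E : Module.End ℂ V) (h : E * E = E) :
    LinearMap.trace ℂ V E = (Module.finrank ℂ (LinearMap.range E) : ℂ) := by
  have hi : IsIdempotentElem E := h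
  exact (LinearMap.IsIdempotentElem.isProj_range E hi).trace

theorem eq_zero_of_trace_idem (E : Module.End ℂ V) (h : E * E = E)
    (h0 : LinearMap.trace ℂ V E = 0) : E = 0 := by
  have hi : IsIdempotentElem E := h
  exact LinearMap.IsIdempotentElem.eq_zero_of_trace_eq_zero hi h0

theorem trace_conj_eq (E g g' : Module.End ℂ V) (h : g' * g = 1) :
    LinearMap.trace ℂ V (g * E * g') = LinearMap.trace ℂ V E := by
  rw [LinearMap.trace_mul_comm, ← mul_assoc, h, one_mul]

theorem trace_eq_zero_of_perm {ι : Type*} [Fintype ι] [DecidableEq ι]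
    (E : ι → Module.End ℂ V) (hE : ∀ p p', E p * E p' = if p = p' then E p else 0)
    (hsum : ∑ p, E p = 1) (h : Module.End ℂ V) (σ : ι → ι)
    (hσ : ∀ p, h * E p = E (σ p) * h) (hfix : ∀ p, σ p = p → E p = 0) :
    LinearMap.trace ℂ V h = 0 := by
  have h1 : h = ∑ p, h * E p := by
    rw [← Finset.mul_sum, hsum, mul_one]
  rw [h1, map_sum]
  apply Finset.sum_eq_zero
  intro p _
  by_cases hp : σ p = p
  · rw [hfix p hp, mul_zero, map_zero]
  · have hpp : E p * E p = E p := by rw [hE p p, if_pos rfl]
    have h2 : h * E p = E (σ p) * h * E p := by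
      conv_lhs => rw [← hpp, ← mul_assoc, hσ p]
    rw [h2, mul_assoc, LinearMap.trace_mul_comm, mul_assoc, hE p (σ p), if_neg (Ne.symm hp),
      mul_zero, map_zero]

end Cfsg.Agent.Helper72.ReeC
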