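import Mathlib

/-!
# S2222 (helper86), piece (S9): fixed points of Sylow 2-subgroups of symmetric groups.
-/

set_option autoImplicit false
set_option linter.unusedSectionVars false

namespace Cfsg.Agent.Helper72.AltPro

open Equiv Equiv.Perm

variable {β : Type*} [DecidableEq β] [Fintype β]

/-- (S9a) a Sylow 2-subgroup of `Sym β` has at most one fixed point. -/
theorem sylow_two_fixedPoint_unique (K : Sylow 2 (Perm β)) {i j : β}
    (hi : ∀ k ∈ K, k i = i) (hj : ∀ k ∈ K, k j = j) : i = j := by
  by_contra hij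
  set t : Perm β := swap i j with ht
  -- `t ∉ K`
  have htK : t ∉ (K : Subgroup (Perm β)) := by
    intro h
    have := hi t h
    rw [ht, swap_apply_left] at this
    exact hij this.symm
  -- `K` centralizes `t`
  have hcomm : ∀ k ∈ (K : Subgroup (Perm β)), k * t * k⁻¹ = t := by
    intro k hk
    rw [ht, Equiv.mul_swap_eq_swap_mul, hi k hk, hj k hk, mul_inv_cancel_right]
  have hZ : IsPGroup 2 (Subgroup.zpowers t) := by
    apply IsPGroup.of_card (n := 1)
    rw [Nat.card_zpowers, pow_one, ht]
    apply orderOf_eq_prime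
    · rw [pow_two, Equiv.swap_mul_self]
    · intro h
      exact hij (Equiv.swap_eq_one_iff.mp h)
  have hnorm : (K : Subgroup (Perm β)) ≤
      Subgroup.normalizer ((Subgroup.zpowers t : Subgroup (Perm β)) : Set (Perm β)) := by
    intro k hk
    rw [Subgroup.mem_normalizer_iff]
    intro y
    have hkt : k * t = t * k := by
      have := hcomm k hk
      calc k * t = (k * t * k⁻¹) * k := by group
        _ = t * k := by rw [this]
    have hkz : ∀ m : ℤ, k * t ^ m * k⁻¹ = t ^ m := by
      intro m
      have hc : Commute k t := hkt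
      have := (hc.zpow_right m).eq
      calc k * t ^ m * k⁻¹ = (t ^ m * k) * k⁻¹ := by rw [this]
        _ = t ^ m := by group
    constructor
    · rintro ⟨m, rfl⟩
      exact ⟨m, (hkz m).symm⟩
    · rintro ⟨m, hm⟩
      refine ⟨m, ?_⟩
      have h1 : k * y * k⁻¹ = k * t ^ m * k⁻¹ := by rw [← hm, hkz m]
      have h2 := mul_right_cancel (mul_left_cancel h1)
      exact h2.symm
  have hsup : IsPGroup 2 ((K : Subgroup (Perm β)) ⊔ Subgroup.zpowers t : Subgroup (Perm β)) :=
    IsPGroup.to_sup_of_normal_right' K.isPGroup' hZ hnorm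
  have hmax := K.is_maximal' hsup le_sup_left
  apply htK
  rw [← hmax]
  exact (le_sup_right : Subgroup.zpowers t ≤ _) (Subgroup.mem_zpowers t)

/-- (S9b) a 2-subgroup of `Sym β` with `|β|` odd has a fixed point. -/
theorem exists_fixedPoint_of_odd (K : Subgroup (Perm β)) (hK : IsPGroup 2 K)
    (hodd : Odd (Fintype.card β)) : ∃ i, ∀ k ∈ K, k i = i := by
  have hnd : ¬ 2 ∣ Nat.card β := by
    rw [Nat.card_eq_fintype_card]
    intro h
    exact (Nat.not_even_iff_odd.mpr hodd) (even_iff_two_dvd.mpr h)
  obtain ⟨i, hi⟩ := hK.nonempty_fixed_point_of_prime_not_dvd_card β hnd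
  refine ⟨i, fun k hk => ?_⟩
  have := hi ⟨k, hk⟩
  simpa using this

end Cfsg.Agent.Helper72.AltPro
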