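import Cfsg.Agent.Helper6.SzChar0
import Cfsg.Agent.Helper15.IndFun
import Cfsg.Agent.Helper79.Linear
import Cfsg.Agent.Helper79.CharComplete
import Cfsg.Agent.Helper74.CharBasic
import Cfsg.Agent.Helper78.IrrBasic

/-!
# [MI6] of helper6's S4775 (character degrees of `Sz(q)`): multiplicities of the non-linear
characters of `B` in the restriction of a principal series character.

`szc_ps_mult_of` takes [MD] (`szc_inner_ind_ind`) as a hypothesis.
-/

set_option autoImplicit false

namespace Cfsg.Agent.Helper72.Szc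

open Cfsg Cfsg.Agent.Helper6
open scoped ComplexConjugate

universe u

variable {G : Type u} [Group G] [Fintype G] {Q H B K₁ K₂ : Subgroup G} {w : G} {T : ℕ}
  [Fintype ↥B]

/-- MI6, from MD as a hypothesis -/
theorem szc_ps_mult_of
    (hMD : ∀ γ α : ↥B → ℂ, IsClassFunction ↥B α → (∀ x : ↥B, (x : G) ∉ Q → α x = 0) →
      classInner (indFun B γ) (indFun B α)
        = classInner γ α + γ 1 * conj (α 1) / ((2 * T ^ 2 - 1 : ℕ) : ℂ))
    (l : ↥B →* ℂ)
    (hl : ∀ x : ↥B, (x : G) ∈ Q → l x = 1) (β : ↥B → ℂ) (hβ : IsIrrCharacter ↥B β)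
    (hk : ∃ n : ↥B, (n : G) ∈ Q ∧ β n ≠ β 1) (hvan : ∀ x : ↥B, (x : G) ∉ Q → β x = 0) :
    classInner (resFun B (indFun B (fun b => l b))) β = β 1 / ((2 * T ^ 2 - 1 : ℕ) : ℂ) := by
  have hβcf : IsClassFunction ↥B β :=
    Helper79.irr_isClassFunction (⟨β, hβ⟩ : IrrCharacter ↥B)
  have hlirr : IsIrrCharacter ↥B (fun b => l b) := Helper79.isIrrCharacter_of_monoidHom l
  -- Frobenius reciprocity
  have h1 : classInner (resFun B (indFun B (fun b => l b))) β
      = classInner (indFun B (fun b => l b)) (indFun B β) :=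
    (Helper15.frobenius_reciprocity' B β (indFun B (fun b => l b))
      (Helper15.isClassFunction_indFun B _)).symm
  -- `l ≠ β`
  have hne : (⟨fun b => l b, hlirr⟩ : IrrCharacter ↥B) ≠ ⟨β, hβ⟩ := by
    intro hc
    have hfun : (fun b => l b) = β := congrArg Subtype.val hc
    obtain ⟨n, hnQ, hn⟩ := hk
    apply hn
    rw [← hfun]
    show l n = l 1
    rw [hl n hnQ, map_one]
  have h2 : classInner (fun b : ↥B => l b) β = 0 :=
    Helper74.irr_inner_ne (χ := (⟨fun b => l b, hlirr⟩ : IrrCharacter ↥B)) (ψ := ⟨β, hβ⟩) hne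
  -- `β 1` is real
  have h3 : conj (β 1) = β 1 := by
    rw [Helper78.irrChar_one_eq_charDegree hβ, Complex.conj_natCast]
  rw [h1, hMD _ β hβcf hvan, h2, zero_add, h3]
  show l 1 * β 1 / _ = _
  rw [map_one, one_mul]

end Cfsg.Agent.Helper72.Szc
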