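import Mathlib
import Cfsg.Agent.Helper38.VL.Defs

/-!
# (IDX) for helper38's S3777 (Vaughan-Lee) farm (helper72): breadth does not grow in subgroups
-/

set_option autoImplicit false

namespace Cfsg.Agent.Helper72.VL

open Subgroup

universe u

/-- (IDX) breadth does not grow in subgroups. -/
theorem index_centralizer_subgroup_le {G : Type*} [Group G] [Finite G] (H : Subgroup G) (x : H) :
    (Subgroup.centralizer ({x} : Set H)).index ≤
      (Subgroup.centralizer ({(x : G)} : Set G)).index := by
  have h1 : Subgroup.centralizer ({x} : Set H) =
      (Subgroup.centralizer ({(x : G)} : Set G)).subgroupOf H := by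
    ext y
    rw [Subgroup.mem_subgroupOf, Subgroup.mem_centralizer_iff, Subgroup.mem_centralizer_iff]
    constructor
    · intro h g hg
      rw [Set.mem_singleton_iff] at hg
      subst hg
      have := h x (Set.mem_singleton x)
      exact congrArg Subtype.val this
    · intro h g hg
      rw [Set.mem_singleton_iff] at hg
      subst hg
      apply Subtype.ext
      exact h (g : G) (Set.mem_singleton _)
  rw [h1]
  set C : Subgroup G := Subgroup.centralizer ({(x : G)} : Set G) with hC
  have h2 : (C.subgroupOf H).index = C.relIndex H := rfl
  rw [h2, ← Subgroup.relIndex_top_right C]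
  apply Subgroup.relIndex_le_of_le_right le_top
  rw [Subgroup.relIndex_top_right]
  exact Subgroup.index_ne_zero_of_finite

end Cfsg.Agent.Helper72.VL
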