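import Mathlib
import Cfsg.Agent.Helper43.EB.Defs

/-!
# (CNT) `no_three` for helper43's S5877 farm

A sequence `a_j` with `a_{j+1} = a_j ν_j`, `ν_{j+1} = ω^e ν_j`, of period `r` (an odd prime,
`ω` a primitive `r`-th root of unity), which is not constant, takes no value three times in a period.
-/

set_option autoImplicit false

namespace Cfsg.Agent.Helper72.EBCNT

open Cfsg.Agent.Helper43.EB Module

variable {F : Type*} [Field F]

/-- triangular numbers `0, 0, 1, 3, 6, …` -/
def tri : ℕ → ℕ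
  | 0 => 0
  | (j + 1) => tri j + j

theorem two_mul_tri (j : ℕ) : 2 * tri j + j = j * j := by
  induction j with
  | zero => rfl
  | succ n ih => simp only [tri]; nlinarith

theorem pow_eq_pow_zmod {r : ℕ} {ω : F} (hω : IsPrimitiveRoot ω r) (hr0 : r ≠ 0) {m n : ℕ}
    (h : ω ^ m = ω ^ n) : (m : ZMod r) = (n : ZMod r) := by
  have hω0 : ω ≠ 0 := hω.ne_zero hr0
  have h1 : ω ^ ((m : ℤ) - n) = 1 := by
    rw [zpow_sub₀ hω0, zpow_natCast, zpow_natCast, h, div_self (pow_ne_zero _ hω0)]
  rw [hω.zpow_eq_one_iff_dvd] at h1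
  have h2 := (ZMod.intCast_zmod_eq_zero_iff_dvd _ _).2 h1
  push_cast at h2
  exact sub_eq_zero.1 h2

theorem natCast_sub_ne_zero {r : ℕ} {x y : ℕ} (hxy : x < y) (hyr : y < r) :
    ((y : ZMod r) - x) ≠ 0 := by
  intro h0
  have h1 : ((y - x : ℕ) : ZMod r) = 0 := by rw [Nat.cast_sub hxy.le]; exact h0
  rw [ZMod.natCast_eq_zero_iff] at h1
  have := Nat.le_of_dvd (by omega) h1
  omega

/-- (CNT) a sequence `a_j` with `a_{j+1} = a_j ν_j`, `ν_{j+1} = ω^e ν_j`, of period `r` and not constant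
takes no value three times in a period -/
theorem no_three {r : ℕ} (hr : r.Prime) (hr2 : r ≠ 2) {ω : F} (hω : IsPrimitiveRoot ω r)
    (a ν : ℕ → F) (ha : ∀ j, a j ≠ 0) (hstep : ∀ j, a (j + 1) = a j * ν j) (e : ℕ)
    (hν : ∀ j, ν (j + 1) = ω ^ e * ν j) (hper : ∀ j, a (j + r) = a j) (hnc : ∃ j, a j ≠ a 0)
    (c : F) (i j k : ℕ) (hij : i < j) (hjk : j < k) (hkr : k < r) (hi : a i = c) (hj : a j = c)
    (hk : a k = c) : False := by
  have : Fact r.Prime := ⟨hr⟩
  have hr0 : r ≠ 0 := hr.ne_zero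
  have : NeZero r := ⟨hr0⟩
  have hω0 : ω ≠ 0 := hω.ne_zero hr0
  have hνj : ∀ j, ν j = ω ^ (e * j) * ν 0 := by
    intro j
    induction j with
    | zero => simp
    | succ n ih => rw [hν, ih, ← mul_assoc, ← pow_add]; congr 2; ring
  have haj : ∀ j, a j = a 0 * ν 0 ^ j * ω ^ (e * tri j) := by
    intro j
    induction j with
    | zero => simp [tri]
    | succ n ih =>
      rw [hstep, ih, hνj n]
      simp only [tri]
      rw [mul_add, pow_add, pow_succ]
      ring
  obtain ⟨m, hm⟩ : ∃ m, r = 2 * m + 1 := by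
    rcases hr.eq_two_or_odd' with h | h
    · exact absurd h hr2
    · exact h
  have htri_r : tri r = r * m := by
    have h1 := two_mul_tri r
    have h2 : r * r = 2 * (r * m) + r := by nlinarith
    omega
  have hν0r : ν 0 ^ r = 1 := by
    have h1 := haj r
    rw [show a r = a 0 from by simpa using hper 0] at h1
    have h0 : ω ^ (e * tri r) = 1 := by
      rw [htri_r, show e * (r * m) = r * (e * m) by ring, pow_mul, hω.pow_eq_one, one_pow]
    rw [h0, mul_one] at h1
    have h2 := mul_left_cancel₀ (ha 0) (show a 0 * 1 = a 0 * ν 0 ^ r by rw [mul_one]; exact h1)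
    exact h2.symm
  obtain ⟨t, -, ht⟩ := hω.eq_pow_of_pow_eq_one hν0r
  have haj' : ∀ j, a j = a 0 * ω ^ (t * j + e * tri j) := by
    intro j; rw [haj j, ← ht, ← pow_mul, pow_add, mul_assoc]
  have key : ∀ x y, x < y → y < r → a x = a y →
      (2 * (t : ZMod r) + (e : ZMod r) * ((x : ZMod r) + y - 1)) = 0 := by
    intro x y hxy hyr hxy'
    rw [haj' x, haj' y] at hxy'
    have h1 := mul_left_cancel₀ (ha 0) hxy'
    have h2 := pow_eq_pow_zmod hω hr0 h1
    push_cast at h2
    have tx : (2 : ZMod r) * (tri x : ZMod r) = (x : ZMod r) * x - x := by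
      have h3 := congrArg (Nat.cast : ℕ → ZMod r) (two_mul_tri x)
      push_cast at h3
      linear_combination h3
    have ty : (2 : ZMod r) * (tri y : ZMod r) = (y : ZMod r) * y - y := by
      have h3 := congrArg (Nat.cast : ℕ → ZMod r) (two_mul_tri y)
      push_cast at h3
      linear_combination h3
    have hne : ((y : ZMod r) - x) ≠ 0 := natCast_sub_ne_zero hxy hyr
    have h4 : ((y : ZMod r) - x) * (2 * (t : ZMod r) + (e : ZMod r) * ((x : ZMod r) + y - 1)) = 0 := by
      linear_combination (-2) * h2 - (e : ZMod r) * ty + (e : ZMod r) * tx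
    exact (mul_eq_zero.1 h4).resolve_left hne
  have k1 := key i j hij (hjk.trans hkr) (hi.trans hj.symm)
  have k2 := key j k hjk hkr (hj.trans hk.symm)
  have hki : ((k : ZMod r) - i) ≠ 0 := natCast_sub_ne_zero (hij.trans hjk) hkr
  have hez : (e : ZMod r) = 0 := by
    have h1 : (e : ZMod r) * ((k : ZMod r) - i) = 0 := by linear_combination k2 - k1
    exact (mul_eq_zero.1 h1).resolve_right hki
  have h2ne : (2 : ZMod r) ≠ 0 := by
    intro h
    have h1 : ((2 : ℕ) : ZMod r) = 0 := by exact_mod_cast h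
    rw [ZMod.natCast_eq_zero_iff] at h1
    exact hr2 ((Nat.prime_dvd_prime_iff_eq hr Nat.prime_two).1 h1)
  have htz : (t : ZMod r) = 0 := by
    rw [hez] at k1
    have h1 : (2 : ZMod r) * t = 0 := by linear_combination k1
    exact (mul_eq_zero.1 h1).resolve_left h2ne
  rw [ZMod.natCast_eq_zero_iff] at hez htz
  obtain ⟨q, hq⟩ := hez
  obtain ⟨q', hq'⟩ := htz
  have hν0 : ν 0 = 1 := by rw [← ht, hq', pow_mul, hω.pow_eq_one, one_pow]
  have hν1 : ∀ j, ν j = 1 := by
    intro j
    rw [hνj, hν0, mul_one, hq, mul_assoc, pow_mul, hω.pow_eq_one, one_pow]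
  have hconst : ∀ j, a j = a 0 := by
    intro j
    induction j with
    | zero => rfl
    | succ n ih => rw [hstep, hν1, mul_one, ih]
  obtain ⟨j0, hj0⟩ := hnc
  exact hj0 (hconst j0)

end Cfsg.Agent.Helper72.EBCNT
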