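import Mathlib
import Cfsg.Agent.Helper96.StN.Defs
import Cfsg.Agent.Helper96.StLift.Basic
import Cfsg.Agent.Helper96.StLift.Root

/-!
# Piece (L2) of S2086 (helper96's plan, board #6277): Milnor's argument

If lifts of commuting root elements commute and there are at least four indices, the central
extension carries a lifted Steinberg family.
-/

set_option autoImplicit false

namespace Cfsg.Agent.Helper72.StLL2

open Cfsg.Agent.Helper96.StN Cfsg.Agent.Helper96.StLift
open scoped commutatorElement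

variable {D : Type*} [Group D] {E : Type*} [Group E] {p : E →* D}
  {K : Type*} [Field K] {ι : Type*} {X : ι → ι → K → D}

section

variable (hp : Function.Surjective p) (hc : p.ker ≤ Subgroup.center E) (hX : StRel X)
  (hCL : CL hp X)

include hc hCL in
/-- lifts of commuting root elements commute -/
theorem lift_commute {i j k l : ι} (hij : i ≠ j) (hkl : k ≠ l) (hjk : j ≠ k) (hil : i ≠ l)
    {t u : K} {x y : E} (hx : p x = X i j t) (hy : p y = X k l u) : Commute x y := by
  have h := lc_eq' hp hc hx hy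
  rw [hCL i j k l hij hkl hjk hil t u] at h
  exact commutatorElement_eq_one_iff_commute.mp h

include hc hX hCL in
/-- (A) Milnor's identity for the symbols -/
theorem milnor {i h k j : ι} (hih : i ≠ h) (hik : i ≠ k) (hij : i ≠ j) (hhk : h ≠ k)
    (hhj : h ≠ j) (hkj : k ≠ j) (a b c : K) :
    lc hp (X i h a) (X h j (b * c)) = lc hp (X i k (a * b)) (X k j c) := by
  obtain ⟨u, hu⟩ := hp (X i h a)
  obtain ⟨v, hv⟩ := hp (X h k b)
  obtain ⟨w, hw⟩ := hp (X k j c)
  have huv : p ⁅u, v⁆ = X i k (a * b) := by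
    rw [map_commutatorElement, hu, hv, root_eq_commutator hX hih hhk hik]
  have hvw : p ⁅v, w⁆ = X h j (b * c) := by
    rw [map_commutatorElement, hv, hw, root_eq_commutator hX hhk hkj hhj]
  have huvw : p ⁅⁅u, v⁆, w⁆ = X i j (a * b * c) := by
    rw [map_commutatorElement, huv, hw, root_eq_commutator hX hik hkj hij]
  have h1 : Commute u w := lift_commute hp hc hCL hih hkj hhk hij hu hw
  have h2 : Commute ⁅u, v⁆ ⁅v, w⁆ := lift_commute hp hc hCL hik hhj hhk.symm hij huv hvw
  have h3 : Commute ⁅v, w⁆ ⁅⁅u, v⁆, w⁆ :=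
    lift_commute hp hc hCL hhj hij hij.symm hhj hvw huvw
  have h4 := milnor_identity u v w h1 h2 h3
  rw [lc_eq' hp hc hu hvw, lc_eq' hp hc huv hw] at h4
  exact h4

include hc hX hCL in
/-- (B) independence of the middle index -/
theorem mid_indep {i h k j : ι} (hih : i ≠ h) (hik : i ≠ k) (hij : i ≠ j)
    (hhj : h ≠ j) (hkj : k ≠ j) (a c : K) :
    lc hp (X i h a) (X h j c) = lc hp (X i k a) (X k j c) := by
  by_cases hhk : h = k
  · subst hhk; rfl
  · have h := milnor hp hc hX hCL hih hik hij hhk hhj hkj a 1 c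
    rwa [one_mul, mul_one] at h

variable (h4 : ∀ i j k : ι, ∃ m, m ≠ i ∧ m ≠ j ∧ m ≠ k)

include hc hX hCL h4 in
/-- (B') moving a scalar across the symbol -/
theorem symbol_assoc {i m j : ι} (him : i ≠ m) (hij : i ≠ j) (hmj : m ≠ j) (a b c : K) :
    lc hp (X i m a) (X m j (b * c)) = lc hp (X i m (a * b)) (X m j c) := by
  obtain ⟨k, hki, hkm, hkj⟩ := h4 i m j
  rw [milnor hp hc hX hCL him hki.symm hij hkm.symm hmj hkj a b c]
  exact mid_indep hp hc hX hCL hki.symm him hij hkj hmj (a * b) c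

/-- the lifted family -/
noncomputable def Zl (hp : Function.Surjective p) (X : ι → ι → K → D)
    (h4 : ∀ i j k : ι, ∃ m, m ≠ i ∧ m ≠ j ∧ m ≠ k) (i j : ι) (t : K) : E :=
  lc hp (X i (Classical.choose (h4 i j j)) t) (X (Classical.choose (h4 i j j)) j 1)

include hc hX hCL in
theorem Zl_eq {i j m : ι} (hij : i ≠ j) (hmi : m ≠ i) (hmj : m ≠ j) (t : K) :
    Zl hp X h4 i j t = lc hp (X i m t) (X m j 1) := by
  obtain ⟨h1, h2, -⟩ := Classical.choose_spec (h4 i j j)
  exact mid_indep hp hc hX hCL h1.symm hmi.symm hij h2 hmj t 1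

include hX in
theorem map_lc_root {i m j : ι} (him : i ≠ m) (hmj : m ≠ j) (hij : i ≠ j) (t u : K) :
    p (lc hp (X i m t) (X m j u)) = X i j (t * u) := by
  rw [map_lc, root_eq_commutator hX him hmj hij]

include hc hX hCL in
theorem map_Zl {i j : ι} (hij : i ≠ j) (t : K) : p (Zl hp X h4 i j t) = X i j t := by
  obtain ⟨m, hmi, hmj, -⟩ := h4 i j j
  rw [Zl_eq hp hc hX hCL h4 hij hmi hmj, map_lc_root hp hX hmi.symm hmj hij, mul_one]

include hc hX hCL in
theorem Zl_stRel : StRel (Zl hp X h4) where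
  add i j hij t u := by
    obtain ⟨m, hmi, hmj, -⟩ := h4 i j j
    rw [Zl_eq hp hc hX hCL h4 hij hmi hmj, Zl_eq hp hc hX hCL h4 hij hmi hmj,
      Zl_eq hp hc hX hCL h4 hij hmi hmj]
    obtain ⟨x, hx⟩ := hp (X i m u)
    rw [add_comm, hX.add i m hmi.symm, ← hx, lc_mul_left hp hc, hx]
    -- `x` commutes with the lift `lc (X i m t) (X m j 1)` of `X i j t`
    have hcomm : Commute x (lc hp (X i m t) (X m j 1)) :=
      lift_commute hp hc hCL hmi.symm hij hmi hij hx
        (by rw [map_lc_root hp hX hmi.symm hmj hij])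
    rw [hcomm.eq, mul_inv_cancel_right]
  comm i j k l hij hkl hjk hil t u :=
    lift_commute hp hc hCL hij hkl hjk hil (map_Zl hp hc hX hCL h4 hij t)
      (map_Zl hp hc hX hCL h4 hkl u)
  mul i j l hij hjl hil t u := by
    have h1 : Zl hp X h4 i j t * Zl hp X h4 j l u * (Zl hp X h4 i j t)⁻¹ * (Zl hp X h4 j l u)⁻¹ =
        ⁅Zl hp X h4 i j t, Zl hp X h4 j l u⁆ := (commutatorElement_def _ _).symm
    rw [h1, lc_eq' hp hc (map_Zl hp hc hX hCL h4 hij t) (map_Zl hp hc hX hCL h4 hjl u),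
      Zl_eq hp hc hX hCL h4 hil hij.symm hjl]
    have h2 := symbol_assoc hp hc hX hCL h4 hij hil hjl t u 1
    rw [mul_one] at h2
    exact h2

end

theorem exists_lift_of_CL (hp : Function.Surjective p) (hc : p.ker ≤ Subgroup.center E)
    (hX : StRel X) (h4 : ∀ i j k : ι, ∃ m, m ≠ i ∧ m ≠ j ∧ m ≠ k) (hCL : CL hp X) :
    ∃ Z : ι → ι → K → E, StRel Z ∧ ∀ i j, i ≠ j → ∀ t, p (Z i j t) = X i j t :=
  ⟨Zl hp X h4, Zl_stRel hp hc hX hCL h4, fun _ _ hij t => map_Zl hp hc hX hCL h4 hij t⟩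

end Cfsg.Agent.Helper72.StLL2
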