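import Mathlib
import Cfsg.Agent.Helper96.StN.Defs
import Cfsg.Agent.Helper96.StN.Conj
import Cfsg.Agent.Helper96.StLift.Basic
import Cfsg.Agent.Helper96.StLift.Root

/-!
# Piece (L4) of S2086 (helper96's plan, board #6281): lifts of root elements with a shared index
commute, given `a ∈ Kˣ` with `a³ ≠ 1`
-/

set_option autoImplicit false

namespace Cfsg.Agent.Helper72.StLL4

open Cfsg.Agent.Helper96.StN Cfsg.Agent.Helper96.StLift
open scoped commutatorElement

variable {D : Type*} [Group D] {E : Type*} [Group E] {p : E →* D}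
  {K : Type*} [Field K] {ι : Type*} {X : ι → ι → K → D}

theorem cl_shared_first [DecidableEq ι] (hp : Function.Surjective p)
    (hc : p.ker ≤ Subgroup.center E) (hX : StRel X) (h3 : ∀ i j : ι, ∃ k, k ≠ i ∧ k ≠ j)
    {a : K} (ha : a ≠ 0) (ha3 : a ^ 3 ≠ 1) {i j l : ι} (hij : i ≠ j) (hil : i ≠ l) (hjl : j ≠ l)
    (t u : K) : lc hp (X i j t) (X i l u) = 1 := by
  -- the two torus relations
  have e1 : ∀ t u : K, lc hp (X i j t) (X i l u) = lc hp (X i j (a⁻¹ * t)) (X i l (a * u)) := by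
    intro t u
    have hm := Hd_isMono hX h3 hjl ha
    have h := lc_root_mono hp hc hX hij hil hij.symm hil hm t u
    simp only [Equiv.Perm.coe_one, id_eq] at h
    have c1 : Cfsg.Agent.Helper96.StN.hp j l a i = 1 := by
      simp [Cfsg.Agent.Helper96.StN.hp, hij, hil]
    have c2 : Cfsg.Agent.Helper96.StN.hp j l a j = a := by
      simp [Cfsg.Agent.Helper96.StN.hp]
    have c3 : Cfsg.Agent.Helper96.StN.hp j l a l = a⁻¹ := by
      simp [Cfsg.Agent.Helper96.StN.hp, hjl.symm]
    rw [c1, c2, c3] at h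
    rw [h]
    congr 2
    · rw [one_mul]
    · rw [one_mul, inv_inv]
  have e2 : ∀ t u : K, lc hp (X i j t) (X i l u) = lc hp (X i j (a ^ 2 * t)) (X i l (a * u)) := by
    intro t u
    have hm := Hd_isMono hX h3 hij ha
    have h := lc_root_mono hp hc hX hij hil hij.symm hil hm t u
    simp only [Equiv.Perm.coe_one, id_eq] at h
    have c1 : Cfsg.Agent.Helper96.StN.hp i j a i = a := by
      simp [Cfsg.Agent.Helper96.StN.hp]
    have c2 : Cfsg.Agent.Helper96.StN.hp i j a j = a⁻¹ := by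
      simp [Cfsg.Agent.Helper96.StN.hp, hij.symm]
    have c3 : Cfsg.Agent.Helper96.StN.hp i j a l = 1 := by
      simp [Cfsg.Agent.Helper96.StN.hp, hil.symm, hjl.symm]
    rw [c1, c2, c3] at h
    rw [h]
    congr 2
    · rw [inv_inv, pow_two]
    · rw [inv_one, mul_one]
  have e3 : ∀ t u : K, lc hp (X i j (a ^ 3 * t)) (X i l u) = lc hp (X i j t) (X i l u) := by
    intro t u
    rw [e1 (a ^ 3 * t) u, e2 t u]
    congr 2
    field_simp
  have e4 : ∀ t u : K, lc hp (X i j ((a ^ 3 - 1) * t)) (X i l u) = 1 := by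
    intro t u
    have : (a ^ 3 - 1) * t = a ^ 3 * t + -t := by ring
    rw [this, lc_root_add_left hp hc hX hij hil hij.symm hil, e3,
      lc_root_neg_left hp hc hX hij hil hij.symm hil, mul_inv_cancel]
  have hne : a ^ 3 - 1 ≠ 0 := sub_ne_zero.mpr ha3
  have := e4 ((a ^ 3 - 1)⁻¹ * t) u
  rwa [← mul_assoc, mul_inv_cancel₀ hne, one_mul] at this

theorem cl_shared_second [DecidableEq ι] (hp : Function.Surjective p)
    (hc : p.ker ≤ Subgroup.center E) (hX : StRel X) (h3 : ∀ i j : ι, ∃ k, k ≠ i ∧ k ≠ j)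
    {a : K} (ha : a ≠ 0) (ha3 : a ^ 3 ≠ 1) {i j l : ι} (hij : i ≠ j) (hil : i ≠ l) (hjl : j ≠ l)
    (t u : K) : lc hp (X j i t) (X l i u) = 1 := by
  have h := cl_shared_first hp hc (opp hX) h3 ha ha3 hij hil hjl (-t) (-u)
  simpa only [neg_neg] using h

end Cfsg.Agent.Helper72.StLL4
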