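import Mathlib

/-!
# S0998 (helper54), pieces (AR4), (AR5): pure arithmetic for the case `δ = -1`.
-/

set_option autoImplicit false

namespace Cfsg.Agent.Helper72.BT

theorem two_pow_mod_three (k : ℕ) : 2 ^ k % 3 = 1 ∨ 2 ^ k % 3 = 2 := by
  induction k with
  | zero => left; norm_num
  | succ k ih =>
    rw [pow_succ]
    omega

/-- (AR4) case `δ = -1`, `e = 2`: twin primes around a power of two -/
theorem arith_minus_two (p r b : ℕ) (hp : p.Prime) (hr : r.Prime) (hpr : p = r + 2)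
    (hdvd : r + 1 ∣ r * 2 ^ b) : p = 5 ∧ r = 3 := by
  have hcop : Nat.Coprime (r + 1) r := by
    rw [Nat.coprime_comm]
    simp
  have h2 : r + 1 ∣ 2 ^ b := hcop.dvd_of_dvd_mul_left hdvd
  obtain ⟨k, -, hk⟩ := (Nat.dvd_prime_pow Nat.prime_two).mp h2
  rcases two_pow_mod_three k with h | h
  · -- `3 ∣ r`
    have h3 : 3 ∣ r := by omega
    rcases hr.eq_one_or_self_of_dvd 3 h3 with h' | h'
    · omega
    · omega
  · -- `3 ∣ p`
    have h3 : 3 ∣ p := by omega
    rcases hp.eq_one_or_self_of_dvd 3 h3 with h' | h'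
    · omega
    · have := hr.two_le
      omega

/-- (AR5) case `δ = -1`, `4 ∣ e`: impossible -/
theorem arith_minus_four (p r c : ℕ) (hp : p.Prime) (hr : r.Prime) (hc : 2 ≤ c)
    (her : 2 ^ c + r = p) (hdvd : 2 ^ c ∣ p - 1)
    (hmod : ((2 * r : ℕ) : ℤ) ≡ 1 [ZMOD p] ∨ ((2 * r : ℕ) : ℤ) ≡ -1 [ZMOD p]) : False := by
  have hr2 := hr.two_le
  have he4 : 4 ≤ 2 ^ c := by
    calc 4 = 2 ^ 2 := by norm_num
      _ ≤ 2 ^ c := Nat.pow_le_pow_right (by norm_num) hc
  set e := 2 ^ c with he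
  -- `p ∣ 2e + 1` or `p ∣ 2e - 1`
  have hcases : p ∣ 2 * e + 1 ∨ p ∣ 2 * e - 1 := by
    rcases hmod with h | h
    · left
      have h1 : (p : ℤ) ∣ 1 - ((2 * r : ℕ) : ℤ) := h.dvd
      have h2 : ((2 * e + 1 : ℕ) : ℤ) = (1 - ((2 * r : ℕ) : ℤ)) + 2 * (p : ℤ) := by
        rw [← her]; push_cast; ring
      have h3 : (p : ℤ) ∣ ((2 * e + 1 : ℕ) : ℤ) := by
        rw [h2]; exact dvd_add h1 (dvd_mul_left _ _)
      exact Int.natCast_dvd_natCast.mp h3
    · right
      have h1 : (p : ℤ) ∣ -1 - ((2 * r : ℕ) : ℤ) := h.dvd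
      have h2 : ((2 * e - 1 : ℕ) : ℤ) = (-1 - ((2 * r : ℕ) : ℤ)) + 2 * (p : ℤ) := by
        rw [← her, Nat.cast_sub (by omega)]; push_cast; ring
      have h3 : (p : ℤ) ∣ ((2 * e - 1 : ℕ) : ℤ) := by
        rw [h2]; exact dvd_add h1 (dvd_mul_left _ _)
      exact Int.natCast_dvd_natCast.mp h3
  rcases hcases with h | h
  · -- `p = 2e + 1`
    obtain ⟨k, hk⟩ := h
    have hk1 : k = 1 := by
      rcases k with _ | _ | k
      · omega
      · rfl
      · exfalso
        have : p * 2 ≤ p * (k + 1 + 1) := Nat.mul_le_mul_left _ (by omega)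
        omega
    subst hk1
    rw [mul_one] at hk
    -- `r = e + 1`, `p = 2e + 1`
    rcases two_pow_mod_three c with h3 | h3
    · -- `3 ∣ p`
      have h3p : 3 ∣ p := by omega
      rcases hp.eq_one_or_self_of_dvd 3 h3p with h' | h'
      · omega
      · omega
    · -- `3 ∣ r`
      have h3r : 3 ∣ r := by omega
      rcases hr.eq_one_or_self_of_dvd 3 h3r with h' | h'
      · omega
      · omega
  · -- `p = 2e - 1`
    obtain ⟨k, hk⟩ := h
    have hk1 : k = 1 := by
      rcases k with _ | _ | k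
      · omega
      · rfl
      · exfalso
        have : p * 2 ≤ p * (k + 1 + 1) := Nat.mul_le_mul_left _ (by omega)
        omega
    subst hk1
    rw [mul_one] at hk
    -- `e ∣ p - 1 = 2e - 2`
    obtain ⟨m, hm⟩ := hdvd
    have hm' : e * m = 2 * e - 2 := by omega
    have hm2 : m < 2 := by
      by_contra hcon
      push Not at hcon
      have : e * 2 ≤ e * m := Nat.mul_le_mul_left _ hcon
      omega
    interval_cases m
    · omega
    · omega

end Cfsg.Agent.Helper72.BT
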