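import Cfsg.Agent.Helper54.BT.Defs
import Cfsg.Agent.Helper79.PrincipalCrit
import Cfsg.Agent.Helper72.BTAR45

/-!
# S0998 (helper54), piece (DM): the case `δ = -1`.
-/

set_option autoImplicit false

namespace Cfsg.Agent.Helper72.BT

open Cfsg Cfsg.Agent.Helper16 Cfsg.Agent.Helper16.DefOne Cfsg.Agent.Helper82.DefOne
  Cfsg.Agent.Helper77.DefOne Cfsg.Agent.Helper16.Brauer43
open scoped ComplexConjugate

universe u

/-- an even number not divisible by `4` that divides `r * 2 ^ b` (`r` prime) is `2` or `2 r`. -/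
theorem DM_two_or_two_mul (d r b : ℕ) (hr : r.Prime) (h2 : 2 ∣ d) (h4 : ¬ 4 ∣ d)
    (hd : d ∣ r * 2 ^ b) : d = 2 ∨ d = 2 * r := by
  obtain ⟨d', rfl⟩ := h2
  have hodd : ¬ 2 ∣ d' := by
    intro h
    apply h4
    obtain ⟨k, rfl⟩ := h
    exact ⟨k, by ring⟩
  have hcop : Nat.Coprime d' (2 ^ b) := by
    apply Nat.Coprime.pow_right
    rw [Nat.coprime_comm]
    exact (Nat.Prime.coprime_iff_not_dvd Nat.prime_two).mpr hodd
  have hd' : d' ∣ r * 2 ^ b := dvd_trans (dvd_mul_left d' 2) hd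
  have hd'r : d' ∣ r := hcop.dvd_of_dvd_mul_right hd'
  rcases (Nat.dvd_prime hr).mp hd'r with h | h
  · left; rw [h]
  · right; rw [h]

variable {G : Type u} [Group G] [Fintype G] {p : ℕ} [Fact p.Prime]
  (P : Sylow p G) [Fintype (P : Subgroup G)] (D : L0Data P)

/-- (DM) case `δ = -1` (after (AR3): `q = 2`, `e = 2^c`) -/
theorem delta_minus (hP : Nat.card P = p) (hC : cen P = (P : Subgroup G))
    (hperf : commutator G = ⊤) (r b c : ℕ) (hr : r.Prime) (hrp : r < p)
    (hr2 : r ≠ 2) (hes : (cen P).relIndex (nor P) * (nor P).index = r * 2 ^ b)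
    (hδ : D.δ = -1) (he : (cen P).relIndex (nor P) + r = p) (hc : 1 ≤ c)
    (hec : (cen P).relIndex (nor P) = 2 ^ c)
    (hY : ∀ ψ ∈ D.Y, charDegree (ψ : G → ℂ) = r)
    (hone : Helper79.principalIrr G ∈ D.X ∧ D.ε (Helper79.principalIrr G) = 1)
    (hdiv : ∀ χ ∈ D.X, χ ≠ Helper79.principalIrr G → 2 ∣ charDegree (χ : G → ℂ)) :
    p = 5 ∧ r = 3 ∧ ∃ χ ∈ D.X, D.ε χ = -1 ∧ charDegree (χ : G → ℂ) = 4 := by
  classical
  have hp : p.Prime := Fact.out
  haveI : Finite (IrrCharacter G) := Helper79.irr_finite'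
  obtain ⟨ψ, hψ⟩ := Helper47.B43.Y_nonempty47 P D hP
  have hdeq := GL.degree_equation P D ψ hψ
  rw [hδ, hY ψ hψ] at hdeq
  obtain ⟨h1X, hε1⟩ := hone
  obtain ⟨he1, hedvd, -⟩ := e_basic P hP
  -- split off the principal character
  have hXeq : D.X = insert (Helper79.principalIrr G) (D.X \ {Helper79.principalIrr G}) := by
    rw [Set.insert_sdiff_singleton, Set.insert_eq_of_mem h1X]
  have hnotin : Helper79.principalIrr G ∉ D.X \ {Helper79.principalIrr G} := by
    intro h; exact h.2 rfl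
  have hfin : (D.X \ {Helper79.principalIrr G}).Finite := Set.toFinite _
  have hsplit : ∑ᶠ χ ∈ D.X, D.ε χ * (charDegree (χ : G → ℂ) : ℤ) =
      1 + ∑ᶠ χ ∈ D.X \ {Helper79.principalIrr G}, D.ε χ * (charDegree (χ : G → ℂ) : ℤ) := by
    conv_lhs => rw [hXeq]
    rw [finsum_mem_insert _ hnotin hfin, hε1, Helper79.charDegree_principalIrr]
    norm_num
  rw [hsplit] at hdeq
  rcases Nat.lt_or_ge c 2 with hc1 | hc2
  · -- `c = 1`, `e = 2`, `X = {1, χ}`
    have hc' : c = 1 := by omega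
    subst hc'
    rw [pow_one] at hec
    have hcard : (D.X \ {Helper79.principalIrr G}).ncard = 1 := by
      rw [Set.ncard_sdiff_singleton_of_mem h1X, ← Nat.card_coe_set_eq, D.hcX, hec]
    obtain ⟨χ, hχ⟩ := Set.ncard_eq_one.mp hcard
    have hχmem : χ ∈ D.X \ {Helper79.principalIrr G} := by rw [hχ]; exact Set.mem_singleton _
    rw [hχ, finsum_mem_singleton] at hdeq
    have hdpos : 0 < charDegree (χ : G → ℂ) := Helper79.irr_charDegree_pos χ
    have hrpos := hr.pos
    have hεχ : D.ε χ = -1 := by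
      rcases D.hε χ with h | h
      · exfalso
        rw [h] at hdeq
        have : (0 : ℤ) < (charDegree (χ : G → ℂ) : ℤ) := by exact_mod_cast hdpos
        have : (0 : ℤ) < (r : ℤ) := by exact_mod_cast hrpos
        linarith
      · exact h
    rw [hεχ] at hdeq
    have hd : charDegree (χ : G → ℂ) = r + 1 := by
      have : (charDegree (χ : G → ℂ) : ℤ) = (r : ℤ) + 1 := by linarith
      exact_mod_cast this
    have hdvd := GL.deg_dvd_X P D hP hC χ hχmem.1
    rw [hes, hd] at hdvd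
    have hpr : p = r + 2 := by omega
    obtain ⟨hp5, hr3⟩ := arith_minus_two p r b hp hr hpr hdvd
    refine ⟨hp5, hr3, χ, hχmem.1, hεχ, ?_⟩
    rw [hd, hr3]
  · -- `c ≥ 2`: impossible
    exfalso
    have h4e : 4 ∣ (cen P).relIndex (nor P) := by
      rw [hec]
      exact (pow_dvd_pow 2 hc2 : 2 ^ 2 ∣ 2 ^ c)
    have hp2 := hp.two_le
    have hr4 : r % 4 = 1 := by
      obtain ⟨k, hk⟩ := h4e
      obtain ⟨m, hm⟩ := hedvd
      rw [hk] at hm he
      have hm' : p - 1 = 4 * (k * m) := by rw [hm]; ring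
      omega
    -- some `χ ∈ X \ 1` has degree not divisible by `4`
    have hex : ∃ χ ∈ D.X \ {Helper79.principalIrr G}, ¬ 4 ∣ charDegree (χ : G → ℂ) := by
      by_contra hcon
      push Not at hcon
      have h4sum : (4 : ℤ) ∣ ∑ᶠ χ ∈ D.X \ {Helper79.principalIrr G},
          D.ε χ * (charDegree (χ : G → ℂ) : ℤ) := by
        rw [finsum_mem_eq_finite_toFinset_sum _ hfin]
        apply Finset.dvd_sum
        intro χ hχ
        rw [Set.Finite.mem_toFinset] at hχ
        have := hcon χ hχ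
        apply Dvd.dvd.mul_left
        exact_mod_cast this
      obtain ⟨m, hm⟩ := h4sum
      rw [hm] at hdeq
      omega
    obtain ⟨χ, hχmem, hχ4⟩ := hex
    have hχ2 : 2 ∣ charDegree (χ : G → ℂ) := hdiv χ hχmem.1 hχmem.2
    have hdvd := GL.deg_dvd_X P D hP hC χ hχmem.1
    rw [hes] at hdvd
    have hmod := GL.deg_modEq_X P D hP χ hχmem.1
    have hmod' : ((charDegree (χ : G → ℂ) : ℕ) : ℤ) ≡ 1 [ZMOD p] ∨
        ((charDegree (χ : G → ℂ) : ℕ) : ℤ) ≡ -1 [ZMOD p] := by
      rcases D.hε χ with h | h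
      · left; rw [h] at hmod; exact hmod
      · right; rw [h] at hmod; exact hmod
    rcases DM_two_or_two_mul _ r b hr hχ2 hχ4 hdvd with hd | hd
    · -- degree `2`
      rw [hd] at hmod'
      have hr3 : 3 ≤ r := by
        have := hr.two_le
        omega
      rcases hmod' with h | h
      · have h1 : (p : ℤ) ∣ 1 - ((2 : ℕ) : ℤ) := h.dvd
        have h2 : (p : ℤ) ∣ 1 := by
          have : (1 : ℤ) - ((2 : ℕ) : ℤ) = -1 := by norm_num
          rw [this] at h1
          exact (dvd_neg.mp h1)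
        have h3 : p ∣ 1 := by exact_mod_cast h2
        have := Nat.le_of_dvd (by norm_num) h3
        omega
      · have h1 : (p : ℤ) ∣ -1 - ((2 : ℕ) : ℤ) := h.dvd
        have h2 : (p : ℤ) ∣ 3 := by
          have : (-1 : ℤ) - ((2 : ℕ) : ℤ) = -3 := by norm_num
          rw [this] at h1
          exact (dvd_neg.mp h1)
        have h3 : p ∣ 3 := by exact_mod_cast h2
        have := Nat.le_of_dvd (by norm_num) h3
        omega
    · -- degree `2 r`
      rw [hd] at hmod'
      rw [hec] at he hedvd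
      exact arith_minus_four p r c hp hr hc2 he hedvd hmod'

end Cfsg.Agent.Helper72.BT
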