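import Mathlib

/-!
# S0679 piece (WT) for helper54: the Witt-type contradiction

`α` has 11 points, `G ≤ Perm α` is 4-transitive with all 4-point stabilisers of order 2: impossible
(given the listed facts on supports).
-/

set_option autoImplicit false

namespace Cfsg.Agent.Helper72.D11

open Equiv MulAction
open Fin.NatCast Fin.CommRing

variable {α : Type*} [Fintype α] [DecidableEq α]

/-- membership in the stabiliser of an embedding -/
theorem WT_mem_stabilizer_iff (G : Subgroup (Perm α)) {k : ℕ} (y : Fin k ↪ α) (s : G) :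
    s ∈ stabilizer G y ↔ ∀ i, (s : Perm α) (y i) = y i := by
  rw [mem_stabilizer_iff]
  constructor
  · intro h i
    have := congrArg (fun f : Fin k ↪ α => f i) h
    simpa [Function.Embedding.smul_apply, Subgroup.smul_def, Perm.smul_def] using this
  · intro h
    apply Function.Embedding.ext
    intro i
    exact h i

/-- in a group of order two every element is `1` or the given non-identity element -/
theorem WT_eq_one_or_eq {H : Type*} [Group H] (hH : Nat.card H = 2) (t : H) (ht : t ≠ 1) (s : H) :
    s = 1 ∨ s = t := by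
  obtain ⟨y, _, huniq⟩ := (Nat.card_eq_two_iff' (1 : H)).mp hH
  by_cases hs : s = 1
  · exact Or.inl hs
  · right
    rw [huniq s hs, huniq t ht]

/-- powers of a permutation acting as a 5-cycle on `d` -/
theorem WT_pow_apply (g : Perm α) (d : Fin 5 → α) (hg : ∀ i, g (d i) = d (i + 1)) (k : ℕ)
    (i : Fin 5) : (g ^ k) (d i) = d (i + (k : Fin 5)) := by
  induction k generalizing i with
  | zero => simp
  | succ k ih =>
    rw [pow_succ, Perm.mul_apply, hg, ih]
    congr 1
    push_cast
    ring

theorem WT_card_emb (hα : Fintype.card α = 11) : Nat.card (Fin 4 ↪ α) = 7920 := by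
  rw [Nat.card_eq_fintype_card, Fintype.card_embedding_eq, hα, Fintype.card_fin]
  rfl

/-- (WT) -/
theorem false_of_stabilizer_card_two (hα : Fintype.card α = 11) (G : Subgroup (Perm α))
    (hJS : ∀ g ∈ G, g ≠ 1 → 4 ≤ g.support.card)
    (h4s : ∀ t ∈ G, t.support.card ≠ 4)
    (h5 : ∀ f ∈ G, orderOf f = 5 → f.support.card = 10)
    (h4 : IsMultiplyPretransitive G α 4)
    (hst : ∀ x : Fin 4 ↪ α, Nat.card (stabilizer G x) = 2) : False := by
  haveI : IsPretransitive G (Fin 4 ↪ α) := h4
  -- an embedding and the involution `t`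
  obtain ⟨x⟩ : Nonempty (Fin 4 ↪ α) :=
    Function.Embedding.nonempty_of_card_le (by rw [Fintype.card_fin, hα]; norm_num)
  obtain ⟨t0, ht0, -⟩ := (Nat.card_eq_two_iff' (1 : stabilizer G x)).mp (hst x)
  have ht0sq : t0 * t0 = 1 := by
    rcases WT_eq_one_or_eq (hst x) t0 ht0 (t0 * t0) with h | h
    · exact h
    · exact absurd (mul_eq_left.mp h) ht0
  set t : Perm α := ((t0 : G) : Perm α) with ht
  have htG : t ∈ G := (t0 : G).2
  have ht1 : t ≠ 1 := by
    intro h
    apply ht0
    apply Subtype.ext
    apply Subtype.ext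
    exact h
  have htsq : t ^ 2 = 1 := by
    rw [sq]
    have := congrArg (fun s : stabilizer G x => ((s : G) : Perm α)) ht0sq
    exact this
  have htx : ∀ i, t (x i) = x i := (WT_mem_stabilizer_iff G x (t0 : G)).mp t0.2
  -- the support of `t` has 6 points
  have hsupp6 : t.support.card = 6 := by
    have h2 : 2 ∣ t.support.card := Perm.two_dvd_card_support htsq
    have hle : t.support.card ≤ 7 := by
      have hsub : t.support ⊆ (Finset.univ.map x)ᶜ := by
        intro a ha
        rw [Finset.mem_compl, Finset.mem_map]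
        rintro ⟨i, _, rfl⟩
        exact (Perm.mem_support.mp ha) (htx i)
      have := Finset.card_le_card hsub
      rw [Finset.card_compl, Finset.card_map, Finset.card_univ, Fintype.card_fin, hα] at this
      exact this
    have h4le := hJS t htG ht1
    have hne := h4s t htG
    omega
  -- the five fixed points of `t`
  have hΔ : (t.supportᶜ).card = 5 := by
    rw [Finset.card_compl, hα, hsupp6]
  let e := Finset.equivFinOfCardEq hΔ
  let d : Fin 5 → α := fun i => ((e.symm i : (t.supportᶜ : Finset α)) : α)
  have hdinj : Function.Injective d := by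
    intro i j hij
    exact e.symm.injective (Subtype.ext hij)
  have hdΔ : ∀ i, t (d i) = d i := by
    intro i
    have := (e.symm i).2
    rw [Finset.mem_compl] at this
    exact Perm.notMem_support.mp this
  have hΔd : ∀ a, t a = a → ∃ i, d i = a := by
    intro a ha
    have hmem : a ∈ (t.supportᶜ : Finset α) := by
      rw [Finset.mem_compl]
      exact Perm.notMem_support.mpr ha
    refine ⟨e ⟨a, hmem⟩, ?_⟩
    show ((e.symm (e ⟨a, hmem⟩) : (t.supportᶜ : Finset α)) : α) = a
    rw [Equiv.symm_apply_apply]
  -- the two embeddings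
  let dE : Fin 5 ↪ α := ⟨d, hdinj⟩
  let y : Fin 4 ↪ α := (Fin.castSuccEmb).trans dE
  let y' : Fin 4 ↪ α := (Fin.succEmb 4).trans dE
  obtain ⟨g0, hg0⟩ := MulAction.exists_smul_eq G y y'
  set g : Perm α := (g0 : Perm α) with hg
  have hgG : g ∈ G := g0.2
  have hgy : ∀ i : Fin 4, g (d i.castSucc) = d i.succ := by
    intro i
    have := congrArg (fun f : Fin 4 ↪ α => f i) hg0
    simpa [Function.Embedding.smul_apply, Subgroup.smul_def, Perm.smul_def, y, y', dE] using this
  -- `g` commutes with `t`
  have hcomm : g * t * g⁻¹ = t := by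
    have hcG : g * t * g⁻¹ ∈ G := G.mul_mem (G.mul_mem hgG htG) (G.inv_mem hgG)
    have hc_stab : (⟨g * t * g⁻¹, hcG⟩ : G) ∈ stabilizer G y' := by
      rw [WT_mem_stabilizer_iff]
      intro i
      show (g * t * g⁻¹) (d i.succ) = d i.succ
      have hinv : g⁻¹ (d i.succ) = d i.castSucc := by
        rw [Perm.inv_eq_iff_eq, hgy]
      rw [Perm.mul_apply, Perm.mul_apply, hinv, hdΔ, hgy]
    have ht_stab : (⟨t, htG⟩ : G) ∈ stabilizer G y' := by
      rw [WT_mem_stabilizer_iff]
      intro i
      exact hdΔ i.succ
    have ht_ne : (⟨⟨t, htG⟩, ht_stab⟩ : stabilizer G y') ≠ 1 := by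
      intro h
      apply ht1
      exact congrArg (fun s : stabilizer G y' => ((s : G) : Perm α)) h
    rcases WT_eq_one_or_eq (hst y') ⟨⟨t, htG⟩, ht_stab⟩ ht_ne ⟨⟨g * t * g⁻¹, hcG⟩, hc_stab⟩ with h | h
    · exfalso
      have h1 : g * t * g⁻¹ = 1 := congrArg (fun s : stabilizer G y' => ((s : G) : Perm α)) h
      apply ht1
      have : t = g⁻¹ * (g * t * g⁻¹) * g := by group
      rw [this, h1]
      group
    · exact congrArg (fun s : stabilizer G y' => ((s : G) : Perm α)) h
  have hgt : ∀ a, g (t a) = t (g a) := by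
    intro a
    have : g * t = t * g := by
      calc g * t = (g * t * g⁻¹) * g := by group
        _ = t * g := by rw [hcomm]
    exact congrArg (fun s : Perm α => s a) this
  -- `g` is a 5-cycle on `d`
  have hg4 : g (d 4) = d 0 := by
    have hfix : t (g (d 4)) = g (d 4) := by rw [← hgt, hdΔ]
    obtain ⟨k, hk⟩ := hΔd _ hfix
    have hk0 : k = 0 := by
      by_contra hne
      obtain ⟨i, rfl⟩ := Fin.exists_succ_eq.mpr hne
      have : g (d 4) = g (d i.castSucc) := by rw [← hk, hgy]
      have h2 := hdinj (g.injective this)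
      have : (4 : Fin 5) = Fin.last 4 := rfl
      rw [this] at h2
      exact (Fin.castSucc_lt_last i).ne h2.symm
    rw [← hk, hk0]
  have hgd : ∀ i : Fin 5, g (d i) = d (i + 1) := by
    intro i
    fin_cases i
    · exact hgy 0
    · exact hgy 1
    · exact hgy 2
    · exact hgy 3
    · exact hg4
  -- the order of `g`
  have hcardG : Nat.card G = 15840 := by
    have hidx : (stabilizer G x).index = Nat.card (Fin 4 ↪ α) :=
      @index_stabilizer_of_transitive G _ _ _ x h4
    rw [← Subgroup.card_mul_index (stabilizer G x), hst x, hidx, WT_card_emb hα]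
  set n := orderOf g with hn
  have hn_dvd : n ∣ 15840 := by
    rw [← hcardG, hn, hg, Subgroup.orderOf_coe]
    exact orderOf_dvd_natCard g0
  have h5n : 5 ∣ n := by
    have h1 := WT_pow_apply g d hgd n 0
    rw [hn, pow_orderOf_eq_one, Perm.one_apply, zero_add] at h1
    have h2 := hdinj h1
    exact (Fin.natCast_eq_zero (n := 5)).mp h2.symm
  obtain ⟨m, hm⟩ := h5n
  have hm5 : ¬ 5 ∣ m := by
    rintro ⟨m', rfl⟩
    have : 25 ∣ 15840 := Dvd.dvd.trans ⟨m', by rw [hm]; ring⟩ hn_dvd
    norm_num at this
  have hm0 : m ≠ 0 := by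
    rintro rfl
    exact hm5 (dvd_zero 5)
  -- the element `f` of order 5
  set f : Perm α := g ^ m with hf
  have hfG : f ∈ G := G.pow_mem hgG m
  have hford : orderOf f = 5 := by
    rw [hf, orderOf_pow_of_dvd hm0 ⟨5, by rw [← hn, hm]; ring⟩, ← hn, hm,
      Nat.mul_div_cancel _ (Nat.pos_of_ne_zero hm0)]
  have hfsupp := h5 f hfG hford
  have hfd : ∀ i, f (d i) ≠ d i := by
    intro i h
    rw [hf, WT_pow_apply g d hgd m i] at h
    have h2 := hdinj h
    have h3 : (m : Fin 5) = 0 := by
      have := add_left_cancel (a := i) (b := (m : Fin 5)) (c := 0) (by rw [add_zero]; exact h2)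
      exact this
    exact hm5 ((Fin.natCast_eq_zero (n := 5)).mp h3)
  have hft : ∀ a, f (t a) = t (f a) := by
    intro a
    have hc : Commute g t := by
      show g * t = t * g
      ext b
      exact hgt b
    have := (hc.pow_left m).eq
    exact congrArg (fun s : Perm α => s a) this
  -- the fixed point of `f`
  have hΦ : (f.supportᶜ).card = 1 := by
    rw [Finset.card_compl, hα, hfsupp]
  obtain ⟨z, hz⟩ := Finset.card_eq_one.mp hΦ
  have hzfix : f z = z := by
    have : z ∈ f.supportᶜ := by rw [hz]; exact Finset.mem_singleton_self z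
    rw [Finset.mem_compl] at this
    exact Perm.notMem_support.mp this
  have htz : t z ≠ z := by
    intro h
    obtain ⟨i, hi⟩ := hΔd z h
    exact hfd i (by rw [hi]; exact hzfix)
  have htzfix : f (t z) = t z := by rw [hft, hzfix]
  have : t z ∈ f.supportᶜ := by
    rw [Finset.mem_compl]
    exact Perm.notMem_support.mpr htzfix
  rw [hz, Finset.mem_singleton] at this
  exact htz this

end Cfsg.Agent.Helper72.D11
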