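import Cfsg.Agent.Helper56.T2T.Defs
import Cfsg.Agent.Helper24.T2T_FST
import Cfsg.Agent.Helper76.T2T_CNT

/-!
# (L5) the orbit equation of `F = ⟨x1, x2⟩ = 5^2` on a finite set (piece of helper56's S2197)

`orbit_equation_of` takes (FST) and (CNT) of the skeleton as hypotheses (exact shapes of the skeleton statements);
`orbit_equation` is the skeleton statement verbatim, from helper24's (FST) and helper76's (CNT).
-/

set_option autoImplicit false

namespace Cfsg.Agent.Helper72.T2T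

open Cfsg.Agent.Helper56.T2T

universe u v
variable {G : Type u} [Group G] {Ω : Type v} [MulAction G Ω]

/-- generators of the six subgroups of order 5 of `F` -/
def L5gen (L : Loc5 G) : Option (Fin 5) → G
  | none => L.x1
  | some i => L.x1 ^ (i : ℕ) * L.x2

theorem L5_pow_mem_iff {S : Subgroup G} {g : G} (hg : g ^ 5 = 1) {n : ℕ} (hn : ¬ 5 ∣ n) :
    g ^ n ∈ S ↔ g ∈ S := by
  constructor
  · intro h
    obtain ⟨c, hc⟩ : ∃ c, (n * c) % 5 = 1 := by
      have h5 : n % 5 = 1 ∨ n % 5 = 2 ∨ n % 5 = 3 ∨ n % 5 = 4 := by omega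
      rcases h5 with h5 | h5 | h5 | h5
      · exact ⟨1, by omega⟩
      · exact ⟨3, by omega⟩
      · exact ⟨2, by omega⟩
      · exact ⟨4, by omega⟩
    have h2 : g = (g ^ n) ^ c := by
      rw [← pow_mul, pow_eq_pow_mod (n * c) hg, hc, pow_one]
    rw [h2]
    exact S.pow_mem h c
  · intro h
    exact S.pow_mem h n

theorem L5_mem_of_zpowers {S : Subgroup G} {g a : G} (hg : g ^ 5 = 1)
    (ha : a ∈ Subgroup.zpowers g) (ha1 : a ≠ 1) (haS : a ∈ S) : g ∈ S := by
  obtain ⟨k, rfl⟩ := Subgroup.mem_zpowers_iff.mp ha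
  have h5 : g ^ (5 : ℤ) = 1 := by exact_mod_cast hg
  have hk : g ^ k = g ^ (k % 5).toNat := by
    conv_lhs => rw [← Int.emod_add_mul_ediv k 5]
    rw [zpow_add, zpow_mul, h5, one_zpow, mul_one, ← zpow_natCast,
      Int.toNat_of_nonneg (Int.emod_nonneg k (by norm_num))]
  rw [hk] at ha1 haS
  have hn : ¬ 5 ∣ (k % 5).toNat := by
    intro hdvd
    have h0 : (k % 5).toNat = 0 := by omega
    rw [h0, pow_zero] at ha1
    exact ha1 rfl
  exact (L5_pow_mem_iff hg hn).mp haS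

theorem L5gen_pow (L : Loc5 G) (d : Option (Fin 5)) : L5gen L d ^ 5 = 1 := by
  cases d with
  | none => exact L.x1_pow
  | some i =>
    have hc : Commute (L.x1 ^ (i : ℕ)) L.x2 := (show Commute L.x1 L.x2 from L.comm).pow_left _
    show (L.x1 ^ (i : ℕ) * L.x2) ^ 5 = 1
    rw [hc.mul_pow, ← pow_mul, mul_comm, pow_mul, L.x1_pow, one_pow, L.x2_pow, one_mul]

theorem L5gen_mem_of_mem (L : Loc5 G) {S : Subgroup G} (h1 : L.x1 ∈ S) (h2 : L.x2 ∈ S)
    (d : Option (Fin 5)) : L5gen L d ∈ S := by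
  cases d with
  | none => exact h1
  | some i => exact S.mul_mem (S.pow_mem h1 _) h2

theorem L5_x1_mem_F (L : Loc5 G) : L.x1 ∈ L.F := Subgroup.subset_closure (by simp)

theorem L5_x2_mem_F (L : Loc5 G) : L.x2 ∈ L.F := Subgroup.subset_closure (by simp)

theorem L5_F_le (L : Loc5 G) {S : Subgroup G} (h1 : L.x1 ∈ S) (h2 : L.x2 ∈ S) : L.F ≤ S := by
  unfold Loc5.F
  rw [Subgroup.closure_le]
  rintro x (rfl | rfl)
  · exact h1
  · exact h2

theorem L5_F_comm (L : Loc5 G) {f g : G} (hf : f ∈ L.F) (hg : g ∈ L.F) : f * g = g * f := by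
  have hk : ∀ x ∈ ({L.x1, L.x2} : Set G), ∀ y ∈ ({L.x1, L.x2} : Set G), x * y = y * x := by
    rintro x (rfl | rfl) y (rfl | rfl)
    · rfl
    · exact L.comm
    · exact L.comm.symm
    · rfl
  have h := (Subgroup.isMulCommutative_closure hk).is_comm.comm ⟨f, hf⟩ ⟨g, hg⟩
  exact congrArg Subtype.val h

theorem L5_x1_x2_mem (L : Loc5 G) {S : Subgroup G} {d d' : Option (Fin 5)} (hdd : d ≠ d')
    (hd : L5gen L d ∈ S) (hd' : L5gen L d' ∈ S) : L.x1 ∈ S ∧ L.x2 ∈ S := by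
  have key : ∀ j : ℕ, L.x1 ∈ S → L.x1 ^ j * L.x2 ∈ S → L.x2 ∈ S := by
    intro j h1 h2
    have h3 : L.x2 = (L.x1 ^ j)⁻¹ * (L.x1 ^ j * L.x2) := by group
    rw [h3]
    exact S.mul_mem (S.inv_mem (S.pow_mem h1 j)) h2
  have key2 : ∀ i j : Fin 5, (i : ℕ) < j → L.x1 ^ (i : ℕ) * L.x2 ∈ S →
      L.x1 ^ (j : ℕ) * L.x2 ∈ S → L.x1 ∈ S := by
    intro i j hij hi hj
    have h3 : L.x1 ^ ((j : ℕ) - i) = (L.x1 ^ (j : ℕ) * L.x2) * (L.x1 ^ (i : ℕ) * L.x2)⁻¹ := by
      have h4 : (j : ℕ) = ((j : ℕ) - i) + i := by omega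
      conv_rhs => rw [h4, pow_add]
      group
    have hmem : L.x1 ^ ((j : ℕ) - i) ∈ S := by
      rw [h3]
      exact S.mul_mem hj (S.inv_mem hi)
    exact (L5_pow_mem_iff L.x1_pow (by have := j.2; omega)).mp hmem
  match d, d', hdd, hd, hd' with
  | none, none, h, _, _ => exact absurd rfl h
  | none, some j, _, h1, h2 => exact ⟨h1, key j h1 h2⟩
  | some i, none, _, h1, h2 => exact ⟨h2, key i h2 h1⟩
  | some i, some j, h, h1, h2 =>
    have hne : (i : ℕ) ≠ j := fun e => h (by rw [Fin.ext e])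
    rcases Nat.lt_or_gt_of_ne hne with hlt | hgt
    · have hx := key2 i j hlt h1 h2
      exact ⟨hx, key i hx h1⟩
    · have hx := key2 j i hgt h2 h1
      exact ⟨hx, key i hx h1⟩

theorem L5_exists_gen_mem (L : Loc5 G)
    (hnf : ∀ f ∈ L.F, ∃ i j : ℕ, i < 5 ∧ j < 5 ∧ f = L.x1 ^ i * L.x2 ^ j)
    {S : Subgroup G} {f : G} (hf : f ∈ L.F) (hf1 : f ≠ 1) (hfS : f ∈ S) :
    ∃ d, L5gen L d ∈ S := by
  obtain ⟨a, b, ha, hb, rfl⟩ := hnf f hf
  by_cases hb0 : b = 0
  · subst hb0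
    rw [pow_zero, mul_one] at hf1 hfS
    refine ⟨none, ?_⟩
    have h5 : ¬ 5 ∣ a := by
      intro h
      have h0 : a = 0 := by omega
      subst h0
      exact hf1 (pow_zero _)
    exact (L5_pow_mem_iff L.x1_pow h5).mp hfS
  · obtain ⟨c, hc⟩ : ∃ c, (b * c) % 5 = 1 := by
      have h4 : b = 1 ∨ b = 2 ∨ b = 3 ∨ b = 4 := by omega
      rcases h4 with rfl | rfl | rfl | rfl
      exacts [⟨1, rfl⟩, ⟨3, rfl⟩, ⟨2, rfl⟩, ⟨4, rfl⟩]
    refine ⟨some ⟨(a * c) % 5, Nat.mod_lt _ (by norm_num)⟩, ?_⟩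
    have hcomm : Commute (L.x1 ^ a) (L.x2 ^ b) := (show Commute L.x1 L.x2 from L.comm).pow_pow a b
    have h3 : L5gen L (some ⟨(a * c) % 5, Nat.mod_lt _ (by norm_num)⟩)
        = (L.x1 ^ a * L.x2 ^ b) ^ c := by
      rw [hcomm.mul_pow, ← pow_mul, ← pow_mul, pow_eq_pow_mod (a * c) L.x1_pow,
        pow_eq_pow_mod (b * c) L.x2_pow, hc, pow_one]
      rfl
    rw [h3]
    exact S.pow_mem hfS c

theorem L5_fixedPoints (L : Loc5 G) :
    MulAction.fixedPoints L.F Ω = {ω | L.x1 • ω = ω ∧ L.x2 • ω = ω} := by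
  ext ω
  simp only [MulAction.mem_fixedPoints, Set.mem_ofPred_eq]
  constructor
  · intro h
    exact ⟨h ⟨L.x1, L5_x1_mem_F L⟩, h ⟨L.x2, L5_x2_mem_F L⟩⟩
  · rintro ⟨h1, h2⟩ ⟨f, hf⟩
    have hle : L.F ≤ MulAction.stabilizer G ω := L5_F_le L h1 h2
    exact hle hf

open Classical in
theorem L5_card_fix_eq (L : Loc5 G) [Fintype Ω] (i : Fin 5) :
    (Finset.univ.filter (fun ω : Ω => L.x1 • ω = ω)).card =
      (Finset.univ.filter (fun ω : Ω => L5gen L (some i) • ω = ω)).card := by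
  have he : ¬ 5 ∣ L.e i := by
    have := L.e_pos i
    omega
  apply Finset.card_bij (fun ω _ => L.m i • ω)
  · intro ω hω
    simp only [Finset.mem_filter, Finset.mem_univ, true_and] at hω ⊢
    have h1 : (L5gen L (some i)) ^ (L.e i) ∈ MulAction.stabilizer G (L.m i • ω) := by
      show (L.x1 ^ (i : ℕ) * L.x2) ^ (L.e i) ∈ _
      rw [← L.m_x1 i, MulAction.mem_stabilizer_iff, mul_smul, mul_smul, inv_smul_smul, hω]
    exact (L5_pow_mem_iff (L5gen_pow L _) he).mp h1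
  · intro a _ b _ h
    exact MulAction.injective _ h
  · intro ω hω
    simp only [Finset.mem_filter, Finset.mem_univ, true_and] at hω
    refine ⟨(L.m i)⁻¹ • ω, ?_, smul_inv_smul _ _⟩
    simp only [Finset.mem_filter, Finset.mem_univ, true_and]
    have h2 : (L5gen L (some i)) ^ (L.e i) ∈ MulAction.stabilizer G ω :=
      Subgroup.pow_mem _ hω _
    have h3 : (L.m i * L.x1 * (L.m i)⁻¹) • ω = ω := by
      rw [L.m_x1 i]
      exact h2
    rw [mul_smul, mul_smul] at h3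
    calc L.x1 • (L.m i)⁻¹ • ω = (L.m i)⁻¹ • (L.m i • L.x1 • (L.m i)⁻¹ • ω) := by
          rw [inv_smul_smul]
      _ = (L.m i)⁻¹ • ω := by rw [h3]

/-- (L5) with (FST) and (CNT) as hypotheses (exact shapes of the skeleton statements) -/
theorem orbit_equation_of (L : Loc5 G) [Fintype Ω]
    (hFST : (∀ f ∈ L.F, ∃ i j : ℕ, i < 5 ∧ j < 5 ∧ f = L.x1 ^ i * L.x2 ^ j) ∧
      (∀ i j i' j' : ℕ, i < 5 → j < 5 → i' < 5 → j' < 5 →
        L.x1 ^ i * L.x2 ^ j = L.x1 ^ i' * L.x2 ^ j' → i = i' ∧ j = j') ∧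
      Nat.card L.F = 25)
    (hCNT : ∀ (A : Subgroup G) [Finite A] (X : Set Ω),
      (∀ a ∈ A, ∀ ω ∈ X, a • ω ∈ X) → ∀ d : ℕ,
      (∀ ω ∈ X, Nat.card {a : A // (a : G) • ω = ω} = d) → Nat.card A ∣ d * X.ncard) :
    ∃ m5 m25 : ℕ, Fintype.card Ω = (MulAction.fixedPoints L.F Ω).ncard + 30 * m5 + 25 * m25 ∧
      (m5 = 0 → m25 = 0 → ∀ ω : Ω, L.x1 • ω = ω) := by
  classical
  obtain ⟨hnf, -, hcard⟩ := hFST
  let Fx : Finset Ω := Finset.univ.filter (fun ω => L.x1 • ω = ω ∧ L.x2 • ω = ω)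
  let Fg : Option (Fin 5) → Finset Ω := fun d => Finset.univ.filter (fun ω => L5gen L d • ω = ω)
  let Reg : Finset Ω := Finset.univ.filter (fun ω => ∀ d, L5gen L d • ω ≠ ω)
  have memFx : ∀ ω, ω ∈ Fx ↔ L.x1 • ω = ω ∧ L.x2 • ω = ω := by
    intro ω
    simp only [Fx, Finset.mem_filter, Finset.mem_univ, true_and]
  have memFg : ∀ d ω, ω ∈ Fg d ↔ L5gen L d • ω = ω := by
    intro d ω
    simp only [Fg, Finset.mem_filter, Finset.mem_univ, true_and]
  have memReg : ∀ ω, ω ∈ Reg ↔ ∀ d, L5gen L d • ω ≠ ω := by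
    intro ω
    simp only [Reg, Finset.mem_filter, Finset.mem_univ, true_and]
  have hFxcard : (MulAction.fixedPoints L.F Ω).ncard = Fx.card := by
    rw [L5_fixedPoints, ← Set.ncard_coe_finset]
    congr 1
    ext ω
    simp only [Set.mem_ofPred_eq, Finset.mem_coe, memFx]
  have hsub : ∀ d, Fx ⊆ Fg d := by
    intro d ω hω
    rw [memFx] at hω
    rw [memFg]
    have h : L5gen L d ∈ MulAction.stabilizer G ω := L5gen_mem_of_mem L hω.1 hω.2 d
    exact h
  have hFg : ∀ d, (Fg d).card = (Fg none).card := by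
    intro d
    cases d with
    | none => rfl
    | some i => exact (L5_card_fix_eq L i).symm
  have hOm : ∀ d, (Fg d \ Fx).card = (Fg none).card - Fx.card := by
    intro d
    rw [Finset.card_sdiff_of_subset (hsub d), hFg d]
  have hdisj : ((Finset.univ : Finset (Option (Fin 5))) : Set (Option (Fin 5))).PairwiseDisjoint
      (fun d => Fg d \ Fx) := by
    intro d _ d' _ hdd
    rw [Function.onFun, Finset.disjoint_left]
    intro ω h1 h2
    rw [Finset.mem_sdiff, memFg] at h1 h2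
    have h3 := L5_x1_x2_mem L (S := MulAction.stabilizer G ω) hdd h1.1 h2.1
    exact h1.2 ((memFx ω).mpr h3)
  have hpart : (Finset.univ : Finset Ω) =
      Fx ∪ (Finset.univ.biUnion (fun d => Fg d \ Fx) ∪ Reg) := by
    ext ω
    simp only [Finset.mem_univ, Finset.mem_union, Finset.mem_biUnion, Finset.mem_sdiff, true_and,
      true_iff]
    by_cases h1 : ω ∈ Fx
    · exact Or.inl h1
    · right
      by_cases h2 : ω ∈ Reg
      · exact Or.inr h2
      · left
        rw [memReg] at h2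
        push Not at h2
        obtain ⟨d, hd⟩ := h2
        exact ⟨d, (memFg d ω).mpr hd, h1⟩
  have hd1 : Disjoint (Finset.univ.biUnion (fun d => Fg d \ Fx)) Reg := by
    rw [Finset.disjoint_left]
    intro ω h1 h2
    rw [Finset.mem_biUnion] at h1
    obtain ⟨d, -, hd⟩ := h1
    rw [Finset.mem_sdiff, memFg] at hd
    exact (memReg ω).mp h2 d hd.1
  have hd2 : Disjoint Fx (Finset.univ.biUnion (fun d => Fg d \ Fx) ∪ Reg) := by
    rw [Finset.disjoint_left]
    intro ω h1 h2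
    rw [Finset.mem_union, Finset.mem_biUnion] at h2
    rcases h2 with ⟨d, -, hd⟩ | h2
    · exact (Finset.mem_sdiff.mp hd).2 h1
    · exact (memReg ω).mp h2 none ((memFx ω).mp h1).1
  have hcount : Fintype.card Ω = Fx.card + (6 * ((Fg none).card - Fx.card) + Reg.card) := by
    rw [← Finset.card_univ, hpart, Finset.card_union_of_disjoint hd2,
      Finset.card_union_of_disjoint hd1, Finset.card_biUnion hdisj]
    simp only [hOm, Finset.sum_const, Finset.card_univ, Fintype.card_option, Fintype.card_fin,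
      smul_eq_mul]
  -- `5 ∣ c`
  have hx2ne : L.x2 ≠ 1 := by
    intro h
    apply L.indep
    rw [h]
    exact Subgroup.one_mem _
  have ho2 : orderOf L.x2 = 5 := by
    have : Fact (Nat.Prime 5) := ⟨by norm_num⟩
    exact orderOf_eq_prime L.x2_pow hx2ne
  have hcardZ : Nat.card (Subgroup.zpowers L.x2) = 5 := by rw [Nat.card_zpowers, ho2]
  have h5 : 5 ∣ (Fg none).card - Fx.card := by
    have hfin : Finite (Subgroup.zpowers L.x2) := Nat.finite_of_card_ne_zero (by rw [hcardZ]; norm_num)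
    have hcomm1 : ∀ a ∈ Subgroup.zpowers L.x2, a * L.x1 = L.x1 * a := by
      intro a ha
      exact L5_F_comm L ((Subgroup.zpowers_le.mpr (L5_x2_mem_F L)) ha) (L5_x1_mem_F L)
    have hcomm2 : ∀ a ∈ Subgroup.zpowers L.x2, a * L.x2 = L.x2 * a := by
      intro a ha
      exact L5_F_comm L ((Subgroup.zpowers_le.mpr (L5_x2_mem_F L)) ha) (L5_x2_mem_F L)
    have h := hCNT (Subgroup.zpowers L.x2) (↑(Fg none \ Fx) : Set Ω) ?_ 1 ?_
    · rw [hcardZ, one_mul, Set.ncard_coe_finset, hOm none] at h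
      exact h
    · intro a ha ω hω
      rw [Finset.mem_coe, Finset.mem_sdiff, memFg, memFx] at hω ⊢
      have hx1 : L.x1 • ω = ω := hω.1
      refine ⟨?_, ?_⟩
      · show L.x1 • a • ω = a • ω
        rw [← mul_smul, ← hcomm1 a ha, mul_smul, hx1]
      · rintro ⟨-, h2⟩
        apply hω.2
        refine ⟨hx1, ?_⟩
        rw [← mul_smul, ← hcomm2 a ha, mul_smul] at h2
        exact MulAction.injective a h2
    · intro ω hω
      rw [Finset.mem_coe, Finset.mem_sdiff, memFg, memFx] at hω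
      have hx1 : L.x1 • ω = ω := hω.1
      have hone : ∀ a : Subgroup.zpowers L.x2, (a : G) • ω = ω → a = 1 := by
        intro a ha
        by_contra hne
        have hne' : (a : G) ≠ 1 := fun h => hne (Subtype.ext h)
        have h2 : L.x2 ∈ MulAction.stabilizer G ω :=
          L5_mem_of_zpowers L.x2_pow a.2 hne' ha
        exact hω.2 ⟨hx1, h2⟩
      rw [Nat.card_eq_one_iff_unique]
      refine ⟨⟨?_⟩, ⟨⟨1, one_smul _ _⟩⟩⟩
      rintro ⟨a, ha⟩ ⟨b, hb⟩
      rw [Subtype.mk.injEq, hone a ha, hone b hb]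
  -- `25 ∣ r`
  have h25 : 25 ∣ Reg.card := by
    have hfin : Finite L.F := Nat.finite_of_card_ne_zero (by rw [hcard]; norm_num)
    have h := hCNT L.F (↑Reg : Set Ω) ?_ 1 ?_
    · rw [hcard, one_mul, Set.ncard_coe_finset] at h
      exact h
    · intro a ha ω hω
      rw [Finset.mem_coe, memReg] at hω ⊢
      intro d hd
      apply hω d
      have hgd : L5gen L d ∈ L.F := L5gen_mem_of_mem L (L5_x1_mem_F L) (L5_x2_mem_F L) d
      rw [← mul_smul, ← L5_F_comm L ha hgd, mul_smul] at hd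
      exact MulAction.injective a hd
    · intro ω hω
      rw [Finset.mem_coe, memReg] at hω
      have hone : ∀ a : L.F, (a : G) • ω = ω → a = 1 := by
        intro a ha
        by_contra hne
        have hne' : (a : G) ≠ 1 := fun h => hne (Subtype.ext h)
        obtain ⟨d, hd⟩ := L5_exists_gen_mem L hnf (S := MulAction.stabilizer G ω) a.2 hne' ha
        exact hω d hd
      rw [Nat.card_eq_one_iff_unique]
      refine ⟨⟨?_⟩, ⟨⟨1, one_smul _ _⟩⟩⟩
      rintro ⟨a, ha⟩ ⟨b, hb⟩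
      rw [Subtype.mk.injEq, hone a ha, hone b hb]
  obtain ⟨m5, hm5⟩ := h5
  obtain ⟨m25, hm25⟩ := h25
  refine ⟨m5, m25, ?_, ?_⟩
  · rw [hFxcard, hcount, hm5, hm25]
    ring
  · intro h0 h0' ω
    subst h0 h0'
    have hall : Fx.card = Fintype.card Ω := by
      rw [hcount, hm5, hm25]
      ring
    have huniv : Fx = Finset.univ := Finset.eq_univ_of_card Fx hall
    have hω : ω ∈ Fx := by
      rw [huniv]
      exact Finset.mem_univ ω
    exact ((memFx ω).mp hω).1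

/-- (L5) the orbit equation of `F` on `Ω`: skeleton statement verbatim -/
theorem orbit_equation (L : Loc5 G) [Fintype Ω] :
    ∃ m5 m25 : ℕ, Fintype.card Ω = (MulAction.fixedPoints L.F Ω).ncard + 30 * m5 + 25 * m25 ∧
      (m5 = 0 → m25 = 0 → ∀ ω : Ω, L.x1 • ω = ω) :=
  orbit_equation_of L (Cfsg.Agent.Helper24.T2T.F_normal_form L)
    (fun A _ X hX d hd => Cfsg.Agent.Helper76.T2T.dvd_ncard_of_stabilizer_card A X hX d hd)

end Cfsg.Agent.Helper72.T2T
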