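import Mathlib
import Cfsg.Agent.Helper62.Ore.Defs

/-!
# (UTC) for helper62's S2444 farm (helper72)

Bidiagonal (`M p_j ∈ span {p_{j-1}, p_j}`) with non-zero superdiagonal ⇒ the last basis vector is cyclic.

NOTE: the original Skel statement (hypothesis `M (p j) ∈ span (p '' {i | i ≤ j})`) is false
(counterexample in dimension 3: `M p₀ = 0`, `M p₁ = p₀ + p₁`, `M p₂ = p₀ + p₁`); this file proves the
corrected form with `{i | i ≤ j ∧ j ≤ i + 1}`.
-/

set_option autoImplicit false

namespace Cfsg.Agent.Helper72.Ore

open Polynomial Module Cfsg.Agent.Helper62.Ore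

variable {F : Type*} [Field F] {V : Type*} [AddCommGroup V] [Module F V]

/-- (UTC) bidiagonal with non-zero superdiagonal ⇒ the last basis vector is cyclic. -/
theorem cyc_of_UT {P : Type*} [AddCommGroup P] [Module F P] [FiniteDimensional F P]
    {l : ℕ} (hl : finrank F P = l + 1) (p : Fin (l + 1) → P) (hp : LinearIndependent F p)
    (M : Module.End F P)
    (hM : ∀ j, M (p j) ∈ Submodule.span F (p '' {i | i ≤ j ∧ (j : ℕ) ≤ (i : ℕ) + 1}))
    (hM' : ∀ j : Fin (l + 1), 0 < (j : ℕ) →
      M (p j) ∉ Submodule.span F (p '' {i | i ≤ j ∧ (i : ℕ) + 1 ≠ j})) :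
    Cyc (l + 1) M (p (Fin.last l)) := by
  classical
  -- the basis
  let b : Basis (Fin (l + 1)) F P :=
    basisOfLinearIndependentOfCardEqFinrank hp (by rw [Fintype.card_fin, hl])
  have hb : ∀ i, b i = p i := fun i => by
    simp [b]
  have hbp : (b : Fin (l + 1) → P) = p := funext hb
  -- the matrix entries
  set A : Fin (l + 1) → Fin (l + 1) → F := fun i t => b.repr (M (p i)) t with hA
  have hA0 : ∀ i t : Fin (l + 1), ¬ (t ≤ i ∧ (i : ℕ) ≤ (t : ℕ) + 1) → A i t = 0 := by
    intro i t hit
    have h1 := hM i
    rw [← hbp, Basis.mem_span_image] at h1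
    by_contra hne
    have : t ∈ (b.repr (M (p i))).support := Finsupp.mem_support_iff.mpr hne
    rw [← hbp] at this
    exact hit (h1 this)
  have hA1 : ∀ i : Fin (l + 1), 0 < (i : ℕ) → ∀ t : Fin (l + 1), (t : ℕ) + 1 = i → A i t ≠ 0 := by
    intro i hi t hti h0
    apply hM' i hi
    rw [← hbp, Basis.mem_span_image]
    intro s hs
    have hs' : b.repr (M (p i)) s ≠ 0 := by
      rw [← hbp] at *
      exact Finsupp.mem_support_iff.mp hs
    have hs2 : s ≤ i ∧ (i : ℕ) ≤ (s : ℕ) + 1 := by
      by_contra hcon
      exact hs' (hA0 i s hcon)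
    refine ⟨hs2.1, ?_⟩
    intro hsi
    apply hs'
    have : s = t := Fin.ext (by omega)
    rw [this]
    exact h0
  -- coordinates of `M v`
  have hMv : ∀ (v : P) (t : Fin (l + 1)), b.repr (M v) t = ∑ i, b.repr v i * A i t := by
    intro v t
    have hv : v = ∑ i, b.repr v i • p i := by
      conv_lhs => rw [← b.sum_repr v]
      simp only [hb]
    conv_lhs => rw [hv]
    rw [map_sum, map_sum, Finsupp.coe_finsetSum, Finset.sum_apply]
    apply Finset.sum_congr rfl
    intro i _
    rw [map_smul, map_smul, Finsupp.smul_apply, smul_eq_mul]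
  -- the shape of `M ^ k (p last)`
  have key : ∀ k : ℕ, k ≤ l →
      (∀ i : Fin (l + 1), (i : ℕ) + k < l → b.repr ((M ^ k) (p (Fin.last l))) i = 0) ∧
      ∀ t : Fin (l + 1), (t : ℕ) + k = l → b.repr ((M ^ k) (p (Fin.last l))) t ≠ 0 := by
    intro k
    induction k with
    | zero =>
      intro _
      rw [pow_zero, Module.End.one_apply, ← hb, Basis.repr_self]
      constructor
      · intro i hi
        rw [Finsupp.single_apply, if_neg]
        intro h
        rw [← h, Fin.val_last] at hi
        omega
      · intro t ht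
        have : t = Fin.last l := Fin.ext (by rw [Fin.val_last]; omega)
        rw [this, Finsupp.single_apply, if_pos rfl]
        exact one_ne_zero
    | succ k ih =>
      intro hk
      obtain ⟨ih1, ih2⟩ := ih (by omega)
      rw [pow_succ', Module.End.mul_apply]
      constructor
      · intro t ht
        rw [hMv]
        apply Finset.sum_eq_zero
        intro i _
        by_cases hit : t ≤ i ∧ (i : ℕ) ≤ (t : ℕ) + 1
        · have hit1 : (t : ℕ) ≤ (i : ℕ) := hit.1
          rw [ih1 i (by omega), zero_mul]
        · rw [hA0 i t hit, mul_zero]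
      · intro t ht
        rw [hMv]
        have hlt : (t : ℕ) + 1 < l + 1 := by omega
        set i₀ : Fin (l + 1) := ⟨(t : ℕ) + 1, hlt⟩ with hi₀
        rw [Finset.sum_eq_single i₀]
        · exact mul_ne_zero (ih2 i₀ (by simp only [hi₀]; omega))
            (hA1 i₀ (by simp only [hi₀]; omega) t (by simp only [hi₀]))
        · intro i _ hi
          by_cases hit : t ≤ i ∧ (i : ℕ) ≤ (t : ℕ) + 1
          · have hit1 : (t : ℕ) ≤ (i : ℕ) := hit.1
            have hival : (i : ℕ) ≠ (t : ℕ) + 1 := by
              intro h
              apply hi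
              exact Fin.ext h
            have : (i : ℕ) = t := by omega
            rw [ih1 i (by omega), zero_mul]
          · rw [hA0 i t hit, mul_zero]
        · intro h
          exact absurd (Finset.mem_univ _) h
  -- linear independence
  unfold Cyc
  rw [Fintype.linearIndependent_iff]
  intro g hg
  -- downward induction
  have hdown : ∀ n : ℕ, n ≤ l + 1 → ∀ k : Fin (l + 1), l + 1 ≤ (k : ℕ) + n → g k = 0 := by
    intro n
    induction n with
    | zero =>
      intro _ k hk
      have := k.2
      omega
    | succ n ih =>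
      intro hn k hk
      by_cases hk' : l + 1 ≤ (k : ℕ) + n
      · exact ih (by omega) k hk'
      · -- `k = l - n`
        have hkn : (k : ℕ) + n = l := by omega
        have hnl : n < l + 1 := by omega
        set t : Fin (l + 1) := ⟨n, hnl⟩ with ht
        have h1 := congrArg (fun v => b.repr v t) hg
        simp only [map_sum, map_smul, Finsupp.coe_finsetSum, Finset.sum_apply, Finsupp.smul_apply,
          smul_eq_mul, map_zero, Finsupp.coe_zero, Pi.zero_apply] at h1
        rw [Finset.sum_eq_single k] at h1
        · rcases mul_eq_zero.mp h1 with h | h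
          · exact h
          · exact absurd h ((key k (by omega)).2 t (by simp only [ht]; omega))
        · intro j _ hj
          rcases lt_or_gt_of_ne (fun h => hj (Fin.ext h) : (j : ℕ) ≠ (k : ℕ)) with hlt | hgt
          · rw [(key j (by omega)).1 t (by simp only [ht]; omega), mul_zero]
          · rw [ih (by omega) j (by omega), zero_mul]
        · intro h
          exact absurd (Finset.mem_univ _) h
  intro k
  exact hdown (l + 1) le_rfl k (by omega)

end Cfsg.Agent.Helper72.Ore
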