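import Mathlib
import Cfsg.Agent.Helper99.P4Defs
import Cfsg.Agent.Helper76.P4T1g
import Cfsg.Agent.Helper63.P4T1d
import Cfsg.Agent.Helper63.P4T1e
import Cfsg.Agent.Helper66.P4T1f

/-!
# S6001 / S6000 piece (NF0), part a: the normal form in `GL_4` from the abstract fact (A1)

`normal_form_GL_of_A1` is the assembly of helper99's pieces (T1g), (T1d), (T1e), (T1f) with (A1)
(`g² ∈ Z(R)` and `[g,h] ∈ Z(R)`) as an explicit hypothesis.
-/

set_option autoImplicit false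
open scoped MatrixGroups

namespace Cfsg.Agent.Helper72.U4

open Matrix Cfsg.Agent.Helper99.P4 Cfsg.Geo

variable {F : Type*} [Field F]

theorem normal_form_GL_of_A1 (h2 : (2 : F) ≠ 0) (R : Subgroup (GL (Fin 4) F))
    (hRs : IsSymplecticTypeGroup 2 R) (hRi : ActsAbsolutelyIrreducibly (matrixSet R))
    (hR6 : Nat.card R = 2 ^ 6) (hRZ : Nat.card (Subgroup.center R) = 4)
    (hA1 : ∀ g h : R, g * g ∈ Subgroup.center R ∧ g * h * g⁻¹ * h⁻¹ ∈ Subgroup.center R) :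
    ∃ (i : F) (hi : i ^ 2 = -1) (P : GL (Fin 4) F),
      R = (R0 i hi).map (MulAut.conj P).toMonoidHom := by
  haveI : Finite R := Nat.finite_of_card_ne_zero (by rw [hR6]; norm_num)
  obtain ⟨i, hi, hPL⟩ := Cfsg.Agent.Helper76.P4.pauliLike_of_symplecticType h2 R hRs hRi hRZ hA1
  obtain ⟨a, haR, b, hbR, c, hcR, d, hdR, haa, hbb, hcc, hdd, hab, hcd, hac, had, hbc, hbd⟩ :=
    Cfsg.Agent.Helper63.P4.exists_abcd h2 hi R hPL (by rw [hR6]; norm_num)
  obtain ⟨P, hPa, hPb, hPc, hPd⟩ := Cfsg.Agent.Helper63.P4.basis_of_abcd h2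
    (a : Matrix (Fin 4) (Fin 4) F) b c d haa hbb hcc hdd hab hcd hac had hbc hbd
  exact ⟨i, hi, P, Cfsg.Agent.Helper66.P4.R_eq_conj h2 hi R hPL P a b c d haR hbR hcR hdR
    hPa hPb hPc hPd⟩

end Cfsg.Agent.Helper72.U4
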