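import Mathlib
import Cfsg.Agent.Helper72.U4NF0a
import Cfsg.Agent.Helper37.P4A1

/-!
# S6001 / S6000 piece (NF0): the normal form in `GL_4` of a group `4 ∘ 2^{1+4}` of symplectic type
-/

set_option autoImplicit false
open scoped MatrixGroups

namespace Cfsg.Agent.Helper72.U4

open Matrix Cfsg.Agent.Helper99.P4 Cfsg.Geo

variable {F : Type*} [Field F]

/-- (NF0) normal form in `GL_4` (field-generic). -/
theorem normal_form_GL (h2 : (2 : F) ≠ 0) (R : Subgroup (GL (Fin 4) F))
    (hRs : IsSymplecticTypeGroup 2 R) (hRi : ActsAbsolutelyIrreducibly (matrixSet R))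
    (hR6 : Nat.card R = 2 ^ 6) (hRZ : Nat.card (Subgroup.center R) = 4) :
    ∃ (i : F) (hi : i ^ 2 = -1) (P : GL (Fin 4) F),
      R = (R0 i hi).map (MulAut.conj P).toMonoidHom := by
  haveI : Finite R := Nat.finite_of_card_ne_zero (by rw [hR6]; norm_num)
  have hexp : Monoid.exponent R = 4 := by rw [hRs.exponent_eq]; rfl
  exact normal_form_GL_of_A1 h2 R hRs hRi hR6 hRZ (fun g h =>
    Cfsg.Agent.Helper37.P4.elemAb_of_symplecticType hRs.pGroup hexp
      hRs.cyclic_of_characteristic hRZ g h)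

end Cfsg.Agent.Helper72.U4
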