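import Mathlib
import Cfsg.Prelude.Def_HallClasses

/-!
# S2222 (helper86), pieces (S13), (S14): generic facts on pronormal subgroups.
-/

set_option autoImplicit false

namespace Cfsg.Agent.Helper72.AltPro

/-- conjugating by `g` and by `x` gives the same subgroup when `x⁻¹ g ∈ H`. -/
theorem map_conj_eq_of_inv_mul_mem {G : Type*} [Group G] (H : Subgroup G) (g x : G)
    (h : x⁻¹ * g ∈ H) :
    H.map (MulAut.conj g).toMonoidHom = H.map (MulAut.conj x).toMonoidHom := by
  ext y
  simp only [Subgroup.mem_map, MulEquiv.coe_toMonoidHom, MulAut.conj_apply]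
  constructor
  · rintro ⟨k, hk, rfl⟩
    exact ⟨(x⁻¹ * g) * k * (x⁻¹ * g)⁻¹, H.mul_mem (H.mul_mem h hk) (H.inv_mem h), by group⟩
  · rintro ⟨k, hk, rfl⟩
    exact ⟨(x⁻¹ * g)⁻¹ * k * (x⁻¹ * g), H.mul_mem (H.mul_mem (H.inv_mem h) hk) h, by group⟩

/-- a Sylow subgroup and its conjugate are conjugate inside any subgroup containing both. -/
theorem exists_smul_eq_of_le {G : Type*} [Group G] [Finite G] {p : ℕ} [Fact p.Prime]
    (P : Sylow p G) (g : G) (L : Subgroup G) (h1 : (P : Subgroup G) ≤ L)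
    (h2 : ((g • P : Sylow p G) : Subgroup G) ≤ L) : ∃ x ∈ L, x • P = g • P := by
  obtain ⟨x, hx⟩ := MulAction.exists_smul_eq L (P.subtype h1) ((g • P).subtype h2)
  rw [Sylow.smul_subtype] at hx
  exact ⟨x, x.2, Sylow.subtype_injective hx⟩

theorem smul_sylow_le_map {G : Type*} [Group G] {p : ℕ} [Fact p.Prime]
    (P : Sylow p G) (g : G) (H : Subgroup G) (hPH : (P : Subgroup G) ≤ H) :
    ((g • P : Sylow p G) : Subgroup G) ≤ H.map (MulAut.conj g).toMonoidHom := by
  intro y hy
  rw [Sylow.coe_subgroup_smul, Subgroup.mem_smul_pointwise_iff_exists] at hy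
  obtain ⟨z, hz, rfl⟩ := hy
  exact ⟨z, hPH hz, rfl⟩

/-- (S13) overgroups of a self-normalizing Sylow subgroup are pronormal. -/
theorem isPronormal_of_sylow_le {G : Type*} [Group G] [Finite G] {p : ℕ} [Fact p.Prime]
    (P : Sylow p G) (hP : Subgroup.normalizer ((P : Subgroup G) : Set G) = P) (H : Subgroup G)
    (hPH : (P : Subgroup G) ≤ H) : Cfsg.IsPronormal H := by
  intro g
  have h1 : (P : Subgroup G) ≤ H ⊔ H.map (MulAut.conj g).toMonoidHom := hPH.trans le_sup_left
  have h2 : ((g • P : Sylow p G) : Subgroup G) ≤ H ⊔ H.map (MulAut.conj g).toMonoidHom :=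
    (smul_sylow_le_map P g H hPH).trans le_sup_right
  obtain ⟨x, hxL, hx⟩ := exists_smul_eq_of_le P g _ h1 h2
  have heq : (x⁻¹ * g) • P = P := by rw [mul_smul, ← hx, inv_smul_smul]
  have hn : x⁻¹ * g ∈ Subgroup.normalizer ((P : Subgroup G) : Set G) :=
    Sylow.smul_eq_iff_mem_normalizer.mp heq
  rw [hP] at hn
  exact ⟨x, hxL, map_conj_eq_of_inv_mul_mem H g x (hPH hn)⟩

/-- Sylow subgroups are pronormal. -/
theorem isPronormal_sylow {G : Type*} [Group G] [Finite G] {p : ℕ} [Fact p.Prime]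
    (P : Sylow p G) : Cfsg.IsPronormal (P : Subgroup G) := by
  intro g
  have h1 : (P : Subgroup G) ≤
      (P : Subgroup G) ⊔ (P : Subgroup G).map (MulAut.conj g).toMonoidHom := le_sup_left
  have h2 : ((g • P : Sylow p G) : Subgroup G) ≤
      (P : Subgroup G) ⊔ (P : Subgroup G).map (MulAut.conj g).toMonoidHom :=
    (smul_sylow_le_map P g _ le_rfl).trans le_sup_right
  obtain ⟨x, hxL, hx⟩ := exists_smul_eq_of_le P g _ h1 h2
  refine ⟨x, hxL, ?_⟩
  have e : ∀ a : G, (P : Subgroup G).map (MulAut.conj a).toMonoidHom =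
      ((a • P : Sylow p G) : Subgroup G) := by
    intro a
    ext y
    rw [Sylow.coe_subgroup_smul, Subgroup.mem_smul_pointwise_iff_exists]
    rfl
  rw [e g, e x, hx]

/-- (S14) a subgroup of odd index contains a Sylow 2-subgroup. -/
theorem exists_sylow_le_of_odd_index {G : Type*} [Group G] [Finite G] (H : Subgroup G)
    (hH : Odd H.index) : ∃ P : Sylow 2 G, (P : Subgroup G) ≤ H := by
  classical
  obtain ⟨Q⟩ : Nonempty (Sylow 2 H) := inferInstance
  have hQcard : Nat.card Q = 2 ^ (Nat.card H).factorization 2 := Q.card_eq_multiplicity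
  have hidx : H.index ≠ 0 := Subgroup.index_ne_zero_of_finite
  have hnd : ¬ 2 ∣ H.index := by
    intro h
    exact (Nat.not_even_iff_odd.mpr hH) (even_iff_two_dvd.mpr h)
  have hfac : (Nat.card G).factorization 2 = (Nat.card H).factorization 2 := by
    rw [← H.card_mul_index, Nat.factorization_mul Nat.card_pos.ne' hidx]
    simp [Nat.factorization_eq_zero_of_not_dvd hnd]
  have hQ'card : Nat.card ((Q : Subgroup H).map H.subtype) =
      2 ^ (Nat.card G).factorization 2 := by
    rw [hfac, ← hQcard]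
    exact Nat.card_congr ((Q : Subgroup H).equivMapOfInjective H.subtype
      H.subtype_injective).symm.toEquiv
  refine ⟨Sylow.ofCard _ hQ'card, ?_⟩
  rw [Sylow.coe_ofCard]
  exact Subgroup.map_subtype_le _

end Cfsg.Agent.Helper72.AltPro
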