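import Mathlib
import Cfsg.Prelude.Def_HallClasses
import Cfsg.Agent.Helper72.AltProS13

/-!
# S2222 (helper86), piece (S15): subgroups of odd index of `A_5` are pronormal.
-/

set_option autoImplicit false

namespace Cfsg.Agent.Helper72.AltPro

/-- the whole group is pronormal. -/
theorem isPronormal_top {G : Type*} [Group G] : Cfsg.IsPronormal (⊤ : Subgroup G) := by
  intro g
  exact ⟨g, by rw [top_sup_eq]; exact Subgroup.mem_top g, rfl⟩

/-- a subgroup of prime index is pronormal. -/
theorem isPronormal_of_index_prime {G : Type*} [Group G] [Finite G] (H : Subgroup G)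
    (hp : H.index.Prime) : Cfsg.IsPronormal H := by
  intro g
  set L := H ⊔ H.map (MulAut.conj g).toMonoidHom with hL
  have hHL : H ≤ L := le_sup_left
  have hmul := Subgroup.relIndex_mul_index hHL
  have hdvd : L.index ∣ H.index := Dvd.intro_left _ hmul
  rcases (Nat.dvd_prime hp).mp hdvd with h1 | h1
  · -- `L = ⊤`
    have : L = ⊤ := Subgroup.index_eq_one.mp h1
    exact ⟨g, by rw [this]; exact Subgroup.mem_top g, rfl⟩
  · -- `L = H`
    rw [h1] at hmul
    have hpos : 0 < H.index := hp.pos
    have hrel : H.relIndex L = 1 := by
      have : H.relIndex L * H.index = 1 * H.index := by rw [hmul, one_mul]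
      exact Nat.eq_of_mul_eq_mul_right hpos this
    have hLH : L ≤ H := Subgroup.relIndex_eq_one.mp hrel
    have hgH : H.map (MulAut.conj g).toMonoidHom ≤ H := le_sup_right.trans hLH
    have hcard : Nat.card (H.map (MulAut.conj g).toMonoidHom) = Nat.card H :=
      Nat.card_congr (H.equivMapOfInjective _ (MulAut.conj g).injective).symm.toEquiv
    have heq : H.map (MulAut.conj g).toMonoidHom = H :=
      Subgroup.eq_of_le_of_card_ge hgH (by rw [hcard])
    refine ⟨1, L.one_mem, ?_⟩
    rw [heq]
    ext y
    simp

/-- a simple group of order `> n!` has no subgroup of index `n ≥ 2`... here: no subgroup of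
index `3` in a simple group of order `60`. -/
theorem index_ne_three_of_simple {G : Type*} [Group G] [Finite G] [IsSimpleGroup G]
    (hG : Nat.card G = 60) (H : Subgroup G) : H.index ≠ 3 := by
  intro h3
  have hcore : H.normalCore = ⊥ ∨ H.normalCore = ⊤ :=
    (H.normalCore_normal).eq_bot_or_eq_top
  rcases hcore with hc | hc
  · -- `G` embeds in `Perm (G ⧸ H)`
    have hinj : Function.Injective (MulAction.toPermHom G (G ⧸ H)) := by
      rw [← MonoidHom.ker_eq_bot_iff, ← Subgroup.normalCore_eq_ker, hc]
    have hdvd := Subgroup.card_dvd_of_injective _ hinj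
    have hfin : Finite (G ⧸ H) := inferInstance
    have : Fintype (G ⧸ H) := Fintype.ofFinite _
    classical
    rw [hG, Nat.card_eq_fintype_card (α := Equiv.Perm (G ⧸ H)), Fintype.card_perm,
      ← Nat.card_eq_fintype_card, ← Subgroup.index_eq_card, h3] at hdvd
    norm_num [Nat.factorial] at hdvd
  · have hle : (⊤ : Subgroup G) ≤ H := hc ▸ H.normalCore_le
    have : H = ⊤ := top_le_iff.mp hle
    rw [this, Subgroup.index_top] at h3
    omega

theorem card_alt_five : Nat.card (alternatingGroup (Fin 5)) = 60 := by
  rw [nat_card_alternatingGroup, Nat.card_eq_fintype_card, Fintype.card_fin]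
  rfl

/-- (S15) the case `n = 5`. -/
theorem isPronormal_alt_five (H : Subgroup (alternatingGroup (Fin 5))) (hH : Odd H.index) :
    Cfsg.IsPronormal H := by
  have hcard := card_alt_five
  have hmul := H.card_mul_index
  rw [hcard] at hmul
  have hsimple : IsSimpleGroup (alternatingGroup (Fin 5)) := alternatingGroup.isSimpleGroup (by simp)
  have hidx_dvd : H.index ∣ 60 := Dvd.intro_left _ hmul
  have hidx_le : H.index ≤ 60 := Nat.le_of_dvd (by norm_num) hidx_dvd
  have hidx_pos : 0 < H.index := Nat.pos_of_ne_zero Subgroup.index_ne_zero_of_finite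
  have hne3 := index_ne_three_of_simple hcard H
  -- the odd divisors of `60`
  have hcases : H.index = 1 ∨ H.index = 5 ∨ H.index = 15 := by
    obtain ⟨k, hk⟩ := hH
    have : H.index = 1 ∨ H.index = 3 ∨ H.index = 5 ∨ H.index = 15 := by
      generalize H.index = i at *
      interval_cases i <;> omega
    rcases this with h | h | h | h
    · exact Or.inl h
    · exact absurd h hne3
    · exact Or.inr (Or.inl h)
    · exact Or.inr (Or.inr h)
  rcases hcases with h | h | h
  · rw [Subgroup.index_eq_one.mp h]
    exact isPronormal_top
  · exact isPronormal_of_index_prime H (by rw [h]; norm_num)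
  · -- `|H| = 4`: a Sylow 2-subgroup
    obtain ⟨P, hPH⟩ := exists_sylow_le_of_odd_index H hH
    rw [h] at hmul
    have hHcard : Nat.card H = 4 := by omega
    have hPcard : Nat.card (P : Subgroup (alternatingGroup (Fin 5))) = 4 := by
      have h1 : Nat.card (P : Subgroup (alternatingGroup (Fin 5))) ∣ Nat.card H :=
        Subgroup.card_dvd_of_le hPH
      rw [hHcard] at h1
      have h2 := (P : Subgroup (alternatingGroup (Fin 5))).card_mul_index
      rw [hcard] at h2
      have h3 : ¬ 2 ∣ (P : Subgroup (alternatingGroup (Fin 5))).index := P.not_dvd_index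
      have hle : Nat.card (P : Subgroup (alternatingGroup (Fin 5))) ≤ 4 :=
        Nat.le_of_dvd (by norm_num) h1
      generalize Nat.card (P : Subgroup (alternatingGroup (Fin 5))) = c at *
      generalize (P : Subgroup (alternatingGroup (Fin 5))).index = j at *
      interval_cases c
      · omega
      · omega
      · omega
      · omega
      · rfl
    have hPeq : (P : Subgroup (alternatingGroup (Fin 5))) = H :=
      Subgroup.eq_of_le_of_card_ge hPH (by rw [hHcard, hPcard])
    rw [← hPeq]
    exact isPronormal_sylow P

end Cfsg.Agent.Helper72.AltPro
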