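import Cfsg.Agent.Helper72.AutA6Facts
import Cfsg.Agent.Helper63.PGroup

set_option autoImplicit false

/-!
# S2488: Sylow 2-subgroups of a group `A_6.2^2` intersect nontrivially

Abstract argument: `H = C_G(z)` for an involution `z` of `N ≅ A_6`; for `f = z z^x` of even order a
power of `f` works, for `f` of order 3 or 5 orbit counting shows `C_G(f)` has even order and the
involution `z` acting on it has a nontrivial fixed point.
-/
open scoped Pointwise

namespace Cfsg.Agent.Helper72.AutA6

section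
variable {G : Type*} [Group G] (N : Subgroup G)

lemma pow_cases (e : N ≃* alternatingGroup (Fin 6)) {g : G} (hg : g ∈ N) :
    g ^ 2 = 1 ∨ g ^ 3 = 1 ∨ g ^ 4 = 1 ∨ g ^ 5 = 1 := by
  have key : ∀ k : ℕ, (e ⟨g, hg⟩) ^ k = 1 → g ^ k = 1 := by
    intro k hk
    have h1 : e ((⟨g, hg⟩ : N) ^ k) = e 1 := by rw [map_pow, hk, map_one]
    have h2 := e.injective h1
    have h3 := congrArg Subtype.val h2
    simpa using h3
  rcases a6_pow (e ⟨g, hg⟩) with h | h | h | h
  · exact Or.inl (key 2 h)
  · exact Or.inr (Or.inl (key 3 h))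
  · exact Or.inr (Or.inr (Or.inl (key 4 h)))
  · exact Or.inr (Or.inr (Or.inr (key 5 h)))

lemma orderOf_le_five (e : N ≃* alternatingGroup (Fin 6)) {g : G} (hg : g ∈ N) : orderOf g ≤ 5 := by
  rcases pow_cases N e hg with h | h | h | h
  · exact (orderOf_le_of_pow_eq_one (by norm_num) h).trans (by norm_num)
  · exact (orderOf_le_of_pow_eq_one (by norm_num) h).trans (by norm_num)
  · exact (orderOf_le_of_pow_eq_one (by norm_num) h).trans (by norm_num)
  · exact orderOf_le_of_pow_eq_one (by norm_num) h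

lemma card_N (e : N ≃* alternatingGroup (Fin 6)) : Nat.card N = 360 := by
  rw [Nat.card_congr e.toEquiv, Nat.card_eq_fintype_card]
  have h := two_mul_card_alternatingGroup (α := Fin 6)
  rw [Fintype.card_perm, Fintype.card_fin] at h
  have : (6 : ℕ).factorial = 720 := by decide
  omega

lemma card_pow_eq_one (e : N ≃* alternatingGroup (Fin 6)) (m : ℕ) :
    Nat.card {g : G // g ∈ N ∧ g ^ m = 1}
      = Fintype.card {a : alternatingGroup (Fin 6) // a ^ m = 1} := by
  rw [← Nat.card_eq_fintype_card]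
  have e1 : {g : G // g ∈ N ∧ g ^ m = 1} ≃ {n : N // (n : G) ^ m = 1} :=
    (Equiv.subtypeSubtypeEquivSubtypeInter (fun g : G => g ∈ N) (fun g : G => g ^ m = 1)).symm
  have e2 : {n : N // (n : G) ^ m = 1} ≃ {a : alternatingGroup (Fin 6) // a ^ m = 1} :=
    e.toEquiv.subtypeEquiv (fun n => by
      constructor
      · intro h
        have : n ^ m = 1 := Subtype.ext (by simpa using h)
        show (e n) ^ m = 1
        rw [← map_pow, this, map_one]
      · intro h
        have h' : (e n) ^ m = 1 := h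
        rw [← map_pow] at h'
        have : n ^ m = 1 := e.injective (h'.trans (map_one e).symm)
        have := congrArg Subtype.val this
        simpa using this)
  exact Nat.card_congr (e1.trans e2)

lemma six_le_mul_of_primes {p q : ℕ} (hp : p.Prime) (hq : q.Prime) (hne : q ≠ p) : 6 ≤ p * q := by
  have h1 := hp.two_le
  have h2 := hq.two_le
  rcases Nat.lt_or_gt_of_ne hne with h | h
  · nlinarith
  · nlinarith

/-- In `N ≅ A_6`, the centraliser of an element of prime order `p` is a `p`-group. -/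
lemma prime_dvd_card_centralizer [Finite G] (e : N ≃* alternatingGroup (Fin 6)) {a : G} (haN : a ∈ N)
    {p : ℕ} (hp : p.Prime) (ha : orderOf a = p) {q : ℕ} (hq : q.Prime)
    (hqd : q ∣ Nat.card (N ⊓ Subgroup.centralizer {a} : Subgroup G)) : q = p := by
  by_contra hne
  have := Fact.mk hq
  obtain ⟨b, hb⟩ := exists_prime_orderOf_dvd_card' q hqd
  have hbN : (b : G) ∈ N := b.2.1
  have hbc : (b : G) ∈ Subgroup.centralizer {a} := b.2.2
  have hcomm : Commute a (b : G) := by
    have := Subgroup.mem_centralizer_singleton_iff.1 hbc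
    exact this.symm
  have hord : orderOf (b : G) = q := by rw [Subgroup.orderOf_coe]; exact hb
  have h1 := hcomm.orderOf_mul_eq_mul_orderOf_of_coprime
    (by rw [ha, hord]; exact (Nat.coprime_primes hp hq).2 (Ne.symm hne))
  have h5 := orderOf_le_five N e (N.mul_mem haN hbN)
  rw [h1, ha, hord] at h5
  have := six_le_mul_of_primes hp hq hne
  omega

lemma card_centralizer_eq_pow [Finite G] (e : N ≃* alternatingGroup (Fin 6)) {a : G} (haN : a ∈ N)
    {p : ℕ} (hp : p.Prime) (ha : orderOf a = p) :
    ∃ k, Nat.card (N ⊓ Subgroup.centralizer {a} : Subgroup G) = p ^ k ∧ p ^ k ∣ 360 := by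
  have hne : Nat.card (N ⊓ Subgroup.centralizer {a} : Subgroup G) ≠ 0 := Nat.card_pos.ne'
  have h1 := Nat.eq_prime_pow_of_unique_prime_dvd hne
    (fun {q} hq hqd => prime_dvd_card_centralizer N e haN hp ha hq hqd)
  refine ⟨_, h1, ?_⟩
  rw [← h1, ← card_N N e]
  exact Subgroup.card_dvd_of_le inf_le_left

lemma card_centralizer_two [Finite G] (e : N ≃* alternatingGroup (Fin 6)) {a : G} (haN : a ∈ N)
    (ha : orderOf a = 2) : Nat.card (N ⊓ Subgroup.centralizer {a} : Subgroup G) ≤ 8 := by
  obtain ⟨k, hk, hdvd⟩ := card_centralizer_eq_pow N e haN Nat.prime_two ha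
  rw [hk]
  have hk3 : k ≤ 3 := by
    by_contra h
    have : 2 ^ 4 ∣ 360 := dvd_trans (pow_dvd_pow 2 (by omega)) hdvd
    norm_num at this
  calc 2 ^ k ≤ 2 ^ 3 := Nat.pow_le_pow_right (by norm_num) hk3
    _ = 8 := by norm_num

lemma card_centralizer_three [Finite G] (e : N ≃* alternatingGroup (Fin 6)) {a : G} (haN : a ∈ N)
    (ha : orderOf a = 3) : Nat.card (N ⊓ Subgroup.centralizer {a} : Subgroup G) ≤ 9 := by
  obtain ⟨k, hk, hdvd⟩ := card_centralizer_eq_pow N e haN Nat.prime_three ha
  rw [hk]
  have hk3 : k ≤ 2 := by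
    by_contra h
    have : 3 ^ 3 ∣ 360 := dvd_trans (pow_dvd_pow 3 (by omega)) hdvd
    norm_num at this
  calc 3 ^ k ≤ 3 ^ 2 := Nat.pow_le_pow_right (by norm_num) hk3
    _ = 9 := by norm_num

lemma card_centralizer_five [Finite G] (e : N ≃* alternatingGroup (Fin 6)) {a : G} (haN : a ∈ N)
    (ha : orderOf a = 5) : Nat.card (N ⊓ Subgroup.centralizer {a} : Subgroup G) ≤ 5 := by
  obtain ⟨k, hk, hdvd⟩ := card_centralizer_eq_pow N e haN Nat.prime_five ha
  rw [hk]
  have hk3 : k ≤ 1 := by
    by_contra h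
    have : 5 ^ 2 ∣ 360 := dvd_trans (pow_dvd_pow 5 (by omega)) hdvd
    norm_num at this
  calc 5 ^ k ≤ 5 ^ 1 := Nat.pow_le_pow_right (by norm_num) hk3
    _ = 5 := by norm_num

/-- the index of a centraliser is at most the size of any conjugation-stable set containing the
element -/
lemma index_centralizer_le [Finite G] (f : G) (Θ : Set G) (hΘ : ∀ g : G, g * f * g⁻¹ ∈ Θ) :
    (Subgroup.centralizer {f}).index ≤ Nat.card Θ := by
  let ψ : G ⧸ Subgroup.centralizer {f} → Θ :=
    Quotient.lift (fun g : G => (⟨g * f * g⁻¹, hΘ g⟩ : Θ)) (by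
      intro g g' h
      have h' : g⁻¹ * g' ∈ Subgroup.centralizer {f} := QuotientGroup.leftRel_apply.1 h
      rw [Subgroup.mem_centralizer_singleton_iff] at h'
      apply Subtype.ext
      show g * f * g⁻¹ = g' * f * g'⁻¹
      have : g' = g * (g⁻¹ * g') := by group
      rw [this, mul_assoc g, mul_assoc g, h']
      group)
  have hinj : Function.Injective ψ := by
    intro q q'
    induction q using Quotient.inductionOn with
    | _ g =>
    induction q' using Quotient.inductionOn with
    | _ g' =>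
    intro h
    have h1 : g * f * g⁻¹ = g' * f * g'⁻¹ := congrArg Subtype.val h
    apply Quotient.sound
    apply QuotientGroup.leftRel_apply.2
    rw [Subgroup.mem_centralizer_singleton_iff]
    calc g⁻¹ * g' * f = g⁻¹ * (g' * f * g'⁻¹) * g' := by group
      _ = g⁻¹ * (g * f * g⁻¹) * g' := by rw [h1]
      _ = f * (g⁻¹ * g') := by group
  exact Nat.card_le_card_of_injective ψ hinj

/-- If an involution `z` inverts `f` and `C_G(f)` has even order, some nontrivial element commutes
with both `f` and `z`. -/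
lemma exists_common_centralizer [Finite G] (f z : G) (hz2 : z * z = 1) (hzf : z * f * z⁻¹ = f⁻¹)
    (heven : 2 ∣ Nat.card (Subgroup.centralizer {f})) :
    ∃ u : G, u ≠ 1 ∧ u * f = f * u ∧ u * z = z * u := by
  classical
  have hzinv : z⁻¹ = z := inv_eq_of_mul_eq_one_left hz2
  have hnorm : ∀ c : G, c ∈ Subgroup.centralizer {f} → z * c * z⁻¹ ∈ Subgroup.centralizer {f} := by
    intro c hc
    rw [Subgroup.mem_centralizer_singleton_iff] at hc ⊢
    have h1 : z⁻¹ * f * z = f⁻¹ := by
      have := hzf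
      rw [hzinv] at this ⊢
      exact this
    have h2 : c * f⁻¹ = f⁻¹ * c := by
      calc c * f⁻¹ = f⁻¹ * (f * c) * f⁻¹ := by group
        _ = f⁻¹ * (c * f) * f⁻¹ := by rw [hc]
        _ = f⁻¹ * c := by group
    calc z * c * z⁻¹ * f = z * c * (z⁻¹ * f * z) * z⁻¹ := by group
      _ = z * (c * f⁻¹) * z⁻¹ := by rw [h1]; group
      _ = z * (f⁻¹ * c) * z⁻¹ := by rw [h2]
      _ = (z * f⁻¹ * z⁻¹) * (z * c * z⁻¹) := by group
      _ = f * (z * c * z⁻¹) := by
        have : z * f⁻¹ * z⁻¹ = f := by
          have := congrArg (fun t => t⁻¹) hzf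
          simp only [mul_inv_rev, inv_inv] at this
          rw [← mul_assoc] at this
          exact this
        rw [this]
  let _ : Fintype (Subgroup.centralizer ({f} : Set G)) := Fintype.ofFinite _
  let σ : Function.End (Subgroup.centralizer ({f} : Set G)) :=
    fun c => ⟨z * c * z⁻¹, hnorm c c.2⟩
  have hσ : σ ^ 2 ^ 1 = 1 := by
    rw [pow_one, pow_two]
    funext c
    apply Subtype.ext
    show z * (z * (c : G) * z⁻¹) * z⁻¹ = c
    rw [hzinv]
    calc z * (z * (c : G) * z) * z = (z * z) * c * (z * z) := by group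
      _ = c := by rw [hz2, one_mul, mul_one]
  have : Fact (Nat.Prime 2) := ⟨Nat.prime_two⟩
  have hmod := Equiv.Perm.card_fixedPoints_modEq (p := 2) (n := 1) hσ
  rw [Nat.card_eq_fintype_card] at heven
  have hfix_even : 2 ∣ Fintype.card (Function.fixedPoints σ) :=
    (Nat.modEq_zero_iff_dvd.1 (hmod.symm.trans (Nat.modEq_zero_iff_dvd.2 heven)))
  have h1fix : (1 : Subgroup.centralizer ({f} : Set G)) ∈ Function.fixedPoints σ := by
    show σ 1 = 1
    apply Subtype.ext
    show z * ((1 : Subgroup.centralizer ({f} : Set G)) : G) * z⁻¹ = 1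
    simp
  have hcard2 : 1 < Fintype.card (Function.fixedPoints σ) := by
    have hpos : 0 < Fintype.card (Function.fixedPoints σ) :=
      Fintype.card_pos_iff.2 ⟨⟨1, h1fix⟩⟩
    rcases hfix_even with ⟨k, hk⟩
    omega
  obtain ⟨c, hc⟩ := Fintype.exists_ne_of_one_lt_card hcard2 ⟨1, h1fix⟩
  refine ⟨(c : Subgroup.centralizer ({f} : Set G)), ?_, ?_, ?_⟩
  · intro h
    apply hc
    apply Subtype.ext
    apply Subtype.ext
    exact h
  · have := (c : Subgroup.centralizer ({f} : Set G)).2
    rw [Subgroup.mem_centralizer_singleton_iff] at this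
    exact this
  · have h1 : σ c.1 = c.1 := c.2
    have h2 : z * ((c : Subgroup.centralizer ({f} : Set G)) : G) * z⁻¹ = c := congrArg Subtype.val h1
    calc ((c : Subgroup.centralizer ({f} : Set G)) : G) * z
        = (z * ((c : Subgroup.centralizer ({f} : Set G)) : G) * z⁻¹) * z := by rw [h2]
      _ = z * c := by group

lemma card_eq_inf_mul_relIndex [Finite G] (C : Subgroup G) :
    Nat.card C = Nat.card (N ⊓ C : Subgroup G) * N.relIndex C := by
  have h1 := Subgroup.relIndex_mul_relIndex (⊥ : Subgroup G) (N ⊓ C) C bot_le inf_le_right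
  rw [Subgroup.relIndex_bot_left, Subgroup.relIndex_bot_left, Subgroup.inf_relIndex_right] at h1
  exact h1.symm

lemma even_card_centralizer [Finite G] [N.Normal] (hidx : N.index = 4) (f : G)
    (hlt : Nat.card (N ⊓ Subgroup.centralizer {f} : Subgroup G)
      < Nat.card (Subgroup.centralizer ({f} : Set G))) :
    2 ∣ Nat.card (Subgroup.centralizer ({f} : Set G)) := by
  have h1 := card_eq_inf_mul_relIndex N (Subgroup.centralizer ({f} : Set G))
  have h2 : N.relIndex (Subgroup.centralizer ({f} : Set G)) ∣ 4 :=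
    hidx ▸ Subgroup.relIndex_dvd_index_of_normal N _
  have h3 : N.relIndex (Subgroup.centralizer ({f} : Set G)) ≤ 4 := Nat.le_of_dvd (by norm_num) h2
  have h4 : N.relIndex (Subgroup.centralizer ({f} : Set G)) ≠ 1 := by
    intro h
    rw [h, mul_one] at h1
    omega
  have h5 : 2 ∣ N.relIndex (Subgroup.centralizer ({f} : Set G)) := by
    generalize N.relIndex (Subgroup.centralizer ({f} : Set G)) = r at h2 h3 h4
    interval_cases r
    · simp at h2
    · exact absurd rfl h4
    · norm_num
    · norm_num at h2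
    · norm_num
  rw [h1]
  exact Dvd.dvd.mul_left h5 _

lemma factorization_1440 : (1440 : ℕ).factorization 2 = 5 := by
  have h : (1440 : ℕ) = 2 ^ 5 * 45 := by norm_num
  rw [h, Nat.factorization_mul (by norm_num) (by norm_num), Nat.Prime.factorization_pow Nat.prime_two]
  simp [Nat.factorization_eq_zero_of_not_dvd (show ¬ 2 ∣ 45 by norm_num)]

theorem main [Finite G] [N.Normal] (e : N ≃* alternatingGroup (Fin 6)) (hidx : N.index = 4)
    (H : Sylow 2 G) (x : G) :
    (H : Subgroup G) ⊓ MulAut.conj x • (H : Subgroup G) ≠ ⊥ := by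
  have : Fact (Nat.Prime 2) := ⟨Nat.prime_two⟩
  have hN := card_N N e
  have hG : Nat.card G = 1440 := by rw [← Subgroup.card_mul_index N, hN, hidx]
  have hH : Nat.card (H : Subgroup G) = 32 := by
    rw [Sylow.card_eq_multiplicity, hG, factorization_1440]
    norm_num
  -- a central involution of `H` inside `N`
  have hz : ∃ z : G, z ∈ N ∧ z ≠ 1 ∧ z * z = 1 ∧ ∀ h ∈ (H : Subgroup G), h * z = z * h := by
    have hK : N.subgroupOf (H : Subgroup G) ≠ ⊥ := by
      intro hbot
      have h1 := card_eq_inf_mul_relIndex N (H : Subgroup G)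
      have h2 : N.relIndex (H : Subgroup G) ∣ 4 := hidx ▸ Subgroup.relIndex_dvd_index_of_normal N _
      have h3 : N.relIndex (H : Subgroup G) ≤ 4 := Nat.le_of_dvd (by norm_num) h2
      have h4 : N ⊓ (H : Subgroup G) = ⊥ := by
        rw [Subgroup.subgroupOf_eq_bot] at hbot
        exact disjoint_iff.1 hbot
      rw [h4, Subgroup.card_bot, one_mul, hH] at h1
      omega
    have h1 := Cfsg.Agent.Helper63.normal_inf_center_ne_bot (p := 2) H.2
      (N.subgroupOf (H : Subgroup G)) hK
    obtain ⟨⟨k, hk⟩, hk1⟩ := (Subgroup.ne_bot_iff_exists_ne_one).1 h1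
    have hkN : (k : G) ∈ N := Subgroup.mem_subgroupOf.1 hk.1
    have hkc : ∀ g : (H : Subgroup G), g * k = k * g := Subgroup.mem_center_iff.1 hk.2
    have hk1' : (k : G) ≠ 1 := by
      intro h
      apply hk1
      apply Subtype.ext
      apply Subtype.ext
      exact h
    obtain ⟨j, hj⟩ := (IsPGroup.iff_orderOf.1 H.2) k
    have hj' : orderOf (k : G) = 2 ^ j := by rw [Subgroup.orderOf_coe]; exact hj
    have hj0 : j ≠ 0 := by
      rintro rfl
      rw [pow_zero, orderOf_eq_one_iff] at hj'
      exact hk1' hj'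
    refine ⟨(k : G) ^ 2 ^ (j - 1), N.pow_mem hkN _, ?_, ?_, ?_⟩
    · intro h
      have h2 := orderOf_dvd_of_pow_eq_one h
      rw [hj'] at h2
      have h3 := Nat.le_of_dvd (by positivity) h2
      have h4 : 2 ^ (j - 1) < 2 ^ j := Nat.pow_lt_pow_right (by norm_num) (by omega)
      omega
    · rw [← pow_add, ← two_mul, ← pow_succ', Nat.sub_add_cancel (Nat.one_le_iff_ne_zero.2 hj0),
        ← hj', pow_orderOf_eq_one]
    · intro h hh
      have h1 : Commute h (k : G) := congrArg Subtype.val (hkc ⟨h, hh⟩)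
      exact (h1.pow_right _).eq
  obtain ⟨z, hzN, hz1, hz2, hzH⟩ := hz
  have hzord : orderOf z = 2 := orderOf_eq_prime (by rw [pow_two]; exact hz2) hz1
  have hzinv : z⁻¹ = z := inv_eq_of_mul_eq_one_left hz2
  -- `H = C_G(z)`
  have hHC : (H : Subgroup G) = Subgroup.centralizer {z} := by
    apply Subgroup.eq_of_le_of_card_ge
    · intro h hh
      rw [Subgroup.mem_centralizer_singleton_iff]
      exact (hzH h hh)
    · have h1 := card_eq_inf_mul_relIndex N (Subgroup.centralizer ({z} : Set G))
      have h2 : N.relIndex (Subgroup.centralizer ({z} : Set G)) ∣ 4 :=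
        hidx ▸ Subgroup.relIndex_dvd_index_of_normal N _
      have h3 : N.relIndex (Subgroup.centralizer ({z} : Set G)) ≤ 4 :=
        Nat.le_of_dvd (by norm_num) h2
      have h4 := card_centralizer_two N e hzN hzord
      rw [h1, hH]
      calc _ ≤ 8 * 4 := Nat.mul_le_mul h4 h3
        _ = 32 := by norm_num
  suffices h : ∃ u : G, u ≠ 1 ∧ u * z = z * u ∧ u * (x * z * x⁻¹) = (x * z * x⁻¹) * u by
    obtain ⟨u, hu1, huz, huz'⟩ := h
    intro hbot
    have hmem : u ∈ (H : Subgroup G) ⊓ MulAut.conj x • (H : Subgroup G) := by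
      refine Subgroup.mem_inf.2 ⟨?_, ?_⟩
      · rw [hHC, Subgroup.mem_centralizer_singleton_iff]
        exact huz
      · rw [Subgroup.mem_pointwise_smul_iff_inv_smul_mem, hHC,
          Subgroup.mem_centralizer_singleton_iff]
        show ((MulAut.conj x)⁻¹ • u) * z = z * ((MulAut.conj x)⁻¹ • u)
        rw [MulAut.smul_def, MulAut.conj_inv_apply]
        calc x⁻¹ * u * x * z = x⁻¹ * (u * (x * z * x⁻¹)) * x := by group
          _ = x⁻¹ * ((x * z * x⁻¹) * u) * x := by rw [huz']
          _ = z * (x⁻¹ * u * x) := by group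
    rw [hbot] at hmem
    exact hu1 (Subgroup.mem_bot.1 hmem)
  -- the product `f = z z'`
  have hz'N : x * z * x⁻¹ ∈ N := ‹N.Normal›.conj_mem z hzN x
  generalize hz'def : x * z * x⁻¹ = z' at hz'N ⊢
  have hz'2 : z' * z' = 1 := by
    rw [← hz'def]
    calc x * z * x⁻¹ * (x * z * x⁻¹) = x * (z * z) * x⁻¹ := by group
      _ = 1 := by rw [hz2]; group
  have hz'inv : z'⁻¹ = z' := inv_eq_of_mul_eq_one_left hz'2
  have hfN : z * z' ∈ N := N.mul_mem hzN hz'N
  have hzf : z * (z * z') * z⁻¹ = (z * z')⁻¹ := by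
    rw [mul_inv_rev, hzinv, hz'inv, ← mul_assoc, hz2, one_mul]
  -- reduction: an element commuting with `z` and `f` commutes with `z'`
  have hred : ∀ u : G, u * z = z * u → u * (z * z') = (z * z') * u → u * z' = z' * u := by
    intro u h1 h2
    have hz' : z' = z⁻¹ * (z * z') := by group
    have hc1 : Commute u z := h1
    have hc2 : Commute u (z * z') := h2
    have hc3 : Commute u (z⁻¹ * (z * z')) := hc1.inv_right.mul_right hc2
    rw [← hz'] at hc3
    exact hc3.eq
  by_cases hf1 : z * z' = 1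
  · exact ⟨z, hz1, rfl, by
      have : z' = z := by
        have := eq_inv_of_mul_eq_one_right hf1
        rw [hzinv] at this; exact this
      rw [this]⟩
  -- the cases where `f` has even order
  have heven : ∀ k : ℕ, (z * z') ^ k ≠ 1 → (z * z') ^ (2 * k) = 1 →
      ∃ u : G, u ≠ 1 ∧ u * z = z * u ∧ u * z' = z' * u := by
    intro k hk1 hk2
    have hinv : ((z * z') ^ k)⁻¹ = (z * z') ^ k := by
      apply inv_eq_of_mul_eq_one_left
      rw [← pow_add, ← two_mul, hk2]
    have h1 : (z * z') ^ k * z = z * (z * z') ^ k := by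
      have h2 : z * (z * z') ^ k * z⁻¹ = ((z * z') ^ k)⁻¹ := by
        rw [← inv_pow, ← hzf, conj_pow]
      rw [hinv] at h2
      calc (z * z') ^ k * z = (z * (z * z') ^ k * z⁻¹) * z := by rw [h2]
        _ = z * (z * z') ^ k := by group
    refine ⟨(z * z') ^ k, hk1, h1, hred _ h1 ?_⟩
    exact (Commute.pow_self (z * z') k).eq
  -- the odd cases
  have hodd : ∀ (m : ℕ) (c t : ℕ), m.Prime → (z * z') ^ m = 1 →
      (orderOf (z * z') = m → Nat.card (N ⊓ Subgroup.centralizer {z * z'} : Subgroup G) ≤ c) →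
      Fintype.card {a : alternatingGroup (Fin 6) // a ^ m = 1} = t → c * t < 1440 →
      ∃ u : G, u ≠ 1 ∧ u * z = z * u ∧ u * z' = z' * u := by
    intro m c t hm hfm hc ht hct
    have := Fact.mk hm
    have hord : orderOf (z * z') = m := orderOf_eq_prime hfm hf1
    have hidx' := index_centralizer_le (z * z') {g : G | g ∈ N ∧ g ^ m = 1} (by
      intro g
      refine ⟨‹N.Normal›.conj_mem _ hfN g, ?_⟩
      rw [conj_pow, hfm]; group)
    have hΘ : Nat.card {g : G | g ∈ N ∧ g ^ m = 1} = t := by
      rw [← ht, ← card_pow_eq_one N e m]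
      rfl
    rw [hΘ] at hidx'
    have hmul := Subgroup.card_mul_index (Subgroup.centralizer ({z * z'} : Set G))
    rw [hG] at hmul
    have hlt : Nat.card (N ⊓ Subgroup.centralizer {z * z'} : Subgroup G)
        < Nat.card (Subgroup.centralizer ({z * z'} : Set G)) := by
      have h1 := hc hord
      by_contra hcon
      push Not at hcon
      have : Nat.card (Subgroup.centralizer ({z * z'} : Set G))
          * (Subgroup.centralizer ({z * z'} : Set G)).index ≤ c * t :=
        Nat.mul_le_mul (hcon.trans h1) hidx'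
      omega
    have hev := even_card_centralizer N hidx (z * z') hlt
    obtain ⟨u, hu1, huf, huz⟩ := exists_common_centralizer (z * z') z hz2 hzf hev
    exact ⟨u, hu1, huz, hred u huz huf⟩
  rcases pow_cases N e hfN with h | h | h | h
  · exact heven 1 (by rwa [pow_one]) (by rwa [mul_one])
  · exact hodd 3 9 81 Nat.prime_three h (fun ho => card_centralizer_three N e hfN ho) a6_count3
      (by norm_num)
  · by_cases h2 : (z * z') ^ 2 = 1
    · exact heven 1 (by rwa [pow_one]) (by rwa [mul_one])
    · exact heven 2 h2 (by norm_num; exact h)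
  · exact hodd 5 5 145 Nat.prime_five h (fun ho => card_centralizer_five N e hfN ho) a6_count5
      (by norm_num)

end
end Cfsg.Agent.Helper72.AutA6
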