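import Mathlib

set_option autoImplicit false

/-!
# Three computed facts about the alternating group of degree 6 (kernel `decide`)
-/

namespace Cfsg.Agent.Helper72.AutA6

/-- every element of `A_6` has order at most 5 -/
theorem a6_pow (g : alternatingGroup (Fin 6)) : g ^ 2 = 1 ∨ g ^ 3 = 1 ∨ g ^ 4 = 1 ∨ g ^ 5 = 1 := by
  revert g; decide +kernel

/-- `A_6` has 80 elements of order 3 -/
theorem a6_count3 : Fintype.card {g : alternatingGroup (Fin 6) // g ^ 3 = 1} = 81 := by
  decide +kernel

/-- `A_6` has 144 elements of order 5 -/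
theorem a6_count5 : Fintype.card {g : alternatingGroup (Fin 6) // g ^ 5 = 1} = 145 := by
  decide +kernel

end Cfsg.Agent.Helper72.AutA6
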