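import Cfsg.Agent.Helper57.BH.Defs
import Cfsg.Agent.Helper48.BHAC
import Cfsg.Agent.Helper50.BHW1
import Cfsg.Agent.Helper80.BHW2

/-!
# (B) for S4503 (helper57's Brauer `(p-1)/2` route, board #6745): the second exceptional
character. `exists_second'` takes the sibling pieces (W1), (W2) as explicit hypotheses;
`exists_second` (the exact skeleton statement) plugs in helper50's (W1) and helper80's (W2).
-/

set_option autoImplicit false
set_option linter.unusedSectionVars false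

namespace Cfsg.Agent.Helper72.BH

open Cfsg Cfsg.Agent.Helper16 Cfsg.Agent.Helper16.DefOne Cfsg.Agent.Helper82.DefOne
  Cfsg.Agent.Helper77.DefOne Cfsg.Agent.Helper57.BH
open scoped ComplexConjugate

universe u

variable {G : Type u} [Group G] [Fintype G] {p : ℕ} [Fact p.Prime] (P : Sylow p G)

/-- the non-canonical characters over a canonical `θ`: there are `p - 1` of them -/
theorem card_nonCanon_over (hP : Nat.card P = p) (θ : IrrCharacter (cen P)) (hθ : IsCanon P θ) :
    Nat.card {φ : IrrCharacter (cen P) // can P φ = θ ∧ ¬ IsCanon P φ} = p - 1 := by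
  rw [← card_ZType P hP θ hθ]
  apply Nat.card_congr
  unfold ZType
  refine Equiv.subtypeEquivRight (fun φ => ?_)
  constructor
  · rintro ⟨h1, h2⟩
    refine ⟨h1, fun h => h2 ?_⟩
    rw [h]; exact hθ
  · rintro ⟨h1, h2⟩
    refine ⟨h1, fun h => h2 ?_⟩
    rw [← h1, can_eq_self P hP φ h]

/-- (B), primed on (W1), (W2) -/
theorem exists_second' (hP : Nat.card P = p)
    (hsymm : ∀ {φ φ' : IrrCharacter (cen P)}, SameP P φ φ' → SameP P φ' φ)
    (htrans : ∀ {φ φ' φ'' : IrrCharacter (cen P)}, SameP P φ φ' → SameP P φ' φ'' → SameP P φ φ'')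
    (hsmul : ∀ (n : nor P) {φ φ' : IrrCharacter (cen P)}, SameP P φ φ' →
      SameP P (n • φ) (n • φ'))
    (heq : ∀ {φ φ' : IrrCharacter (cen P)}, can P φ = can P φ' → SameP P φ φ' → φ = φ')
    (θ : IrrCharacter (cen P)) (hθ : IsCanon P θ)
    (φ₀ : IrrCharacter (cen P)) (h1 : can P φ₀ = θ) (h2 : ¬ IsCanon P φ₀)
    (hf : (cen P).relIndex (nor P) < p - 1) :
    ∃ φ₂ : IrrCharacter (cen P), can P φ₂ = θ ∧ ¬ IsCanon P φ₂ ∧
      ∀ φ ∈ MulAction.orbit (nor P) φ₀, ∀ φ' ∈ MulAction.orbit (nor P) φ₂, ¬ SameP P φ φ' := by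
  classical
  haveI : Finite (IrrCharacter (cen P)) := Cfsg.Agent.Helper79.irr_finite'
  by_contra hcon
  push Not at hcon
  -- every non-canonical character over `θ` is `SameP` to an element of the orbit of `φ₀`
  have hbad : ∀ z : {φ : IrrCharacter (cen P) // can P φ = θ ∧ ¬ IsCanon P φ},
      ∃ φ : MulAction.orbit (nor P) φ₀, SameP P φ.1 z.1 := by
    intro z
    obtain ⟨φ, hφ, φ', ⟨n, rfl⟩, hs⟩ := hcon z.1 z.2.1 z.2.2
    have h3 := hsmul n⁻¹ hs
    rw [inv_smul_smul] at h3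
    refine ⟨⟨n⁻¹ • φ, ?_⟩, h3⟩
    obtain ⟨m, rfl⟩ := hφ
    exact ⟨n⁻¹ * m, by simp only [mul_smul]⟩
  choose g hg using hbad
  have hinj : Function.Injective g := by
    intro z z' hzz'
    apply Subtype.ext
    apply heq
    · rw [z.2.1, z'.2.1]
    · have e1 := hg z
      have e2 := hg z'
      rw [hzz'] at e1
      exact htrans (hsymm e1) e2
  have hle := Nat.card_le_card_of_injective g hinj
  rw [card_nonCanon_over P hP θ hθ,
    Cfsg.Agent.Helper48.BH.card_orbit_of_not_isCanon P hP φ₀ h2] at hle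
  omega

/-- (B) a non-canonical `φ₂` over `θ` whose orbit has other central characters on `P` -/
theorem exists_second (hP : Nat.card P = p) (θ : IrrCharacter (cen P)) (hθ : IsCanon P θ)
    (φ₀ : IrrCharacter (cen P)) (h1 : can P φ₀ = θ) (h2 : ¬ IsCanon P φ₀)
    (hf : (cen P).relIndex (nor P) < p - 1) :
    ∃ φ₂ : IrrCharacter (cen P), can P φ₂ = θ ∧ ¬ IsCanon P φ₂ ∧
      ∀ φ ∈ MulAction.orbit (nor P) φ₀, ∀ φ' ∈ MulAction.orbit (nor P) φ₂, ¬ SameP P φ φ' :=
  exists_second' P hP (fun h => Cfsg.Agent.Helper50.BH.sameP_symm P h)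
    (fun h h' => Cfsg.Agent.Helper50.BH.sameP_trans P h h')
    (fun n _ _ h => Cfsg.Agent.Helper50.BH.sameP_smul P hP n h)
    (fun hc h => Cfsg.Agent.Helper80.BH.eq_of_can_eq_of_sameP P hP hc h) θ hθ φ₀ h1 h2 hf

end Cfsg.Agent.Helper72.BH
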