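import Cfsg.Agent.Helper57.BH.Defs
import Cfsg.Agent.Helper50.BHW3

/-!
# (Q1) for S4503 (helper57's Brauer `(p-1)/2` route, board #6745): `ψ · conj ψ₂` has no `P`-fixed
points. `pSum_mulConj_eq_zero'` takes the sibling piece (W3) as an explicit hypothesis;
`pSum_mulConj_eq_zero` (the exact skeleton statement) plugs in helper50's (W3).
-/

set_option autoImplicit false
set_option linter.unusedSectionVars false

namespace Cfsg.Agent.Helper72.BH

open Cfsg Cfsg.Agent.Helper16 Cfsg.Agent.Helper16.DefOne Cfsg.Agent.Helper82.DefOne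
  Cfsg.Agent.Helper77.DefOne Cfsg.Agent.Helper57.BH
open scoped ComplexConjugate

universe u

variable {G : Type u} [Group G] [Fintype G] {p : ℕ} [Fact p.Prime] (P : Sylow p G)

/-- the sum over `P` as a sum over the elements of `C_G(P)` lying in `P` -/
theorem pSum_eq_finsum_cen (hP : Nat.card P = p) (F : G → ℂ) :
    pSum P F = ∑ᶠ x ∈ {x : cen P | (x : G) ∈ (P : Subgroup G)}, F (x : G) := by
  unfold pSum
  have himg : ((P : Subgroup G) : Set G) =
      Subtype.val '' {x : cen P | (x : G) ∈ (P : Subgroup G)} := by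
    ext x
    constructor
    · intro hx
      exact ⟨⟨x, le_cen P hP hx⟩, hx, rfl⟩
    · rintro ⟨y, hy, rfl⟩
      exact hy
  rw [himg]
  exact finsum_mem_image (fun a _ b _ h => Subtype.ext h)

/-- (Q1), primed on (W3) -/
theorem pSum_mulConj_eq_zero' (hP : Nat.card P = p)
    (hW3 : ∀ {φ φ' : IrrCharacter (cen P)}, ¬ SameP P φ φ' →
      ∑ᶠ x ∈ {x : cen P | (x : G) ∈ (P : Subgroup G)},
        (φ : cen P → ℂ) x * conj ((φ' : cen P → ℂ) x) = 0)
    (ψ ψ₂ : IrrCharacter G)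
    (φ₀ φ₂ : IrrCharacter (cen P)) (h : IsOrbitSum P ψ φ₀) (h' : IsOrbitSum P ψ₂ φ₂)
    (hns : ∀ φ ∈ MulAction.orbit (nor P) φ₀, ∀ φ' ∈ MulAction.orbit (nor P) φ₂,
      ¬ SameP P φ φ') :
    pSum P (mulConj (ψ : G → ℂ) (ψ₂ : G → ℂ)) = 0 := by
  classical
  haveI : Finite (IrrCharacter (cen P)) := Cfsg.Agent.Helper79.irr_finite'
  rw [pSum_eq_finsum_cen P hP]
  have hS : {x : cen P | (x : G) ∈ (P : Subgroup G)}.Finite := Set.toFinite _
  have hO : (MulAction.orbit (nor P) φ₀).Finite := Set.toFinite _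
  have hO₂ : (MulAction.orbit (nor P) φ₂).Finite := Set.toFinite _
  rw [finsum_mem_eq_finite_toFinset_sum _ hS]
  have hterm : ∀ x : cen P, mulConj (ψ : G → ℂ) (ψ₂ : G → ℂ) (x : G) =
      ∑ φ ∈ hO.toFinset, ∑ φ' ∈ hO₂.toFinset,
        (φ : cen P → ℂ) x * conj ((φ' : cen P → ℂ) x) := by
    intro x
    unfold mulConj
    rw [h x, h' x, finsum_mem_eq_finite_toFinset_sum _ hO, finsum_mem_eq_finite_toFinset_sum _ hO₂,
      map_sum, Finset.sum_mul_sum]
  rw [Finset.sum_congr rfl (fun x _ => hterm x), Finset.sum_comm]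
  apply Finset.sum_eq_zero
  intro φ hφ
  rw [Finset.sum_comm]
  apply Finset.sum_eq_zero
  intro φ' hφ'
  have := hW3 (hns φ (hO.mem_toFinset.mp hφ) φ' (hO₂.mem_toFinset.mp hφ'))
  rw [finsum_mem_eq_finite_toFinset_sum _ hS] at this
  exact this

/-- (Q1) no `P`-fixed points -/
theorem pSum_mulConj_eq_zero (hP : Nat.card P = p) (ψ ψ₂ : IrrCharacter G)
    (φ₀ φ₂ : IrrCharacter (cen P)) (h : IsOrbitSum P ψ φ₀) (h' : IsOrbitSum P ψ₂ φ₂)
    (hns : ∀ φ ∈ MulAction.orbit (nor P) φ₀, ∀ φ' ∈ MulAction.orbit (nor P) φ₂,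
      ¬ SameP P φ φ') :
    pSum P (mulConj (ψ : G → ℂ) (ψ₂ : G → ℂ)) = 0 :=
  pSum_mulConj_eq_zero' P hP
    (fun hn => Cfsg.Agent.Helper50.BH.finsum_mulConj_of_not_sameP P hP hn) ψ ψ₂ φ₀ φ₂ h h' hns

end Cfsg.Agent.Helper72.BH
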