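import Mathlib

/-!
# Central extensions: commutator calculus for lifts

`σ : Γ →* P` is a homomorphism whose kernel is central in `Γ` (not necessarily surjective).
Commutators of elements of `Γ` whose images commute lie in the kernel, only depend on the images,
are invariant under conjugation and bimultiplicative.
-/

set_option autoImplicit false

namespace Cfsg.Agent.Helper72.CentExt

open Subgroup
open scoped commutatorElement

universe u v

variable {Γ : Type u} {P : Type v} [Group Γ] [Group P]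

theorem ker_comm (σ : Γ →* P) (hc : σ.ker ≤ center Γ) {z : Γ} (hz : z ∈ σ.ker) (g : Γ) :
    g * z = z * g :=
  Subgroup.mem_center_iff.mp (hc hz) g

theorem conj_ker (σ : Γ →* P) (hc : σ.ker ≤ center Γ) {z : Γ} (hz : z ∈ σ.ker) (g : Γ) :
    g * z * g⁻¹ = z := by
  rw [ker_comm σ hc hz g, mul_inv_cancel_right]

theorem ker_inv_comm (σ : Γ →* P) (hc : σ.ker ≤ center Γ) {z : Γ} (hz : z ∈ σ.ker) (g : Γ) :
    g * z⁻¹ = z⁻¹ * g :=
  ker_comm σ hc (inv_mem hz) g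

theorem commElt_mem_ker (σ : Γ →* P) {x y : Γ} (hxy : σ x * σ y = σ y * σ x) : ⁅x, y⁆ ∈ σ.ker := by
  rw [MonoidHom.mem_ker, map_commutatorElement, commutatorElement_eq_one_iff_mul_comm]
  exact hxy

/-- In a central extension the commutator of two elements only depends on their images. -/
theorem commElt_congr (σ : Γ →* P) (hc : σ.ker ≤ center Γ) {x x' y y' : Γ}
    (hx : σ x = σ x') (hy : σ y = σ y') : ⁅x, y⁆ = ⁅x', y'⁆ := by
  have hz1 : x'⁻¹ * x ∈ σ.ker := by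
    rw [MonoidHom.mem_ker, map_mul, map_inv, hx, inv_mul_cancel]
  have hz2 : y'⁻¹ * y ∈ σ.ker := by
    rw [MonoidHom.mem_ker, map_mul, map_inv, hy, inv_mul_cancel]
  have c1 := ker_comm σ hc hz1
  have c2 := ker_comm σ hc hz2
  have c1i := ker_inv_comm σ hc hz1
  have c2i := ker_inv_comm σ hc hz2
  set z1 := x'⁻¹ * x with hz1def
  set z2 := y'⁻¹ * y with hz2def
  have ex : x = x' * z1 := by rw [hz1def]; group
  have ey : y = y' * z2 := by rw [hz2def]; group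
  rw [ex, ey, commutatorElement_def, commutatorElement_def]
  calc x' * z1 * (y' * z2) * (x' * z1)⁻¹ * (y' * z2)⁻¹
      = x' * (z1 * y') * z2 * z1⁻¹ * x'⁻¹ * z2⁻¹ * y'⁻¹ := by group
    _ = x' * (y' * z1) * z2 * z1⁻¹ * x'⁻¹ * z2⁻¹ * y'⁻¹ := by rw [c1 y']
    _ = x' * y' * (z1 * z2) * z1⁻¹ * x'⁻¹ * z2⁻¹ * y'⁻¹ := by group
    _ = x' * y' * (z2 * z1) * z1⁻¹ * x'⁻¹ * z2⁻¹ * y'⁻¹ := by rw [c2 z1]
    _ = x' * y' * z2 * (x'⁻¹ * z2⁻¹) * y'⁻¹ := by group
    _ = x' * y' * z2 * (z2⁻¹ * x'⁻¹) * y'⁻¹ := by rw [c2i x'⁻¹]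
    _ = x' * y' * x'⁻¹ * y'⁻¹ := by group

/-- Commutators with trivial image are invariant under conjugation. -/
theorem commElt_conj (σ : Γ →* P) (hc : σ.ker ≤ center Γ) (g x y : Γ)
    (hxy : σ x * σ y = σ y * σ x) : ⁅g * x * g⁻¹, g * y * g⁻¹⁆ = ⁅x, y⁆ := by
  have hk := commElt_mem_ker σ hxy
  calc ⁅g * x * g⁻¹, g * y * g⁻¹⁆ = g * ⁅x, y⁆ * g⁻¹ := by
        rw [commutatorElement_def, commutatorElement_def]; group
    _ = ⁅x, y⁆ := conj_ker σ hc hk g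

/-- Conjugation-invariance, with the conjugates replaced by arbitrary lifts. -/
theorem commElt_conj' (σ : Γ →* P) (hc : σ.ker ≤ center Γ) (g x y x' y' : Γ)
    (hxy : σ x * σ y = σ y * σ x) (hx : σ x' = σ g * σ x * (σ g)⁻¹)
    (hy : σ y' = σ g * σ y * (σ g)⁻¹) : ⁅x', y'⁆ = ⁅x, y⁆ := by
  rw [← commElt_conj σ hc g x y hxy]
  apply commElt_congr σ hc
  · rw [hx, map_mul, map_mul, map_inv]
  · rw [hy, map_mul, map_mul, map_inv]

/-- Left multiplicativity when the commutators are central. -/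
theorem commElt_mul_left (σ : Γ →* P) (hc : σ.ker ≤ center Γ) (x y w : Γ)
    (hyw : σ y * σ w = σ w * σ y) : ⁅x * y, w⁆ = ⁅x, w⁆ * ⁅y, w⁆ := by
  have hk := commElt_mem_ker σ hyw
  have h1 := ker_comm σ hc hk
  calc ⁅x * y, w⁆ = x * ⁅y, w⁆ * (w * x⁻¹ * w⁻¹) := by
        rw [commutatorElement_def, commutatorElement_def]; group
    _ = ⁅y, w⁆ * x * (w * x⁻¹ * w⁻¹) := by rw [h1 x]
    _ = ⁅y, w⁆ * ⁅x, w⁆ := by rw [commutatorElement_def x w]; group
    _ = ⁅x, w⁆ * ⁅y, w⁆ := (h1 _).symm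

/-- Right multiplicativity when the commutators are central. -/
theorem commElt_mul_right (σ : Γ →* P) (hc : σ.ker ≤ center Γ) (x y w : Γ)
    (hxw : σ x * σ w = σ w * σ x) : ⁅x, y * w⁆ = ⁅x, y⁆ * ⁅x, w⁆ := by
  have hk := commElt_mem_ker σ hxw
  have h1 := ker_comm σ hc hk
  calc ⁅x, y * w⁆ = ⁅x, y⁆ * (y * ⁅x, w⁆) * y⁻¹ := by
        rw [commutatorElement_def, commutatorElement_def, commutatorElement_def]; group
    _ = ⁅x, y⁆ * (⁅x, w⁆ * y) * y⁻¹ := by rw [h1 y]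
    _ = ⁅x, y⁆ * ⁅x, w⁆ := by group

theorem commElt_ker_left (σ : Γ →* P) (hc : σ.ker ≤ center Γ) {z : Γ} (hz : z ∈ σ.ker) (g : Γ) :
    ⁅z, g⁆ = 1 := by
  rw [commutatorElement_eq_one_iff_mul_comm]
  exact (ker_comm σ hc hz g).symm

theorem commElt_ker_right (σ : Γ →* P) (hc : σ.ker ≤ center Γ) {z : Γ} (hz : z ∈ σ.ker) (g : Γ) :
    ⁅g, z⁆ = 1 := by
  rw [commutatorElement_eq_one_iff_mul_comm]
  exact ker_comm σ hc hz g

theorem commElt_swap_eq_one {x y : Γ} (h : ⁅x, y⁆ = 1) : ⁅y, x⁆ = 1 := by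
  rw [← commutatorElement_inv, h, inv_one]

/-- `⁅x, y⁆ ^ 2 = 1` as soon as `σ x ^ 2 = 1` and the images commute. -/
theorem commElt_sq_eq_one (σ : Γ →* P) (hc : σ.ker ≤ center Γ) (x y : Γ)
    (hxy : σ x * σ y = σ y * σ x) (hx : σ x * σ x = 1) : ⁅x, y⁆ * ⁅x, y⁆ = 1 := by
  rw [← commElt_mul_left σ hc x x y hxy]
  apply commElt_ker_left σ hc
  rw [MonoidHom.mem_ker, map_mul, hx]

/-- `⁅x, y⁆ ^ 2 = 1` as soon as `σ y ^ 2 = 1` and the images commute. -/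
theorem commElt_sq_eq_one' (σ : Γ →* P) (hc : σ.ker ≤ center Γ) (x y : Γ)
    (hxy : σ x * σ y = σ y * σ x) (hy : σ y * σ y = 1) : ⁅x, y⁆ * ⁅x, y⁆ = 1 := by
  rw [← commElt_mul_right σ hc x y y hxy]
  apply commElt_ker_right σ hc
  rw [MonoidHom.mem_ker, map_mul, hy]

end Cfsg.Agent.Helper72.CentExt
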