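import Cfsg.Agent.Helper72.CentExt

/-!
# Central extensions: abelian preimages

* `comm_of_mem_comap_closure`: if chosen lifts of generators commute pairwise, the whole preimage of
  the generated subgroup is abelian.
* `eightFix_lifts`: lifts of `v, a, b, c` commute when some `g` fixes `v` and acts on `⟨a, b, c⟩` by
  `a ↦ b ↦ c ↦ a c`.
* `singer_lifts`: lifts of `e₀, e₁, e₂, e₃` commute when some `g` acts by
  `e₀ ↦ e₁ ↦ e₂ ↦ e₃ ↦ e₀ e₁`.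
* `commutator_closure_le_of_centralizing`: derived subgroup of a subgroup generated by a set whose
  commutators lie in a subgroup centralized by the set.
-/

set_option autoImplicit false

namespace Cfsg.Agent.Helper72.CentExt

open Subgroup
open scoped commutatorElement

universe u v

variable {Γ : Type u} {P : Type v} [Group Γ] [Group P]

/-- If the lifts `ℓ i` commute pairwise, then the preimage of the subgroup generated by their images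
is abelian. -/
theorem comm_of_mem_comap_closure {ι : Type*} (σ : Γ →* P) (hc : σ.ker ≤ center Γ) (ℓ : ι → Γ)
    (hℓ : ∀ i j, ℓ i * ℓ j = ℓ j * ℓ i) :
    ∀ p ∈ (closure (Set.range (fun i => σ (ℓ i)))).comap σ,
      ∀ q ∈ (closure (Set.range (fun i => σ (ℓ i)))).comap σ, p * q = q * p := by
  set T : Set Γ := Set.range ℓ ∪ (σ.ker : Set Γ) with hT
  have hTc : ∀ x ∈ T, ∀ y ∈ T, x * y = y * x := by
    rintro x (⟨i, rfl⟩ | hx) y (⟨j, rfl⟩ | hy)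
    · exact hℓ i j
    · exact ker_comm σ hc hy _
    · exact (ker_comm σ hc hx _).symm
    · exact ker_comm σ hc hy _
  have hcomm := Subgroup.isMulCommutative_closure hTc
  have hle : (closure (Set.range (fun i => σ (ℓ i)))).comap σ ≤ closure T := by
    intro h hh
    rw [Subgroup.mem_comap] at hh
    have hsub : closure (Set.range (fun i => σ (ℓ i))) ≤ (closure T).map σ := by
      rw [Subgroup.closure_le]
      rintro _ ⟨i, rfl⟩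
      exact ⟨ℓ i, subset_closure (Or.inl ⟨i, rfl⟩), rfl⟩
    obtain ⟨k, hk, hkh⟩ := hsub hh
    have hz : k⁻¹ * h ∈ σ.ker := by
      rw [MonoidHom.mem_ker, map_mul, map_inv, hkh, inv_mul_cancel]
    have e : h = k * (k⁻¹ * h) := by group
    rw [e]
    exact mul_mem hk (subset_closure (Or.inr hz))
  intro p hp q hq
  have := hcomm.is_comm.comm ⟨p, hle hp⟩ ⟨q, hle hq⟩
  exact congrArg Subtype.val this

/-- The lifts of `v, a, b, c` commute pairwise when `g` centralizes `v` and acts by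
`a ↦ b ↦ c ↦ a c`. -/
theorem eightFix_lifts (σ : Γ →* P) (hc : σ.ker ≤ center Γ) (g v a b c : Γ)
    (hab : σ a * σ b = σ b * σ a) (hbc : σ b * σ c = σ c * σ b) (hca : σ c * σ a = σ a * σ c)
    (hva : σ v * σ a = σ a * σ v) (hvb : σ v * σ b = σ b * σ v) (hvc : σ v * σ c = σ c * σ v)
    (h1 : σ g * σ a = σ b * σ g) (h2 : σ g * σ b = σ c * σ g)
    (h3 : σ g * σ c = σ a * σ c * σ g) (h4 : σ g * σ v = σ v * σ g) :
    ⁅a, b⁆ = 1 ∧ ⁅b, c⁆ = 1 ∧ ⁅c, a⁆ = 1 ∧ ⁅v, a⁆ = 1 ∧ ⁅v, b⁆ = 1 ∧ ⁅v, c⁆ = 1 := by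
  have i1 : σ b = σ g * σ a * (σ g)⁻¹ := by rw [h1, mul_inv_cancel_right]
  have i2 : σ c = σ g * σ b * (σ g)⁻¹ := by rw [h2, mul_inv_cancel_right]
  have i3 : σ (a * c) = σ g * σ c * (σ g)⁻¹ := by rw [h3, mul_inv_cancel_right, map_mul]
  have i4 : σ v = σ g * σ v * (σ g)⁻¹ := by rw [h4, mul_inv_cancel_right]
  have e1 : ⁅b, c⁆ = ⁅a, b⁆ := commElt_conj' σ hc g a b b c hab i1 i2
  have e2 : ⁅c, a * c⁆ = ⁅b, c⁆ := commElt_conj' σ hc g b c c (a * c) hbc i2 i3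
  have e3 : ⁅a * c, b⁆ = ⁅c, a⁆ := commElt_conj' σ hc g c a (a * c) b hca i3 i1
  have e2' : ⁅c, a⁆ = ⁅b, c⁆ := by
    have := e2
    rw [commElt_mul_right σ hc c a c rfl, commutatorElement_self, mul_one] at this
    exact this
  have e3' : ⁅a, b⁆ * ⁅c, b⁆ = ⁅c, a⁆ := by
    have := e3
    rw [commElt_mul_left σ hc a c b hbc.symm] at this
    exact this
  have e4 : ⁅c, b⁆ = ⁅b, c⁆⁻¹ := (commutatorElement_inv b c).symm
  have hca1 : ⁅c, a⁆ = 1 := by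
    rw [← e3', e4, e1, mul_inv_cancel]
  have hbc1 : ⁅b, c⁆ = 1 := by rw [← e2', hca1]
  have hab1 : ⁅a, b⁆ = 1 := by rw [← e1, hbc1]
  have f1 : ⁅v, b⁆ = ⁅v, a⁆ := commElt_conj' σ hc g v a v b hva i4 i1
  have f2 : ⁅v, c⁆ = ⁅v, b⁆ := commElt_conj' σ hc g v b v c hvb i4 i2
  have f3 : ⁅v, a * c⁆ = ⁅v, c⁆ := commElt_conj' σ hc g v c v (a * c) hvc i4 i3
  have f3' : ⁅v, a⁆ * ⁅v, c⁆ = ⁅v, c⁆ := by
    have := f3
    rw [commElt_mul_right σ hc v a c hvc] at this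
    exact this
  have hva1 : ⁅v, a⁆ = 1 := by
    have := mul_right_cancel (b := ⁅v, c⁆) (a := ⁅v, a⁆) (c := 1) (by rw [f3', one_mul])
    exact this
  have hvb1 : ⁅v, b⁆ = 1 := by rw [f1, hva1]
  have hvc1 : ⁅v, c⁆ = 1 := by rw [f2, hvb1]
  exact ⟨hab1, hbc1, hca1, hva1, hvb1, hvc1⟩

/-- The lifts of `e₀, e₁, e₂, e₃` commute pairwise when `g` acts by
`e₀ ↦ e₁ ↦ e₂ ↦ e₃ ↦ e₀ e₁`. -/
theorem singer_lifts (σ : Γ →* P) (hc : σ.ker ≤ center Γ) (g e₀ e₁ e₂ e₃ : Γ)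
    (h01 : σ e₀ * σ e₁ = σ e₁ * σ e₀) (h02 : σ e₀ * σ e₂ = σ e₂ * σ e₀)
    (h03 : σ e₀ * σ e₃ = σ e₃ * σ e₀) (h12 : σ e₁ * σ e₂ = σ e₂ * σ e₁)
    (h13 : σ e₁ * σ e₃ = σ e₃ * σ e₁) (h23 : σ e₂ * σ e₃ = σ e₃ * σ e₂)
    (g0 : σ g * σ e₀ = σ e₁ * σ g) (g1 : σ g * σ e₁ = σ e₂ * σ g)
    (g2 : σ g * σ e₂ = σ e₃ * σ g) (g3 : σ g * σ e₃ = σ e₀ * σ e₁ * σ g) :
    ⁅e₀, e₁⁆ = 1 ∧ ⁅e₀, e₂⁆ = 1 ∧ ⁅e₀, e₃⁆ = 1 ∧ ⁅e₁, e₂⁆ = 1 ∧ ⁅e₁, e₃⁆ = 1 ∧ ⁅e₂, e₃⁆ = 1 := by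
  have i0 : σ e₁ = σ g * σ e₀ * (σ g)⁻¹ := by rw [g0, mul_inv_cancel_right]
  have i1 : σ e₂ = σ g * σ e₁ * (σ g)⁻¹ := by rw [g1, mul_inv_cancel_right]
  have i2 : σ e₃ = σ g * σ e₂ * (σ g)⁻¹ := by rw [g2, mul_inv_cancel_right]
  have i3 : σ (e₀ * e₁) = σ g * σ e₃ * (σ g)⁻¹ := by rw [g3, mul_inv_cancel_right, map_mul]
  -- a = ⁅e₀,e₁⁆ = ⁅e₁,e₂⁆ = ⁅e₂,e₃⁆ = ⁅e₃, e₀ e₁⁆
  have a1 : ⁅e₁, e₂⁆ = ⁅e₀, e₁⁆ := commElt_conj' σ hc g e₀ e₁ e₁ e₂ h01 i0 i1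
  have a2 : ⁅e₂, e₃⁆ = ⁅e₁, e₂⁆ := commElt_conj' σ hc g e₁ e₂ e₂ e₃ h12 i1 i2
  have a3 : ⁅e₃, e₀ * e₁⁆ = ⁅e₂, e₃⁆ := commElt_conj' σ hc g e₂ e₃ e₃ (e₀ * e₁) h23 i2 i3
  -- b = ⁅e₀,e₂⁆ = ⁅e₁,e₃⁆ = ⁅e₂, e₀ e₁⁆
  have b1 : ⁅e₁, e₃⁆ = ⁅e₀, e₂⁆ := commElt_conj' σ hc g e₀ e₂ e₁ e₃ h02 i0 i2
  have b2 : ⁅e₂, e₀ * e₁⁆ = ⁅e₁, e₃⁆ := commElt_conj' σ hc g e₁ e₃ e₂ (e₀ * e₁) h13 i1 i3
  -- d = ⁅e₀,e₃⁆ = ⁅e₁, e₀ e₁⁆
  have d1 : ⁅e₁, e₀ * e₁⁆ = ⁅e₀, e₃⁆ := commElt_conj' σ hc g e₀ e₃ e₁ (e₀ * e₁) h03 i0 i3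
  have s10 : ⁅e₁, e₀⁆ = ⁅e₀, e₁⁆⁻¹ := (commutatorElement_inv e₀ e₁).symm
  have s20 : ⁅e₂, e₀⁆ = ⁅e₀, e₂⁆⁻¹ := (commutatorElement_inv e₀ e₂).symm
  have s21 : ⁅e₂, e₁⁆ = ⁅e₁, e₂⁆⁻¹ := (commutatorElement_inv e₁ e₂).symm
  have s30 : ⁅e₃, e₀⁆ = ⁅e₀, e₃⁆⁻¹ := (commutatorElement_inv e₀ e₃).symm
  have s31 : ⁅e₃, e₁⁆ = ⁅e₁, e₃⁆⁻¹ := (commutatorElement_inv e₁ e₃).symm
  -- expand
  have d1' : ⁅e₀, e₃⁆ = ⁅e₀, e₁⁆⁻¹ := by
    have := d1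
    rw [commElt_mul_right σ hc e₁ e₀ e₁ rfl, commutatorElement_self, mul_one, s10] at this
    exact this.symm
  have b2' : ⁅e₀, e₂⁆⁻¹ * ⁅e₀, e₁⁆⁻¹ = ⁅e₀, e₂⁆ := by
    have := b2
    rw [commElt_mul_right σ hc e₂ e₀ e₁ h12.symm, s20, s21, a1, b1] at this
    exact this
  have a3' : ⁅e₀, e₁⁆ * ⁅e₀, e₂⁆⁻¹ = ⁅e₀, e₁⁆ := by
    have := a3
    rw [commElt_mul_right σ hc e₃ e₀ e₁ h13.symm, s30, s31, d1', inv_inv, b1, a2, a1] at this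
    exact this
  have hb : ⁅e₀, e₂⁆ = 1 := by
    have h := mul_left_cancel (a := ⁅e₀, e₁⁆) (b := ⁅e₀, e₂⁆⁻¹) (c := 1) (by rw [a3', mul_one])
    exact inv_eq_one.mp h
  have ha : ⁅e₀, e₁⁆ = 1 := by
    rw [hb, inv_one, one_mul] at b2'
    exact inv_eq_one.mp b2'
  have hd : ⁅e₀, e₃⁆ = 1 := by rw [d1', ha, inv_one]
  refine ⟨ha, hb, hd, by rw [a1, ha], by rw [b1, hb], by rw [a2, a1, ha]⟩

/-- If the commutators of the elements of `S` lie in a subgroup `D` whose elements commute with the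
elements of `S`, then the derived subgroup of the subgroup generated by `S` lies in `D`. -/
theorem commutator_closure_le_of_centralizing (S : Set Γ) (D : Subgroup Γ)
    (hD : ∀ d ∈ D, ∀ s ∈ S, s * d = d * s) (hS : ∀ a ∈ S, ∀ b ∈ S, ⁅a, b⁆ ∈ D) :
    ⁅closure S, closure S⁆ ≤ D := by
  -- every element of the closure commutes with `D`
  have hDN : ∀ n ∈ closure S, ∀ d ∈ D, n * d = d * n := by
    intro n hn d hd
    have : closure S ≤ centralizer (D : Set Γ) := by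
      rw [Subgroup.closure_le]
      intro s hs
      rw [SetLike.mem_coe, Subgroup.mem_centralizer_iff]
      intro d hd
      exact (hD d hd s hs).symm
    have h := Subgroup.mem_centralizer_iff.mp (this hn) d hd
    exact h.symm
  -- first: `⁅p, b⁆ ∈ D` for `p` in the closure, `b ∈ S`
  have h1 : ∀ b ∈ S, ∀ p ∈ closure S, ⁅p, b⁆ ∈ D := by
    intro b hb p hp
    induction hp using Subgroup.closure_induction with
    | mem x hx => exact hS x hx b hb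
    | one => rw [commutatorElement_one_left]; exact one_mem _
    | mul x y hx hy ihx ihy =>
      have e : ⁅x * y, b⁆ = x * ⁅y, b⁆ * x⁻¹ * ⁅x, b⁆ := by
        rw [commutatorElement_def, commutatorElement_def, commutatorElement_def]; group
      rw [e, hDN x hx _ ihy, mul_inv_cancel_right]
      exact mul_mem ihy ihx
    | inv x hx ihx =>
      have e : ⁅x⁻¹, b⁆ = x⁻¹ * (⁅x, b⁆)⁻¹ * x := by
        rw [commutatorElement_def, commutatorElement_def]; group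
      rw [e, hDN x⁻¹ (inv_mem hx) _ (inv_mem ihx), inv_mul_cancel_right]
      exact inv_mem ihx
  rw [Subgroup.commutator_le]
  intro p hp q hq
  induction hq using Subgroup.closure_induction with
  | mem x hx => exact h1 x hx p hp
  | one => rw [commutatorElement_one_right]; exact one_mem _
  | mul x y hx hy ihx ihy =>
    have e : ⁅p, x * y⁆ = ⁅p, x⁆ * (x * ⁅p, y⁆ * x⁻¹) := by
      rw [commutatorElement_def, commutatorElement_def, commutatorElement_def]; group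
    rw [e, hDN x hx _ ihy, mul_inv_cancel_right]
    exact mul_mem ihx ihy
  | inv x hx ihx =>
    have e : ⁅p, x⁻¹⁆ = x⁻¹ * (⁅p, x⁆)⁻¹ * x := by
      rw [commutatorElement_def, commutatorElement_def]; group
    rw [e, hDN x⁻¹ (inv_mem hx) _ (inv_mem ihx), inv_mul_cancel_right]
    exact inv_mem ihx

end Cfsg.Agent.Helper72.CentExt
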