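import Cfsg.Agent.Helper72.CentExtU
import Cfsg.Agent.Helper96.StemBound

/-!
# Central extensions: derived subgroups of preimages, transfer, and towers of 2-transitive groups

`dl σ X` is the derived subgroup of the preimage of `X`.  For perfect `X` inside the range it is a
perfect central extension of `X`.

* `pow_relIndex_mem_dl`: transfer from `dl σ X` into the preimage of a subgroup `U`.
* `tower`: for `G₀ = H ∪ H t H`, `H = K ∪ K s K` (all perfect), `t` an involution normalizing `K` and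
  `t s t ∈ H t H`, the kernel of `dl σ G₀ → G₀` is generated by the kernel of `dl σ H → H` and the
  square of a lift of `t`.
* `sq_lift_eq_sq`: squares of lifts of an involution `w` are squares of kernel elements, when `w`
  and a conjugate `w'` have commuting lifts and `w w'` is again a conjugate.
-/

set_option autoImplicit false

namespace Cfsg.Agent.Helper72.CentExt

open Subgroup
open scoped commutatorElement

universe u v

variable {Γ : Type u} {P : Type v} [Group Γ] [Group P]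

/-- The derived subgroup of the preimage of `X`. -/
def dl (σ : Γ →* P) (X : Subgroup P) : Subgroup Γ := ⁅X.comap σ, X.comap σ⁆

theorem dl_mono (σ : Γ →* P) {X Y : Subgroup P} (h : X ≤ Y) : dl σ X ≤ dl σ Y :=
  Subgroup.commutator_mono (Subgroup.comap_mono h) (Subgroup.comap_mono h)

theorem commutator_self_le (N : Subgroup Γ) : ⁅N, N⁆ ≤ N := by
  rw [Subgroup.commutator_le]
  intro p hp q hq
  rw [commutatorElement_def]
  exact N.mul_mem (N.mul_mem (N.mul_mem hp hq) (N.inv_mem hp)) (N.inv_mem hq)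

theorem dl_le_comap (σ : Γ →* P) (X : Subgroup P) : dl σ X ≤ X.comap σ :=
  commutator_self_le _

theorem map_dl (σ : Γ →* P) {X : Subgroup P} (hX : X ≤ σ.range) : (dl σ X).map σ = ⁅X, X⁆ := by
  rw [dl, Subgroup.map_commutator, Subgroup.map_comap_eq, inf_eq_right.mpr hX]

theorem exists_lift_mem_dl (σ : Γ →* P) {X : Subgroup P} (hX : X ≤ σ.range) (hp : ⁅X, X⁆ = X)
    {x : P} (hx : x ∈ X) : ∃ x' ∈ dl σ X, σ x' = x := by
  have : x ∈ (dl σ X).map σ := by rw [map_dl σ hX, hp]; exact hx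
  exact this

/-- Commutators only depend on images: a subgroup all of whose elements have lifts in `E` has its
derived subgroup inside that of `E`. -/
theorem commutator_le_of_lifts (σ : Γ →* P) (hc : σ.ker ≤ center Γ) (N E : Subgroup Γ)
    (h : ∀ n ∈ N, ∃ e ∈ E, σ e = σ n) : ⁅N, N⁆ ≤ ⁅E, E⁆ := by
  rw [Subgroup.commutator_le]
  intro p hp q hq
  obtain ⟨e₁, he₁, h1⟩ := h p hp
  obtain ⟨e₂, he₂, h2⟩ := h q hq
  rw [commElt_congr σ hc h1.symm h2.symm]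
  exact Subgroup.commutator_mem_commutator he₁ he₂

theorem dl_perfect (σ : Γ →* P) (hc : σ.ker ≤ center Γ) {X : Subgroup P} (hX : X ≤ σ.range)
    (hp : ⁅X, X⁆ = X) : ⁅dl σ X, dl σ X⁆ = dl σ X := by
  apply le_antisymm (commutator_self_le _)
  apply commutator_le_of_lifts σ hc
  intro n hn
  exact exists_lift_mem_dl σ hX hp hn

theorem dl_range (σ : Γ →* P) : dl σ σ.range = commutator Γ := by
  have : σ.range.comap σ = ⊤ := by
    ext x
    simp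
  rw [dl, this, commutator_def]

/-- Conjugation by a lift of an element normalizing `K` preserves `dl σ K`. -/
theorem dl_conj (σ : Γ →* P) (K : Subgroup P) (t' : Γ)
    (ht : ∀ k ∈ K, σ t' * k * (σ t')⁻¹ ∈ K) : ∀ x ∈ dl σ K, t' * x * t'⁻¹ ∈ dl σ K := by
  have h : dl σ K ≤ (dl σ K).comap (MulAut.conj t').toMonoidHom := by
    rw [dl, Subgroup.commutator_le]
    intro p hp q hq
    rw [Subgroup.mem_comap, map_commutatorElement]
    apply Subgroup.commutator_mem_commutator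
    · show σ (t' * p * t'⁻¹) ∈ K
      rw [map_mul, map_mul, map_inv]
      exact ht _ hp
    · show σ (t' * q * t'⁻¹) ∈ K
      rw [map_mul, map_mul, map_inv]
      exact ht _ hq
  intro x hx
  exact h hx

/-- Transfer from `dl σ X` into the preimage of `U`. -/
theorem pow_relIndex_mem_dl [Finite Γ] (σ : Γ →* P) (hc : σ.ker ≤ center Γ) {X : Subgroup P}
    (U : Subgroup P) (hX : X ≤ σ.range) (hp : ⁅X, X⁆ = X) {z : Γ} (hz : z ∈ σ.ker)
    (hzX : z ∈ dl σ X) : z ^ (U.relIndex X) ∈ dl σ U := by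
  have hperf := dl_perfect σ hc hX hp
  set Γ₁ : Subgroup Γ := dl σ X with hΓ₁
  have hzc : (⟨z, hzX⟩ : Γ₁) ∈ center Γ₁ := by
    rw [Subgroup.mem_center_iff]
    intro g
    apply Subtype.ext
    exact ker_comm σ hc hz g.1
  have hzd : (⟨z, hzX⟩ : Γ₁) ∈ commutator Γ₁ := by
    have h1 : z ∈ (commutator Γ₁).map Γ₁.subtype := by
      rw [Subgroup.map_subtype_commutator, hperf]; exact hzX
    obtain ⟨w, hw, hwz⟩ := h1
    have : w = ⟨z, hzX⟩ := Subtype.ext hwz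
    rw [← this]; exact hw
  have h2 := Cfsg.Agent.Helper96.StemBound.pow_index_mem_commutator
    ((U.comap σ).subgroupOf Γ₁) ⟨z, hzX⟩ hzc hzd
  have hidx : ((U.comap σ).subgroupOf Γ₁).index = U.relIndex X := by
    show (U.comap σ).relIndex Γ₁ = U.relIndex X
    rw [Subgroup.relIndex_comap, hΓ₁, map_dl σ hX, hp]
  rw [hidx] at h2
  have h3 : z ^ (U.relIndex X) ∈
      (⁅(U.comap σ).subgroupOf Γ₁, (U.comap σ).subgroupOf Γ₁⁆).map Γ₁.subtype :=
    ⟨_, h2, by simp⟩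
  rw [Subgroup.map_commutator, Subgroup.subgroupOf_map_subtype] at h3
  exact Subgroup.commutator_mono inf_le_left inf_le_left h3

/-! ### The tower lemma -/

/-- The product of a subgroup and the cyclic group generated by a central element. -/
def centralMul (N : Subgroup Γ) (c : Γ) (hcz : c ∈ center Γ) : Subgroup Γ where
  carrier := {x | ∃ h ∈ N, ∃ i : ℤ, x = h * c ^ i}
  one_mem' := ⟨1, N.one_mem, 0, by simp⟩
  mul_mem' := by
    rintro _ _ ⟨h, hh, i, rfl⟩ ⟨h', hh', j, rfl⟩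
    refine ⟨h * h', N.mul_mem hh hh', i + j, ?_⟩
    have := Subgroup.mem_center_iff.mp (Subgroup.zpow_mem _ hcz i) h'
    calc h * c ^ i * (h' * c ^ j) = h * (c ^ i * h') * c ^ j := by group
      _ = h * (h' * c ^ i) * c ^ j := by rw [this]
      _ = h * h' * c ^ (i + j) := by rw [zpow_add]; group
  inv_mem' := by
    rintro _ ⟨h, hh, i, rfl⟩
    refine ⟨h⁻¹, N.inv_mem hh, -i, ?_⟩
    have := Subgroup.mem_center_iff.mp (Subgroup.zpow_mem _ hcz (-i)) h⁻¹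
    rw [mul_inv_rev, ← zpow_neg, this]

theorem mem_centralMul {N : Subgroup Γ} {c : Γ} {hcz : c ∈ center Γ} {x : Γ} :
    x ∈ centralMul N c hcz ↔ ∃ h ∈ N, ∃ i : ℤ, x = h * c ^ i := Iff.rfl

/-- `N ∪ N t N` as a subgroup. -/
def twoCoset (N : Subgroup Γ) (t : Γ)
    (h1 : ∀ h ∈ N, t * h * t ∈ N ∨ ∃ a ∈ N, ∃ b ∈ N, t * h * t = a * t * b)
    (h2 : ∃ n ∈ N, t⁻¹ = t * n) : Subgroup Γ where
  carrier := {x | x ∈ N ∨ ∃ a ∈ N, ∃ b ∈ N, x = a * t * b}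
  one_mem' := Or.inl N.one_mem
  mul_mem' := by
    rintro x y (hx | ⟨a, ha, b, hb, rfl⟩) (hy | ⟨a', ha', b', hb', rfl⟩)
    · exact Or.inl (N.mul_mem hx hy)
    · exact Or.inr ⟨x * a', N.mul_mem hx ha', b', hb', by group⟩
    · exact Or.inr ⟨a, ha, b * y, N.mul_mem hb hy, by group⟩
    · rcases h1 (b * a') (N.mul_mem hb ha') with h | ⟨a'', ha'', b'', hb'', h⟩
      · left
        have e : a * t * b * (a' * t * b') = a * (t * (b * a') * t) * b' := by group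
        rw [e]
        exact N.mul_mem (N.mul_mem ha h) hb'
      · right
        refine ⟨a * a'', N.mul_mem ha ha'', b'' * b', N.mul_mem hb'' hb', ?_⟩
        have e : a * t * b * (a' * t * b') = a * (t * (b * a') * t) * b' := by group
        rw [e, h]; group
  inv_mem' := by
    rintro x (hx | ⟨a, ha, b, hb, rfl⟩)
    · exact Or.inl (N.inv_mem hx)
    · obtain ⟨n, hn, hnt⟩ := h2
      right
      refine ⟨b⁻¹, N.inv_mem hb, n * a⁻¹, N.mul_mem hn (N.inv_mem ha), ?_⟩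
      rw [mul_inv_rev, mul_inv_rev, hnt]; group

theorem mem_twoCoset {N : Subgroup Γ} {t : Γ}
    {h1 : ∀ h ∈ N, t * h * t ∈ N ∨ ∃ a ∈ N, ∃ b ∈ N, t * h * t = a * t * b}
    {h2 : ∃ n ∈ N, t⁻¹ = t * n} {x : Γ} :
    x ∈ twoCoset N t h1 h2 ↔ x ∈ N ∨ ∃ a ∈ N, ∃ b ∈ N, x = a * t * b := Iff.rfl

/-- The tower lemma. -/
theorem tower (σ : Γ →* P) (hc : σ.ker ≤ center Γ) (G₀ H K : Subgroup P)
    (hG₀ : G₀ ≤ σ.range) (hHG : H ≤ G₀) (hKH : K ≤ H)
    (pG : ⁅G₀, G₀⁆ = G₀) (pH : ⁅H, H⁆ = H) (pK : ⁅K, K⁆ = K)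
    (t s h₁ h₂ : P) (htG : t ∈ G₀) (htt : t * t = 1) (htH : t ∉ H)
    (htK : ∀ k ∈ K, t * k * t⁻¹ ∈ K)
    (hs : s ∈ H) (hh₁ : h₁ ∈ H) (hh₂ : h₂ ∈ H) (hrel : t * s * t = h₁ * t * h₂)
    (hGd : ∀ g ∈ G₀, g ∈ H ∨ ∃ a ∈ H, ∃ b ∈ H, g = a * t * b)
    (hHd : ∀ h ∈ H, h ∈ K ∨ ∃ a ∈ K, ∃ b ∈ K, h = a * s * b) :
    ∃ t' ∈ dl σ G₀, σ t' = t ∧ ∀ z ∈ σ.ker, z ∈ dl σ G₀ →
      ∃ b ∈ σ.ker, b ∈ dl σ H ∧ ∃ i : ℤ, z = b * (t' * t') ^ i := by
  have hH : H ≤ σ.range := hHG.trans hG₀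
  have hK : K ≤ σ.range := hKH.trans hH
  have dHG : dl σ H ≤ dl σ G₀ := dl_mono σ hHG
  have dKH : dl σ K ≤ dl σ H := dl_mono σ hKH
  obtain ⟨t₀, ht₀G, ht₀⟩ := exists_lift_mem_dl σ hG₀ pG htG
  obtain ⟨s', hs'H, hs'⟩ := exists_lift_mem_dl σ hH pH hs
  obtain ⟨k₁, hk₁H, hk₁⟩ := exists_lift_mem_dl σ hH pH hh₁
  obtain ⟨k₂, hk₂H, hk₂⟩ := exists_lift_mem_dl σ hH pH hh₂
  obtain ⟨a, ha⟩ : ∃ a, a = (k₁ * t₀ * k₂)⁻¹ * (t₀ * s' * t₀) := ⟨_, rfl⟩
  have ha_ker : a ∈ σ.ker := by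
    rw [ha, MonoidHom.mem_ker, map_mul, map_inv, map_mul, map_mul, map_mul, map_mul, ht₀, hs',
      hk₁, hk₂, hrel, inv_mul_cancel]
  have ha_G : a ∈ dl σ G₀ := by
    rw [ha]
    exact mul_mem (inv_mem (mul_mem (mul_mem (dHG hk₁H) ht₀G) (dHG hk₂H)))
      (mul_mem (mul_mem ht₀G (dHG hs'H)) ht₀G)
  have hai : ∀ g : Γ, g * a⁻¹ = a⁻¹ * g := ker_inv_comm σ hc ha_ker
  have key : t₀ * s' * t₀ = k₁ * t₀ * k₂ * a := by rw [ha]; group
  obtain ⟨t', ht'⟩ : ∃ t', t' = t₀ * a⁻¹ := ⟨_, rfl⟩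
  have ht'G : t' ∈ dl σ G₀ := by rw [ht']; exact mul_mem ht₀G (inv_mem ha_G)
  have hσt' : σ t' = t := by
    rw [ht', map_mul, map_inv, MonoidHom.mem_ker.mp ha_ker, inv_one, mul_one, ht₀]
  have rel' : t' * s' * t' = k₁ * t' * k₂ := by
    rw [ht']
    calc t₀ * a⁻¹ * s' * (t₀ * a⁻¹) = t₀ * (a⁻¹ * s') * t₀ * a⁻¹ := by group
      _ = t₀ * (s' * a⁻¹) * t₀ * a⁻¹ := by rw [← hai s']
      _ = t₀ * s' * (a⁻¹ * t₀) * a⁻¹ := by group
      _ = t₀ * s' * (t₀ * a⁻¹) * a⁻¹ := by rw [← hai t₀]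
      _ = (t₀ * s' * t₀) * a⁻¹ * a⁻¹ := by group
      _ = (k₁ * t₀ * k₂ * a) * a⁻¹ * a⁻¹ := by rw [key]
      _ = k₁ * t₀ * (k₂ * a⁻¹) := by group
      _ = k₁ * t₀ * (a⁻¹ * k₂) := by rw [hai k₂]
      _ = k₁ * (t₀ * a⁻¹) * k₂ := by group
  refine ⟨t', ht'G, hσt', ?_⟩
  -- the central element `c = t' ^ 2`
  obtain ⟨c, hcdef⟩ : ∃ c, c = t' * t' := ⟨_, rfl⟩
  have hc_ker : c ∈ σ.ker := by
    rw [hcdef, MonoidHom.mem_ker, map_mul, hσt', htt]
  have hcz : c ∈ center Γ := hc hc_ker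
  have hci_ker : ∀ i : ℤ, c ^ i ∈ σ.ker := fun i => Subgroup.zpow_mem _ hc_ker i
  have ht'inv : t'⁻¹ = t' * c⁻¹ := by rw [hcdef]; group
  have htinv : t⁻¹ = t := inv_eq_of_mul_eq_one_left htt
  -- conjugation by `t'` and its inverse preserves `dl σ K`
  have conjK : ∀ x ∈ dl σ K, t' * x * t'⁻¹ ∈ dl σ K :=
    dl_conj σ K t' (by rw [hσt']; exact htK)
  have conjK' : ∀ x ∈ dl σ K, t'⁻¹ * x * t' ∈ dl σ K := by
    have := dl_conj σ K t'⁻¹ (by rw [map_inv, hσt', htinv]; exact htK)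
    intro x hx
    have h := this x hx
    rw [inv_inv] at h
    exact h
  -- the key claim
  have KC : ∀ h' ∈ dl σ H, (∃ h ∈ dl σ H, t' * h' * t' = h * c) ∨
      ∃ h ∈ dl σ H, ∃ h'' ∈ dl σ H, t' * h' * t' = h * t' * h'' := by
    intro h' hh'
    have hσh' : σ h' ∈ H := dl_le_comap σ H hh'
    rcases hHd (σ h') hσh' with hk | ⟨a', ha', b', hb', hab⟩
    · left
      obtain ⟨k', hk'K, hk'⟩ := exists_lift_mem_dl σ hK pK hk
      obtain ⟨z, hz⟩ : ∃ z, z = k'⁻¹ * h' := ⟨_, rfl⟩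
      have hz_ker : z ∈ σ.ker := by
        rw [hz, MonoidHom.mem_ker, map_mul, map_inv, hk', inv_mul_cancel]
      have hzH : z ∈ dl σ H := by rw [hz]; exact mul_mem (inv_mem (dKH hk'K)) hh'
      refine ⟨t' * k' * t'⁻¹ * z, mul_mem (dKH (conjK k' hk'K)) hzH, ?_⟩
      have e : h' = k' * z := by rw [hz]; group
      rw [hcdef, e]
      calc t' * (k' * z) * t' = t' * k' * (z * t'⁻¹) * t' * t' := by group
        _ = t' * k' * (t'⁻¹ * z) * t' * t' := by rw [ker_comm σ hc hz_ker t'⁻¹]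
        _ = t' * k' * t'⁻¹ * z * (t' * t') := by group
    · right
      obtain ⟨a'', ha''K, ha''⟩ := exists_lift_mem_dl σ hK pK ha'
      obtain ⟨b'', hb''K, hb''⟩ := exists_lift_mem_dl σ hK pK hb'
      obtain ⟨z, hz⟩ : ∃ z, z = (a'' * s' * b'')⁻¹ * h' := ⟨_, rfl⟩
      have hz_ker : z ∈ σ.ker := by
        rw [hz, MonoidHom.mem_ker, map_mul, map_inv, map_mul, map_mul, ha'', hs', hb'', ← hab,
          inv_mul_cancel]
      have hzH : z ∈ dl σ H := by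
        rw [hz]
        exact mul_mem (inv_mem (mul_mem (mul_mem (dKH ha''K) hs'H) (dKH hb''K))) hh'
      refine ⟨t' * a'' * t'⁻¹ * k₁, mul_mem (dKH (conjK a'' ha''K)) hk₁H,
        k₂ * (t'⁻¹ * b'' * t') * z, mul_mem (mul_mem hk₂H (dKH (conjK' b'' hb''K))) hzH, ?_⟩
      have e : h' = a'' * s' * b'' * z := by rw [hz]; group
      rw [e]
      calc t' * (a'' * s' * b'' * z) * t' = t' * a'' * s' * b'' * (z * t') := by group
        _ = t' * a'' * s' * b'' * (t' * z) := by rw [ker_comm σ hc hz_ker t']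
        _ = t' * a'' * t'⁻¹ * (t' * s' * t') * (t'⁻¹ * b'' * t') * z := by group
        _ = t' * a'' * t'⁻¹ * (k₁ * t' * k₂) * (t'⁻¹ * b'' * t') * z := by rw [rel']
        _ = t' * a'' * t'⁻¹ * k₁ * t' * (k₂ * (t'⁻¹ * b'' * t') * z) := by group
  -- the subgroup `N = dl σ H · ⟨c⟩`
  let N : Subgroup Γ := centralMul (dl σ H) c hcz
  have hN1 : ∀ h ∈ N, t' * h * t' ∈ N ∨ ∃ a ∈ N, ∃ b ∈ N, t' * h * t' = a * t' * b := by
    rintro _ ⟨h, hh, i, rfl⟩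
    have hcomm := ker_comm σ hc (hci_ker i) t'
    have e : t' * (h * c ^ i) * t' = t' * h * t' * c ^ i := by
      calc t' * (h * c ^ i) * t' = t' * h * (c ^ i * t') := by group
        _ = t' * h * (t' * c ^ i) := by rw [hcomm]
        _ = t' * h * t' * c ^ i := by group
    rcases KC h hh with ⟨h₀, hh₀, e₀⟩ | ⟨h₀, hh₀, h₀', hh₀', e₀⟩
    · left
      refine ⟨h₀, hh₀, 1 + i, ?_⟩
      rw [e, e₀, zpow_add, zpow_one]; group
    · right
      refine ⟨h₀, ⟨h₀, hh₀, 0, by simp⟩, h₀' * c ^ i, ⟨h₀', hh₀', i, rfl⟩, ?_⟩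
      rw [e, e₀]; group
  have hN2 : ∃ n ∈ N, t'⁻¹ = t' * n :=
    ⟨c⁻¹, ⟨1, (dl σ H).one_mem, -1, by simp⟩, ht'inv⟩
  let E : Subgroup Γ := twoCoset N t' hN1 hN2
  have hσN : ∀ n ∈ N, σ n ∈ H := by
    rintro _ ⟨h, hh, i, rfl⟩
    rw [map_mul, MonoidHom.mem_ker.mp (hci_ker i), mul_one]
    exact dl_le_comap σ H hh
  have hHN : dl σ H ≤ N := fun h hh => ⟨h, hh, 0, by simp⟩
  -- every element of the preimage of `G₀` has a lift in `E`
  have hlift : ∀ n ∈ G₀.comap σ, ∃ e ∈ E, σ e = σ n := by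
    intro n hn
    rcases hGd (σ n) hn with h | ⟨a', ha', b', hb', hab⟩
    · obtain ⟨h', hh', e⟩ := exists_lift_mem_dl σ hH pH h
      exact ⟨h', Or.inl (hHN hh'), e⟩
    · obtain ⟨a'', ha'', ea⟩ := exists_lift_mem_dl σ hH pH ha'
      obtain ⟨b'', hb'', eb⟩ := exists_lift_mem_dl σ hH pH hb'
      refine ⟨a'' * t' * b'', Or.inr ⟨a'', hHN ha'', b'', hHN hb'', rfl⟩, ?_⟩
      rw [map_mul, map_mul, ea, eb, hσt', hab]
  have hdl : dl σ G₀ ≤ E :=
    le_trans (commutator_le_of_lifts σ hc _ E hlift) (commutator_self_le E)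
  intro z hz hzG
  rcases hdl hzG with ⟨h, hh, i, e⟩ | ⟨a', ha', b', hb', e⟩
  · refine ⟨h, ?_, hh, i, ?_⟩
    · have : h = z * (c ^ i)⁻¹ := by rw [e]; group
      rw [this]
      exact mul_mem hz (inv_mem (hci_ker i))
    · rw [← hcdef]; exact e
  · exfalso
    apply htH
    have h1 : σ a' * t * σ b' = 1 := by
      rw [← hσt', ← map_mul, ← map_mul, ← e]
      exact MonoidHom.mem_ker.mp hz
    have h2 : t = (σ a')⁻¹ * (σ b')⁻¹ := by
      calc t = (σ a')⁻¹ * (σ a' * t * σ b') * (σ b')⁻¹ := by group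
        _ = (σ a')⁻¹ * (σ b')⁻¹ := by rw [h1, mul_one]
    rw [h2]
    exact mul_mem (inv_mem (hσN a' ha')) (inv_mem (hσN b' hb'))

/-! ### Squares of lifts of involutions -/

/-- If `w` and a conjugate `w' = g w g⁻¹` have commuting lifts and `w w' = h w h⁻¹`, then the
square of every lift of every conjugate `u w u⁻¹` is the square of a kernel element. -/
theorem sq_lift_eq_sq (σ : Γ →* P) (hc : σ.ker ≤ center Γ) (w g h u t' : Γ)
    (hww : σ w * σ w = 1)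
    (hcomm : w * (g * w * g⁻¹) = (g * w * g⁻¹) * w)
    (hh : σ h * σ w * (σ h)⁻¹ = σ w * (σ g * σ w * (σ g)⁻¹))
    (ht' : σ t' = σ u * σ w * (σ u)⁻¹) :
    ∃ e ∈ σ.ker, t' * t' = e * e := by
  have hw2 : w * w ∈ σ.ker := by rw [MonoidHom.mem_ker, map_mul, hww]
  have conj_sq : ∀ k : Γ, (k * w * k⁻¹) * (k * w * k⁻¹) = w * w := by
    intro k
    calc (k * w * k⁻¹) * (k * w * k⁻¹) = k * (w * w) * k⁻¹ := by group
      _ = w * w := conj_ker σ hc hw2 k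
  -- `e₁ = (h w h⁻¹)⁻¹ * (w * (g w g⁻¹))` lies in the kernel and `w ^ 2 = e₁ ^ 2`
  obtain ⟨e₁, he₁⟩ : ∃ e₁, e₁ = (h * w * h⁻¹)⁻¹ * (w * (g * w * g⁻¹)) := ⟨_, rfl⟩
  have he₁k : e₁ ∈ σ.ker := by
    rw [he₁, MonoidHom.mem_ker, map_mul, map_inv, map_mul, map_mul, map_inv, map_mul, map_mul,
      map_mul, map_inv, hh, inv_mul_cancel]
  have e1 : w * (g * w * g⁻¹) = (h * w * h⁻¹) * e₁ := by rw [he₁]; group
  have s1 : (w * (g * w * g⁻¹)) * (w * (g * w * g⁻¹)) = (w * w) * (w * w) := by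
    calc (w * (g * w * g⁻¹)) * (w * (g * w * g⁻¹))
        = w * ((g * w * g⁻¹) * w) * (g * w * g⁻¹) := by group
      _ = w * (w * (g * w * g⁻¹)) * (g * w * g⁻¹) := by rw [hcomm]
      _ = (w * w) * ((g * w * g⁻¹) * (g * w * g⁻¹)) := by group
      _ = (w * w) * (w * w) := by rw [conj_sq g]
  have s2 : (h * w * h⁻¹ * e₁) * (h * w * h⁻¹ * e₁) = (w * w) * (e₁ * e₁) := by
    calc (h * w * h⁻¹ * e₁) * (h * w * h⁻¹ * e₁)
        = h * w * h⁻¹ * (e₁ * (h * w * h⁻¹)) * e₁ := by group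
      _ = h * w * h⁻¹ * ((h * w * h⁻¹) * e₁) * e₁ := by rw [← ker_comm σ hc he₁k]
      _ = ((h * w * h⁻¹) * (h * w * h⁻¹)) * (e₁ * e₁) := by group
      _ = (w * w) * (e₁ * e₁) := by rw [conj_sq h]
  have s3 : w * w = e₁ * e₁ := by
    rw [e1, s2] at s1
    exact (mul_left_cancel s1).symm
  -- now the lift `t'`
  obtain ⟨e₂, he₂⟩ : ∃ e₂, e₂ = (u * w * u⁻¹)⁻¹ * t' := ⟨_, rfl⟩
  have he₂k : e₂ ∈ σ.ker := by
    rw [he₂, MonoidHom.mem_ker, map_mul, map_inv, map_mul, map_mul, map_inv, ht', inv_mul_cancel]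
  have e2 : t' = (u * w * u⁻¹) * e₂ := by rw [he₂]; group
  refine ⟨e₁ * e₂, mul_mem he₁k he₂k, ?_⟩
  calc t' * t' = (u * w * u⁻¹ * e₂) * (u * w * u⁻¹ * e₂) := by rw [← e2]
    _ = u * w * u⁻¹ * (e₂ * (u * w * u⁻¹)) * e₂ := by group
    _ = u * w * u⁻¹ * ((u * w * u⁻¹) * e₂) * e₂ := by rw [← ker_comm σ hc he₂k]
    _ = ((u * w * u⁻¹) * (u * w * u⁻¹)) * (e₂ * e₂) := by group
    _ = (e₁ * e₁) * (e₂ * e₂) := by rw [conj_sq u, s3]
    _ = e₁ * (e₁ * e₂) * e₂ := by group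
    _ = e₁ * (e₂ * e₁) * e₂ := by rw [ker_comm σ hc he₂k e₁]
    _ = (e₁ * e₂) * (e₁ * e₂) := by group

/-! ### Odd order -/

/-- If `m`-th powers in `A` are squares in `A`, then `m ^ j`-th powers are `2 ^ j`-th powers. -/
theorem pow_pow_eq_pow_two_pow (A : Subgroup Γ) (m : ℕ)
    (h : ∀ z ∈ A, ∃ e ∈ A, z ^ m = e ^ 2) (j : ℕ) :
    ∀ z ∈ A, ∃ f ∈ A, z ^ (m ^ j) = f ^ (2 ^ j) := by
  induction j with
  | zero =>
    intro z hz
    exact ⟨z, hz, by simp⟩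
  | succ j ih =>
    intro z hz
    obtain ⟨f, hf, e1⟩ := ih z hz
    obtain ⟨e, he, e2⟩ := h f hf
    refine ⟨e, he, ?_⟩
    rw [pow_succ, pow_mul, e1, ← pow_mul, mul_comm, pow_mul, e2, ← pow_mul, ← pow_succ']

end Cfsg.Agent.Helper72.CentExt
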