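import Cfsg.Agent.Helper72.CentExtDl
import Cfsg.Prelude.Def_KGroupFacts

/-!
# Central extensions: assembling the tower argument

* `exists_sq_of_tower`: combination of the tower lemma, two transfers, the `U`-lemma and the
  square lemma: a fixed odd power of every kernel element is a square of a kernel element.
* `restrictDl`: the restriction `dl σ H → H`, a stem extension when `H` is perfect.
-/

set_option autoImplicit false

namespace Cfsg.Agent.Helper72.CentExt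

open Subgroup
open scoped commutatorElement

universe u v

variable {Γ : Type u} {P : Type v} [Group Γ] [Group P]

theorem exists_sq_of_tower (σ : Γ →* P) (hc : σ.ker ≤ center Γ) (n₁ n₂ : ℕ)
    (G₀ H U : Subgroup P) (t' : Γ)
    (hT : ∀ z ∈ σ.ker, z ∈ dl σ G₀ → ∃ b ∈ σ.ker, b ∈ dl σ H ∧ ∃ i : ℤ, z = b * (t' * t') ^ i)
    (h1 : ∀ z ∈ σ.ker, z ^ n₁ ∈ dl σ G₀)
    (h2 : ∀ b ∈ σ.ker, b ∈ dl σ H → b ^ n₂ ∈ dl σ U)
    (hU : ∀ w ∈ dl σ U, σ w = 1 → w = 1)
    (hq : ∃ e ∈ σ.ker, t' * t' = e * e) :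
    ∀ z ∈ σ.ker, ∃ e ∈ σ.ker, z ^ (n₁ * n₂) = e ^ 2 := by
  intro z hz
  obtain ⟨e₀, he₀, hsq⟩ := hq
  obtain ⟨b, hb, hbH, i, hzb⟩ := hT (z ^ n₁) (pow_mem hz n₁) (h1 z hz)
  have hb1 : b ^ n₂ = 1 :=
    hU _ (h2 b hb hbH) (MonoidHom.mem_ker.mp (pow_mem hb n₂))
  have hci : (t' * t') ^ i ∈ σ.ker := by
    rw [hsq]
    exact Subgroup.zpow_mem _ (mul_mem he₀ he₀) i
  have hcomm : Commute b ((t' * t') ^ i) := (ker_comm σ hc hci b)
  refine ⟨(e₀ ^ i) ^ n₂, pow_mem (Subgroup.zpow_mem _ he₀ i) n₂, ?_⟩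
  have k1 : (e₀ ^ 2) ^ i = (e₀ ^ i) ^ 2 := by
    rw [← zpow_natCast, ← zpow_natCast, ← zpow_mul, ← zpow_mul, mul_comm]
  rw [pow_mul, hzb, hcomm.mul_pow, hb1, one_mul, hsq, ← pow_two, k1, ← pow_mul, ← pow_mul,
    mul_comm]

theorem commutator_subtype_eq_top (N : Subgroup Γ) (h : ⁅N, N⁆ = N) : commutator N = ⊤ := by
  rw [eq_top_iff]
  intro x _
  have h1 : (x : Γ) ∈ (commutator N).map N.subtype := by
    rw [Subgroup.map_subtype_commutator, h]; exact x.2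
  obtain ⟨w, hw, hwx⟩ := h1
  have : w = x := Subtype.ext hwx
  rw [← this]; exact hw

/-- The restriction `dl σ H → H`. -/
def restrictDl (σ : Γ →* P) (H : Subgroup P) : ↥(dl σ H) →* ↥H :=
  (σ.comp (dl σ H).subtype).codRestrict H (fun x => dl_le_comap σ H x.2)

theorem restrictDl_apply (σ : Γ →* P) (H : Subgroup P) (x : ↥(dl σ H)) :
    ((restrictDl σ H x : ↥H) : P) = σ x.1 := rfl

theorem isStemExtension_restrictDl (σ : Γ →* P) (hc : σ.ker ≤ center Γ) {H : Subgroup P}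
    (hH : H ≤ σ.range) (pH : ⁅H, H⁆ = H) : Cfsg.IsStemExtension (restrictDl σ H) := by
  refine ⟨?_, ?_, ?_⟩
  · rintro ⟨h, hh⟩
    obtain ⟨x, hx, e⟩ := exists_lift_mem_dl σ hH pH hh
    exact ⟨⟨x, hx⟩, Subtype.ext e⟩
  · intro x hx
    have hx' : σ x.1 = 1 := by
      have := congrArg Subtype.val (MonoidHom.mem_ker.mp hx)
      simpa [restrictDl_apply] using this
    rw [Subgroup.mem_center_iff]
    intro g
    apply Subtype.ext
    exact ker_comm σ hc (MonoidHom.mem_ker.mpr hx') g.1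
  · rw [commutator_subtype_eq_top _ (dl_perfect σ hc hH pH)]
    exact le_top

/-- If all stem extensions of `H` (in the universe of `Γ`) are trivial, the kernel meets `dl σ H`
trivially. -/
theorem eq_one_of_mem_dl (σ : Γ →* P) (hc : σ.ker ≤ center Γ) {H : Subgroup P}
    (hH : H ≤ σ.range) (pH : ⁅H, H⁆ = H)
    (hstem : ∀ (Γ' : Type u) [Group Γ'] (τ : Γ' →* ↥H), Cfsg.IsStemExtension τ → τ.ker = ⊥)
    {b : Γ} (hb : b ∈ σ.ker) (hbH : b ∈ dl σ H) : b = 1 := by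
  have h := hstem ↥(dl σ H) (restrictDl σ H) (isStemExtension_restrictDl σ hc hH pH)
  have hb' : (⟨b, hbH⟩ : ↥(dl σ H)) ∈ (restrictDl σ H).ker := by
    rw [MonoidHom.mem_ker]
    apply Subtype.ext
    rw [restrictDl_apply]
    exact MonoidHom.mem_ker.mp hb
  rw [h, Subgroup.mem_bot] at hb'
  exact congrArg Subtype.val hb'

end Cfsg.Agent.Helper72.CentExt
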