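import Cfsg.Agent.Helper72.CentExtSyl
import Cfsg.Agent.Helper72.CentExtFin

/-!
# Central extensions: the lifting lemmas with hypotheses stated in the image

The same statements as in `CentExtAb`, `CentExtU`, `CentExtSyl`, `CentExtDl`, with the hypotheses
expressed by relations between elements of the range of `σ`.
-/

set_option autoImplicit false

namespace Cfsg.Agent.Helper72.CentExt

open Subgroup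
open scoped commutatorElement

universe u v

variable {Γ : Type u} {P : Type v} [Group Γ] [Group P]

theorem abelian_eightFix (σ : Γ →* P) (hc : σ.ker ≤ center Γ) {g v a b c : P}
    (hg : g ∈ σ.range) (hv : v ∈ σ.range) (ha : a ∈ σ.range) (hb : b ∈ σ.range) (hc' : c ∈ σ.range)
    (hab : a * b = b * a) (hbc : b * c = c * b) (hca : c * a = a * c)
    (hva : v * a = a * v) (hvb : v * b = b * v) (hvc : v * c = c * v)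
    (h1 : g * a = b * g) (h2 : g * b = c * g) (h3 : g * c = a * c * g) (h4 : g * v = v * g)
    (V : Subgroup P) (hV : ∀ x ∈ V, x ∈ closure ({v, a, b, c} : Set P)) :
    ∀ p ∈ V.comap σ, ∀ q ∈ V.comap σ, p * q = q * p := by
  obtain ⟨g', rfl⟩ := hg
  obtain ⟨v', rfl⟩ := hv
  obtain ⟨a', rfl⟩ := ha
  obtain ⟨b', rfl⟩ := hb
  obtain ⟨c'', rfl⟩ := hc'
  obtain ⟨k1, k2, k3, k4, k5, k6⟩ :=
    eightFix_lifts σ hc g' v' a' b' c'' hab hbc hca hva hvb hvc h1 h2 h3 h4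
  exact abelian_of_four σ hc v' a' b' c'' k1 k2 k3 k4 k5 k6 V hV

theorem abelian_singer (σ : Γ →* P) (hc : σ.ker ≤ center Γ) {g e₀ e₁ e₂ e₃ : P}
    (hg : g ∈ σ.range) (m0 : e₀ ∈ σ.range) (m1 : e₁ ∈ σ.range) (m2 : e₂ ∈ σ.range)
    (m3 : e₃ ∈ σ.range)
    (h01 : e₀ * e₁ = e₁ * e₀) (h02 : e₀ * e₂ = e₂ * e₀) (h03 : e₀ * e₃ = e₃ * e₀)
    (h12 : e₁ * e₂ = e₂ * e₁) (h13 : e₁ * e₃ = e₃ * e₁) (h23 : e₂ * e₃ = e₃ * e₂)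
    (g0 : g * e₀ = e₁ * g) (g1 : g * e₁ = e₂ * g) (g2 : g * e₂ = e₃ * g)
    (g3 : g * e₃ = e₀ * e₁ * g)
    (V : Subgroup P) (hV : ∀ x ∈ V, x ∈ closure ({e₀, e₁, e₂, e₃} : Set P)) :
    ∀ p ∈ V.comap σ, ∀ q ∈ V.comap σ, p * q = q * p := by
  obtain ⟨g', rfl⟩ := hg
  obtain ⟨a₀, rfl⟩ := m0
  obtain ⟨a₁, rfl⟩ := m1
  obtain ⟨a₂, rfl⟩ := m2
  obtain ⟨a₃, rfl⟩ := m3
  obtain ⟨k01, k02, k03, k12, k13, k23⟩ :=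
    singer_lifts σ hc g' a₀ a₁ a₂ a₃ h01 h02 h03 h12 h13 h23 g0 g1 g2 g3
  -- order the generators as `a₀, a₁, a₂, a₃`: `v = a₀`, `a = a₁`, `b = a₂`, `c = a₃`
  exact abelian_of_four σ hc a₀ a₁ a₂ a₃ k12 k23 (commElt_swap_eq_one k13) k01 k02 k03 V hV

theorem abelian_twist (σ : Γ →* P) (hc : σ.ker ≤ center Γ) {g x y : P}
    (hg : g ∈ σ.range) (hx : x ∈ σ.range) (hy : y ∈ σ.range)
    (hxy : x * y = y * x) (hgx : g * x * g⁻¹ = x⁻¹) (hgy : g * y * g⁻¹ = y)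
    (hx3 : x * x * x = 1)
    (V : Subgroup P) (hV : ∀ u ∈ V, u ∈ closure ({x, y} : Set P)) :
    ∀ p ∈ V.comap σ, ∀ q ∈ V.comap σ, p * q = q * p := by
  obtain ⟨g', rfl⟩ := hg
  obtain ⟨x', rfl⟩ := hx
  obtain ⟨y', rfl⟩ := hy
  exact abelian_of_two σ hc x' y' (twist_lifts σ hc g' x' y' hxy hgx hgy hx3) V hV

theorem abelian_zpowers (σ : Γ →* P) (hc : σ.ker ≤ center Γ) {x : P} (hx : x ∈ σ.range) :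
    ∀ p ∈ (zpowers x).comap σ, ∀ q ∈ (zpowers x).comap σ, p * q = q * p := by
  obtain ⟨x', rfl⟩ := hx
  exact abelian_of_zpowers σ hc x'

theorem extraspecial_down (σ : Γ →* P) (hc : σ.ker ≤ center Γ) (Q : Subgroup P) {g x y : P}
    (hg : g ∈ σ.range) (hx : x ∈ σ.range) (hy : y ∈ σ.range)
    (hQ : ∀ u ∈ Q, u ∈ closure ({x, y} : Set P))
    (hzx : ⁅x, y⁆ * x = x * ⁅x, y⁆) (hzy : ⁅x, y⁆ * y = y * ⁅x, y⁆)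
    (hx3 : x * x * x = 1) (hy3 : y * y * y = 1) (hz1 : ⁅x, y⁆ ≠ 1)
    (hgx : g * x * g⁻¹ = x⁻¹) (hgy : g * y * g⁻¹ = y⁻¹) (hgz : g * ⁅x, y⁆ * g⁻¹ = ⁅x, y⁆) :
    ∀ w ∈ dl σ Q, σ w = 1 → w = 1 := by
  obtain ⟨g', rfl⟩ := hg
  obtain ⟨x', rfl⟩ := hx
  obtain ⟨y', rfl⟩ := hy
  exact extraspecial_lemma σ hc Q g' x' y' hQ hzx hzy hx3 hy3 hz1 hgx hgy hgz

theorem u_lemma_down (σ : Γ →* P) (hc : σ.ker ≤ center Γ) (V₁ V₂ Z : Subgroup P)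
    (hV₁ : ∀ p ∈ V₁.comap σ, ∀ q ∈ V₁.comap σ, p * q = q * p)
    (hV₂ : ∀ p ∈ V₂.comap σ, ∀ q ∈ V₂.comap σ, p * q = q * p)
    (hZV₁ : Z ≤ V₁) (hZV₂ : Z ≤ V₂) (U : Subgroup P) {x₁ x₂ y₁ y₂ g : P}
    (mx₁ : x₁ ∈ σ.range) (mx₂ : x₂ ∈ σ.range) (my₁ : y₁ ∈ σ.range) (my₂ : y₂ ∈ σ.range)
    (mg : g ∈ σ.range)
    (hx₁ : x₁ ∈ V₁) (hx₂ : x₂ ∈ V₁) (hy₁ : y₁ ∈ V₂) (hy₂ : y₂ ∈ V₂)
    (hU : ∀ u ∈ U, ∃ (i j k l : ℕ) (ζ : P), ζ ∈ Z ∧ u = x₁ ^ i * x₂ ^ j * y₁ ^ k * y₂ ^ l * ζ)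
    (h11 : ⁅x₁, y₁⁆ ∈ Z) (h12 : ⁅x₁, y₂⁆ ∈ Z) (h21 : ⁅x₂, y₁⁆ ∈ Z) (h22 : ⁅x₂, y₂⁆ ∈ Z)
    (hxs₁ : x₁ * x₁ = 1) (hxs₂ : x₂ * x₂ = 1)
    (hZ : ∀ ζ ∈ Z, g * ζ = ζ * g ∧ ζ * ζ = 1)
    (hg3 : g * g * g = 1)
    (hgx₁ : ∃ ζ ∈ Z, g * x₁ * g⁻¹ = x₂ * ζ)
    (hgx₂ : ∃ ζ ∈ Z, g * x₂ * g⁻¹ = x₁ * x₂ * ζ)
    (hgy₁ : ∃ ζ ∈ Z, g * y₁ * g⁻¹ = y₂ * ζ)
    (hgy₂ : ∃ ζ ∈ Z, g * y₂ * g⁻¹ = y₁ * y₂ * ζ)
    (hind₁ : ⁅x₁, y₁⁆ ≠ 1) (hind₂ : ⁅x₂, y₁⁆ ≠ 1) (hind₃ : ⁅x₁, y₁⁆ * ⁅x₂, y₁⁆ ≠ 1) :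
    ∀ w ∈ dl σ U, σ w = 1 → w = 1 := by
  obtain ⟨a₁, rfl⟩ := mx₁
  obtain ⟨a₂, rfl⟩ := mx₂
  obtain ⟨b₁, rfl⟩ := my₁
  obtain ⟨b₂, rfl⟩ := my₂
  obtain ⟨g', rfl⟩ := mg
  exact u_lemma σ hc V₁ V₂ Z hV₁ hV₂ hZV₁ hZV₂ U a₁ a₂ b₁ b₂ g' hx₁ hx₂ hy₁ hy₂ hU h11 h12 h21 h22
    hxs₁ hxs₂ hZ hg3 hgx₁ hgx₂ hgy₁ hgy₂ hind₁ hind₂ hind₃

/-- Squares of lifts of the involution `u w u⁻¹`. -/
theorem sq_lift_down (σ : Γ →* P) (hc : σ.ker ≤ center Γ) (V : Subgroup P)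
    (hV : ∀ p ∈ V.comap σ, ∀ q ∈ V.comap σ, p * q = q * p) {w g h u : P}
    (mw : w ∈ σ.range) (mg : g ∈ σ.range) (mh : h ∈ σ.range) (mu : u ∈ σ.range)
    (hwV : w ∈ V) (hgwV : g * w * g⁻¹ ∈ V) (hww : w * w = 1)
    (hh : h * w * h⁻¹ = w * (g * w * g⁻¹)) (t' : Γ) (ht' : σ t' = u * w * u⁻¹) :
    ∃ e ∈ σ.ker, t' * t' = e * e := by
  obtain ⟨w', rfl⟩ := mw
  obtain ⟨g', rfl⟩ := mg
  obtain ⟨h', rfl⟩ := mh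
  obtain ⟨u', rfl⟩ := mu
  refine sq_lift_eq_sq σ hc w' g' h' u' t' hww ?_ hh ht'
  apply hV
  · exact hwV
  · show σ (g' * w' * g'⁻¹) ∈ V
    rw [map_mul, map_mul, map_inv]
    exact hgwV

/-- Kernel elements are killed by the relative index of a subgroup with abelian preimage. -/
theorem pow_relIndex_eq_one [Finite Γ] (σ : Γ →* P) (hc : σ.ker ≤ center Γ)
    (hst : σ.ker ≤ commutator Γ) (hp : ⁅σ.range, σ.range⁆ = σ.range) (V : Subgroup P)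
    (hV : ∀ p ∈ V.comap σ, ∀ q ∈ V.comap σ, p * q = q * p) {z : Γ} (hz : z ∈ σ.ker) :
    z ^ (V.relIndex σ.range) = 1 := by
  have h := pow_relIndex_mem_dl σ hc V le_rfl hp hz (by rw [dl_range]; exact hst hz)
  rw [dl_eq_bot_of_abelian σ V hV, Subgroup.mem_bot] at h
  exact h

end Cfsg.Agent.Helper72.CentExt
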