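import Cfsg.Agent.Helper72.CentExtDl

/-!
# Central extensions: preimages of some small subgroups

Closure-level versions of the lifting lemmas, the twisting argument for `3²`, and the extraspecial
group of order `27` with an inverting involution.
-/

set_option autoImplicit false

namespace Cfsg.Agent.Helper72.CentExt

open Subgroup
open scoped commutatorElement

universe u v

variable {Γ : Type u} {P : Type v} [Group Γ] [Group P]

/-- Preimage of a subgroup of `⟨σ v, σ a, σ b, σ c⟩` is abelian when the lifts commute. -/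
theorem abelian_of_four (σ : Γ →* P) (hc : σ.ker ≤ center Γ) (v a b c : Γ)
    (hab : ⁅a, b⁆ = 1) (hbc : ⁅b, c⁆ = 1) (hca : ⁅c, a⁆ = 1)
    (hva : ⁅v, a⁆ = 1) (hvb : ⁅v, b⁆ = 1) (hvc : ⁅v, c⁆ = 1)
    (V : Subgroup P) (hV : ∀ x ∈ V, x ∈ closure ({σ v, σ a, σ b, σ c} : Set P)) :
    ∀ p ∈ V.comap σ, ∀ q ∈ V.comap σ, p * q = q * p := by
  have c1 := commutatorElement_eq_one_iff_mul_comm.mp hab
  have c2 := commutatorElement_eq_one_iff_mul_comm.mp hbc
  have c3 := commutatorElement_eq_one_iff_mul_comm.mp hca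
  have c4 := commutatorElement_eq_one_iff_mul_comm.mp hva
  have c5 := commutatorElement_eq_one_iff_mul_comm.mp hvb
  have c6 := commutatorElement_eq_one_iff_mul_comm.mp hvc
  have hℓ : ∀ i j : Fin 4, (![v, a, b, c] : Fin 4 → Γ) i * (![v, a, b, c] : Fin 4 → Γ) j =
      (![v, a, b, c] : Fin 4 → Γ) j * (![v, a, b, c] : Fin 4 → Γ) i := by
    intro i j
    fin_cases i <;> fin_cases j <;> simp <;>
      first | exact c1 | exact c2 | exact c3 | exact c4 | exact c5 | exact c6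
            | exact c1.symm | exact c2.symm | exact c3.symm | exact c4.symm | exact c5.symm
            | exact c6.symm
  have key := comm_of_mem_comap_closure σ hc (![v, a, b, c] : Fin 4 → Γ) hℓ
  have hle : closure ({σ v, σ a, σ b, σ c} : Set P) ≤
      closure (Set.range (fun i : Fin 4 => σ ((![v, a, b, c] : Fin 4 → Γ) i))) := by
    apply Subgroup.closure_mono
    intro x hx
    simp only [Set.mem_insert_iff, Set.mem_singleton_iff] at hx
    rcases hx with rfl | rfl | rfl | rfl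
    · exact ⟨0, rfl⟩
    · exact ⟨1, rfl⟩
    · exact ⟨2, rfl⟩
    · exact ⟨3, rfl⟩
  intro p hp q hq
  exact key p (hle (hV _ hp)) q (hle (hV _ hq))

/-- Preimage of a subgroup of `⟨σ x, σ y⟩` is abelian when the lifts commute. -/
theorem abelian_of_two (σ : Γ →* P) (hc : σ.ker ≤ center Γ) (x y : Γ) (hxy : ⁅x, y⁆ = 1)
    (V : Subgroup P) (hV : ∀ u ∈ V, u ∈ closure ({σ x, σ y} : Set P)) :
    ∀ p ∈ V.comap σ, ∀ q ∈ V.comap σ, p * q = q * p := by
  have c1 := commutatorElement_eq_one_iff_mul_comm.mp hxy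
  have hℓ : ∀ i j : Fin 2, (![x, y] : Fin 2 → Γ) i * (![x, y] : Fin 2 → Γ) j =
      (![x, y] : Fin 2 → Γ) j * (![x, y] : Fin 2 → Γ) i := by
    intro i j
    fin_cases i <;> fin_cases j <;> simp <;> first | exact c1 | exact c1.symm
  have key := comm_of_mem_comap_closure σ hc (![x, y] : Fin 2 → Γ) hℓ
  have hle : closure ({σ x, σ y} : Set P) ≤
      closure (Set.range (fun i : Fin 2 => σ ((![x, y] : Fin 2 → Γ) i))) := by
    apply Subgroup.closure_mono
    intro u hu
    simp only [Set.mem_insert_iff, Set.mem_singleton_iff] at hu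
    rcases hu with rfl | rfl
    · exact ⟨0, rfl⟩
    · exact ⟨1, rfl⟩
  intro p hp q hq
  exact key p (hle (hV _ hp)) q (hle (hV _ hq))

/-- Preimage of a cyclic subgroup is abelian. -/
theorem abelian_of_zpowers (σ : Γ →* P) (hc : σ.ker ≤ center Γ) (x : Γ) :
    ∀ p ∈ (zpowers (σ x)).comap σ, ∀ q ∈ (zpowers (σ x)).comap σ, p * q = q * p := by
  apply abelian_of_two σ hc x x (commutatorElement_self x)
  intro u hu
  rw [Subgroup.mem_zpowers_iff] at hu
  obtain ⟨k, rfl⟩ := hu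
  exact Subgroup.zpow_mem _ (subset_closure (by simp)) k

/-- `dl σ V` is trivial when the preimage of `V` is abelian. -/
theorem dl_eq_bot_of_abelian (σ : Γ →* P) (V : Subgroup P)
    (h : ∀ p ∈ V.comap σ, ∀ q ∈ V.comap σ, p * q = q * p) : dl σ V = ⊥ := by
  rw [dl, eq_bot_iff, Subgroup.commutator_le]
  intro p hp q hq
  rw [Subgroup.mem_bot, commutatorElement_eq_one_iff_mul_comm]
  exact h p hp q hq

/-- The twisting argument: `σ g` inverts `σ x` and centralizes `σ y`, `σ x ^ 3 = 1`. -/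
theorem twist_lifts (σ : Γ →* P) (hc : σ.ker ≤ center Γ) (g x y : Γ)
    (hxy : σ x * σ y = σ y * σ x) (hgx : σ g * σ x * (σ g)⁻¹ = (σ x)⁻¹)
    (hgy : σ g * σ y * (σ g)⁻¹ = σ y) (hx3 : σ x * σ x * σ x = 1) : ⁅x, y⁆ = 1 := by
  have e1 : ⁅x⁻¹, y⁆ = ⁅x, y⁆ :=
    commElt_conj' σ hc g x y x⁻¹ y hxy (by rw [map_inv, hgx]) hgy.symm
  have e2 : ⁅x⁻¹ * x, y⁆ = ⁅x⁻¹, y⁆ * ⁅x, y⁆ := commElt_mul_left σ hc x⁻¹ x y hxy
  rw [inv_mul_cancel, commutatorElement_one_left, e1] at e2
  have e3 : ⁅x * x * x, y⁆ = ⁅x, y⁆ * ⁅x, y⁆ * ⁅x, y⁆ := by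
    rw [commElt_mul_left σ hc (x * x) x y hxy, commElt_mul_left σ hc x x y hxy]
  have e4 : ⁅x * x * x, y⁆ = 1 := by
    apply commElt_ker_left σ hc
    rw [MonoidHom.mem_ker, map_mul, map_mul, hx3]
  rw [e4, ← e2, one_mul] at e3
  exact e3.symm

/-- The extraspecial group of order `27`: `σ g` inverts `σ x` and `σ y` and centralizes
`⁅σ x, σ y⁆`, which is central in `⟨σ x, σ y⟩` and nontrivial; `σ x`, `σ y` have order three. -/
theorem extraspecial_lemma (σ : Γ →* P) (hc : σ.ker ≤ center Γ) (Q : Subgroup P) (g x y : Γ)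
    (hQ : ∀ u ∈ Q, u ∈ closure ({σ x, σ y} : Set P))
    (hzx : ⁅σ x, σ y⁆ * σ x = σ x * ⁅σ x, σ y⁆) (hzy : ⁅σ x, σ y⁆ * σ y = σ y * ⁅σ x, σ y⁆)
    (hx3 : σ x * σ x * σ x = 1) (hy3 : σ y * σ y * σ y = 1)
    (hz1 : ⁅σ x, σ y⁆ ≠ 1)
    (hgx : σ g * σ x * (σ g)⁻¹ = (σ x)⁻¹) (hgy : σ g * σ y * (σ g)⁻¹ = (σ y)⁻¹)
    (hgz : σ g * ⁅σ x, σ y⁆ * (σ g)⁻¹ = ⁅σ x, σ y⁆) :
    ∀ w ∈ dl σ Q, σ w = 1 → w = 1 := by
  obtain ⟨z, hz⟩ : ∃ z, z = ⁅x, y⁆ := ⟨_, rfl⟩
  have σz : σ z = ⁅σ x, σ y⁆ := by rw [hz, map_commutatorElement]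
  have cxz : σ x * σ z = σ z * σ x := by rw [σz]; exact hzx.symm
  have cyz : σ y * σ z = σ z * σ y := by rw [σz]; exact hzy.symm
  have hgz' : σ z = σ g * σ z * (σ g)⁻¹ := by rw [σz]; exact hgz.symm
  -- a generic computation: an element inverted by `g` and of order three has trivial commutator
  have triv : ∀ p : Γ, σ p * σ z = σ z * σ p → σ g * σ p * (σ g)⁻¹ = (σ p)⁻¹ →
      σ p * σ p * σ p = 1 → ⁅p, z⁆ = 1 := by
    intro p hpz hgp hp3
    have e1 : ⁅p⁻¹, z⁆ = ⁅p, z⁆ :=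
      commElt_conj' σ hc g p z p⁻¹ z hpz (by rw [map_inv, hgp]) hgz'
    have e2 : ⁅p⁻¹ * p, z⁆ = ⁅p⁻¹, z⁆ * ⁅p, z⁆ := commElt_mul_left σ hc p⁻¹ p z hpz
    rw [inv_mul_cancel, commutatorElement_one_left, e1] at e2
    have e3 : ⁅p * p * p, z⁆ = ⁅p, z⁆ * ⁅p, z⁆ * ⁅p, z⁆ := by
      rw [commElt_mul_left σ hc (p * p) p z hpz, commElt_mul_left σ hc p p z hpz]
    have e4 : ⁅p * p * p, z⁆ = 1 := by
      apply commElt_ker_left σ hc
      rw [MonoidHom.mem_ker, map_mul, map_mul, hp3]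
    rw [e4, ← e2, one_mul] at e3
    exact e3.symm
  have hxz : x * z = z * x := commutatorElement_eq_one_iff_mul_comm.mp (triv x cxz hgx hx3)
  have hyz : y * z = z * y := commutatorElement_eq_one_iff_mul_comm.mp (triv y cyz hgy hy3)
  -- `z ^ 3 = 1`
  have hz3 : z * z * z = 1 := by
    have h1 : ⁅x * x, y⁆ = z * z := by
      rw [hz]
      exact commElt_mul_left_of_comm x x y (by rw [← hz]; exact hxz)
    have h2 : ⁅x * (x * x), y⁆ = z * z * z := by
      rw [commElt_mul_left_of_comm x (x * x) y (by rw [h1, ← mul_assoc, hxz, mul_assoc, hxz,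
        ← mul_assoc]), h1, ← hz]
    have h3 : ⁅x * (x * x), y⁆ = 1 := by
      apply commElt_ker_left σ hc
      rw [MonoidHom.mem_ker, map_mul, map_mul, ← mul_assoc, hx3]
    rw [← h2, h3]
  -- the derived subgroup of the preimage lies in `⟨z⟩`
  let S : Set Γ := ({x, y} : Set Γ) ∪ (σ.ker : Set Γ)
  have hle : Q.comap σ ≤ closure S := by
    intro h hh
    have hsub : closure ({σ x, σ y} : Set P) ≤ (closure S).map σ := by
      rw [Subgroup.closure_le]
      intro u hu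
      simp only [Set.mem_insert_iff, Set.mem_singleton_iff] at hu
      rcases hu with rfl | rfl
      · exact ⟨x, subset_closure (Or.inl (by simp)), rfl⟩
      · exact ⟨y, subset_closure (Or.inl (by simp)), rfl⟩
    obtain ⟨k, hk, hkh⟩ := hsub (hQ _ hh)
    have hker : k⁻¹ * h ∈ σ.ker := by
      rw [MonoidHom.mem_ker, map_mul, map_inv, hkh, inv_mul_cancel]
    have e : h = k * (k⁻¹ * h) := by group
    rw [e]
    exact mul_mem hk (subset_closure (Or.inr hker))
  have hDS : ∀ d ∈ zpowers z, ∀ s ∈ S, s * d = d * s := by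
    intro d hd s hs
    rw [Subgroup.mem_zpowers_iff] at hd
    obtain ⟨k, rfl⟩ := hd
    have hsz : s * z = z * s := by
      rcases hs with hs | hs
      · simp only [Set.mem_insert_iff, Set.mem_singleton_iff] at hs
        rcases hs with rfl | rfl
        · exact hxz
        · exact hyz
      · exact (ker_comm σ hc hs z).symm
    exact ((Commute.zpow_right (show Commute s z from hsz) k)).eq
  have hSS : ∀ s ∈ S, ∀ s' ∈ S, ⁅s, s'⁆ ∈ zpowers z := by
    rintro s (hs | hs) s' (hs' | hs')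
    · simp only [Set.mem_insert_iff, Set.mem_singleton_iff] at hs hs'
      rcases hs with rfl | rfl <;> rcases hs' with rfl | rfl
      · rw [commutatorElement_self]; exact one_mem _
      · rw [← hz]; exact Subgroup.mem_zpowers z
      · rw [← commutatorElement_inv, ← hz]; exact inv_mem (Subgroup.mem_zpowers z)
      · rw [commutatorElement_self]; exact one_mem _
    · rw [commElt_ker_right σ hc hs' s]; exact one_mem _
    · rw [commElt_ker_left σ hc hs s']; exact one_mem _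
    · rw [commElt_ker_left σ hc hs s']; exact one_mem _
  have hfin : dl σ Q ≤ zpowers z :=
    le_trans (Subgroup.commutator_mono hle hle)
      (commutator_closure_le_of_centralizing S (zpowers z) hDS hSS)
  intro w hw hw1
  obtain ⟨k, rfl⟩ := Subgroup.mem_zpowers_iff.mp (hfin hw)
  rw [map_zpow, σz] at hw1
  -- the order of `⁅σ x, σ y⁆` is three
  have ho : orderOf ⁅σ x, σ y⁆ = 3 := by
    have : Fact (Nat.Prime 3) := ⟨by norm_num⟩
    apply orderOf_eq_prime _ hz1
    rw [← σz, ← map_pow, pow_succ, pow_two, hz3, map_one]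
  have hdvd : (3 : ℤ) ∣ k := by
    have := orderOf_dvd_iff_zpow_eq_one.mpr hw1
    rwa [ho] at this
  obtain ⟨m, rfl⟩ := hdvd
  rw [zpow_mul]
  have : z ^ (3 : ℤ) = 1 := by
    have h3 : z ^ (3 : ℕ) = 1 := by rw [pow_succ, pow_two, hz3]
    exact_mod_cast h3
  rw [this, one_zpow]

end Cfsg.Agent.Helper72.CentExt
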