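import Cfsg.Agent.Helper72.CentExtAb

/-!
# Central extensions: the product of two abelian preimages

`U = V₁ V₂` where the preimages of `V₁`, `V₂` are abelian, `V₁ = ⟨Z, x₁, x₂⟩`, `V₂ = ⟨Z, y₁, y₂⟩`
with `Z = Z` elementary abelian containing the commutators `⁅xᵢ, yⱼ⁆`, and an element `g` of
order three centralizing `Z` and acting fixed-point-freely on `V₁ / Z` and `V₂ / Z`.  Then the
derived subgroup of the preimage of `U` meets the kernel trivially, as soon as `⁅x₁, y₁⁆` and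
`⁅x₂, y₁⁆` are independent.
-/

set_option autoImplicit false

namespace Cfsg.Agent.Helper72.CentExt

open Subgroup
open scoped commutatorElement

universe u v

variable {Γ : Type u} {P : Type v} [Group Γ] [Group P]

theorem commElt_mul_left_of_comm (p p' q : Γ) (h : p * ⁅p', q⁆ = ⁅p', q⁆ * p) :
    ⁅p * p', q⁆ = ⁅p', q⁆ * ⁅p, q⁆ := by
  calc ⁅p * p', q⁆ = p * ⁅p', q⁆ * p⁻¹ * ⁅p, q⁆ := by
        rw [commutatorElement_def, commutatorElement_def, commutatorElement_def]; group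
    _ = ⁅p', q⁆ * ⁅p, q⁆ := by rw [h, mul_inv_cancel_right]

theorem commElt_mul_right_of_comm (p q q' : Γ) (h : q * ⁅p, q'⁆ = ⁅p, q'⁆ * q) :
    ⁅p, q * q'⁆ = ⁅p, q⁆ * ⁅p, q'⁆ := by
  calc ⁅p, q * q'⁆ = ⁅p, q⁆ * (q * ⁅p, q'⁆ * q⁻¹) := by
        rw [commutatorElement_def, commutatorElement_def, commutatorElement_def]; group
    _ = ⁅p, q⁆ * ⁅p, q'⁆ := by rw [h, mul_inv_cancel_right]

/-- The four-element subgroup generated by two commuting involutions. -/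
def fourSubgroup (a c : Γ) (haa : a * a = 1) (hcc : c * c = 1) (hac : a * c = c * a) :
    Subgroup Γ where
  carrier := {w | w = 1 ∨ w = a ∨ w = c ∨ w = a * c}
  one_mem' := Or.inl rfl
  mul_mem' := by
    have h1 : a * (a * c) = c := by rw [← mul_assoc, haa, one_mul]
    have h2 : c * (a * c) = a := by rw [← mul_assoc, ← hac, mul_assoc, hcc, mul_one]
    have h3 : a * c * a = c := by rw [mul_assoc, ← hac, h1]
    have h4 : a * c * c = a := by rw [mul_assoc, hcc, mul_one]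
    have h5 : a * c * (a * c) = 1 := by rw [mul_assoc, h2, haa]
    rintro x y (rfl | rfl | rfl | rfl) (rfl | rfl | rfl | rfl)
    · left; rw [mul_one]
    · right; left; rw [one_mul]
    · right; right; left; rw [one_mul]
    · right; right; right; rw [one_mul]
    · right; left; rw [mul_one]
    · left; exact haa
    · right; right; right; rfl
    · right; right; left; exact h1
    · right; right; left; rw [mul_one]
    · right; right; right; exact hac.symm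
    · left; exact hcc
    · right; left; exact h2
    · right; right; right; rw [mul_one]
    · right; right; left; exact h3
    · right; left; exact h4
    · left; exact h5
  inv_mem' := by
    have i1 : a⁻¹ = a := inv_eq_of_mul_eq_one_left haa
    have i2 : c⁻¹ = c := inv_eq_of_mul_eq_one_left hcc
    rintro x (rfl | rfl | rfl | rfl)
    · left; exact inv_one
    · right; left; exact i1
    · right; right; left; exact i2
    · right; right; right; rw [mul_inv_rev, i1, i2, hac]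

theorem mem_fourSubgroup {a c : Γ} {haa : a * a = 1} {hcc : c * c = 1} {hac : a * c = c * a}
    {w : Γ} : w ∈ fourSubgroup a c haa hcc hac ↔ w = 1 ∨ w = a ∨ w = c ∨ w = a * c := Iff.rfl

section

variable (σ : Γ →* P) (hc : σ.ker ≤ center Γ) (V₁ V₂ Z : Subgroup P)
  (hV₁ : ∀ p ∈ V₁.comap σ, ∀ q ∈ V₁.comap σ, p * q = q * p)
  (hV₂ : ∀ p ∈ V₂.comap σ, ∀ q ∈ V₂.comap σ, p * q = q * p)
  (hZV₁ : Z ≤ V₁) (hZV₂ : Z ≤ V₂)

include hV₁ hV₂ hZV₁ hZV₂ in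
/-- Factors from the preimage of `Z ≤ Z` do not change the commutator. -/
theorem commElt_mul_inf {p q w w' : Γ} (hp : p ∈ V₁.comap σ) (hq : q ∈ V₂.comap σ)
    (hw : w ∈ Z.comap σ) (hw' : w' ∈ Z.comap σ) :
    ⁅p * w, q * w'⁆ = ⁅p, q⁆ := by
  have hw2 : w ∈ V₂.comap σ := Subgroup.comap_mono hZV₂ hw
  have hw'1 : w' ∈ V₁.comap σ := Subgroup.comap_mono hZV₁ hw'
  have hw'2 : w' ∈ V₂.comap σ := Subgroup.comap_mono hZV₂ hw'
  calc ⁅p * w, q * w'⁆ = p * (w * q) * w' * w⁻¹ * p⁻¹ * w'⁻¹ * q⁻¹ := by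
        rw [commutatorElement_def]; group
    _ = p * (q * w) * w' * w⁻¹ * p⁻¹ * w'⁻¹ * q⁻¹ := by rw [hV₂ w hw2 q hq]
    _ = p * q * (w * w') * w⁻¹ * p⁻¹ * w'⁻¹ * q⁻¹ := by group
    _ = p * q * (w' * w) * w⁻¹ * p⁻¹ * w'⁻¹ * q⁻¹ := by rw [hV₂ w hw2 w' hw'2]
    _ = p * q * (w' * p⁻¹) * w'⁻¹ * q⁻¹ := by group
    _ = p * q * (p⁻¹ * w') * w'⁻¹ * q⁻¹ := by rw [hV₁ w' hw'1 p⁻¹ (inv_mem hp)]
    _ = ⁅p, q⁆ := by rw [commutatorElement_def]; group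

include hc hV₁ hV₂ hZV₁ hZV₂ in
theorem u_lemma (U : Subgroup P) (x₁ x₂ y₁ y₂ g : Γ)
    (hx₁ : σ x₁ ∈ V₁) (hx₂ : σ x₂ ∈ V₁) (hy₁ : σ y₁ ∈ V₂) (hy₂ : σ y₂ ∈ V₂)
    (hU : ∀ u ∈ U, ∃ (i j k l : ℕ) (ζ : P), ζ ∈ Z ∧
      u = σ x₁ ^ i * σ x₂ ^ j * σ y₁ ^ k * σ y₂ ^ l * ζ)
    (h11 : ⁅σ x₁, σ y₁⁆ ∈ Z) (h12 : ⁅σ x₁, σ y₂⁆ ∈ Z)
    (h21 : ⁅σ x₂, σ y₁⁆ ∈ Z) (h22 : ⁅σ x₂, σ y₂⁆ ∈ Z)
    (hxs₁ : σ x₁ * σ x₁ = 1) (hxs₂ : σ x₂ * σ x₂ = 1)
    (hZ : ∀ ζ ∈ Z, σ g * ζ = ζ * σ g ∧ ζ * ζ = 1)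
    (hg3 : σ g * σ g * σ g = 1)
    (hgx₁ : ∃ ζ ∈ Z, σ g * σ x₁ * (σ g)⁻¹ = σ x₂ * ζ)
    (hgx₂ : ∃ ζ ∈ Z, σ g * σ x₂ * (σ g)⁻¹ = σ x₁ * σ x₂ * ζ)
    (hgy₁ : ∃ ζ ∈ Z, σ g * σ y₁ * (σ g)⁻¹ = σ y₂ * ζ)
    (hgy₂ : ∃ ζ ∈ Z, σ g * σ y₂ * (σ g)⁻¹ = σ y₁ * σ y₂ * ζ)
    (hind₁ : ⁅σ x₁, σ y₁⁆ ≠ 1) (hind₂ : ⁅σ x₂, σ y₁⁆ ≠ 1)
    (hind₃ : ⁅σ x₁, σ y₁⁆ * ⁅σ x₂, σ y₁⁆ ≠ 1) :
    ∀ w ∈ ⁅U.comap σ, U.comap σ⁆, σ w = 1 → w = 1 := by
  have hZ1 : Z.comap σ ≤ V₁.comap σ := Subgroup.comap_mono hZV₁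
  have hZ2 : Z.comap σ ≤ V₂.comap σ := Subgroup.comap_mono hZV₂
  have mx₁ : x₁ ∈ V₁.comap σ := hx₁
  have mx₂ : x₂ ∈ V₁.comap σ := hx₂
  have my₁ : y₁ ∈ V₂.comap σ := hy₁
  have my₂ : y₂ ∈ V₂.comap σ := hy₂
  -- the four commutators
  obtain ⟨a, ha⟩ : ∃ a, a = ⁅x₁, y₁⁆ := ⟨_, rfl⟩
  obtain ⟨b, hb⟩ : ∃ b, b = ⁅x₁, y₂⁆ := ⟨_, rfl⟩
  obtain ⟨c, hcd⟩ : ∃ c, c = ⁅x₂, y₁⁆ := ⟨_, rfl⟩
  obtain ⟨e, he⟩ : ∃ e, e = ⁅x₂, y₂⁆ := ⟨_, rfl⟩
  have ma : a ∈ Z.comap σ := by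
    rw [ha, Subgroup.mem_comap, map_commutatorElement]; exact h11
  have mb : b ∈ Z.comap σ := by
    rw [hb, Subgroup.mem_comap, map_commutatorElement]; exact h12
  have mc : c ∈ Z.comap σ := by
    rw [hcd, Subgroup.mem_comap, map_commutatorElement]; exact h21
  have me : e ∈ Z.comap σ := by
    rw [he, Subgroup.mem_comap, map_commutatorElement]; exact h22
  -- squares
  have sq_lemma : ∀ x y : Γ, x ∈ V₁.comap σ → σ x * σ x = 1 → ⁅x, y⁆ ∈ Z.comap σ →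
      ⁅x, y⁆ * ⁅x, y⁆ = 1 := by
    intro x y hx hxx hd
    have h1 : ⁅x * x, y⁆ = ⁅x, y⁆ * ⁅x, y⁆ :=
      commElt_mul_left_of_comm x x y (hV₁ x hx _ (hZ1 hd))
    rw [← h1]
    apply commElt_ker_left σ hc
    rw [MonoidHom.mem_ker, map_mul, hxx]
  have haa : a * a = 1 := by rw [ha]; exact sq_lemma x₁ y₁ mx₁ hxs₁ (ha ▸ ma)
  have hbb : b * b = 1 := by rw [hb]; exact sq_lemma x₁ y₂ mx₁ hxs₁ (hb ▸ mb)
  have hcc : c * c = 1 := by rw [hcd]; exact sq_lemma x₂ y₁ mx₂ hxs₂ (hcd ▸ mc)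
  have hee : e * e = 1 := by rw [he]; exact sq_lemma x₂ y₂ mx₂ hxs₂ (he ▸ me)
  -- `g` centralizes the preimage of `Z`
  have hgd : ∀ d ∈ Z.comap σ, g * d * g⁻¹ = d := by
    intro d hd
    obtain ⟨hgd1, hdd⟩ := hZ (σ d) hd
    have k2 : ⁅g, d⁆ * ⁅g, d⁆ = 1 := commElt_sq_eq_one' σ hc g d hgd1 hdd
    have k3 : ⁅g * g * g, d⁆ = ⁅g, d⁆ * ⁅g, d⁆ * ⁅g, d⁆ := by
      rw [commElt_mul_left σ hc (g * g) g d hgd1, commElt_mul_left σ hc g g d hgd1]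
    have k3' : ⁅g * g * g, d⁆ = 1 := by
      apply commElt_ker_left σ hc
      rw [MonoidHom.mem_ker, map_mul, map_mul, hg3]
    rw [k3', k2, one_mul] at k3
    have : g * d * g⁻¹ * d⁻¹ = 1 := by rw [← commutatorElement_def]; exact k3.symm
    exact mul_inv_eq_one.mp this
  -- lifts of the conjugation relations
  obtain ⟨ζ₁, hζ₁, r1⟩ := hgx₁
  obtain ⟨ζ₂, hζ₂, r2⟩ := hgx₂
  obtain ⟨ζ₃, hζ₃, r3⟩ := hgy₁
  obtain ⟨ζ₄, hζ₄, r4⟩ := hgy₂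
  have mw₁ : x₂⁻¹ * (g * x₁ * g⁻¹) ∈ Z.comap σ := by
    rw [Subgroup.mem_comap, map_mul, map_inv, map_mul, map_mul, map_inv, r1, inv_mul_cancel_left]
    exact hζ₁
  have mw₂ : (x₁ * x₂)⁻¹ * (g * x₂ * g⁻¹) ∈ Z.comap σ := by
    rw [Subgroup.mem_comap, map_mul, map_inv, map_mul, map_mul, map_mul, map_inv, r2,
      inv_mul_cancel_left]
    exact hζ₂
  have mw₃ : y₂⁻¹ * (g * y₁ * g⁻¹) ∈ Z.comap σ := by
    rw [Subgroup.mem_comap, map_mul, map_inv, map_mul, map_mul, map_inv, r3, inv_mul_cancel_left]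
    exact hζ₃
  have mw₄ : (y₁ * y₂)⁻¹ * (g * y₂ * g⁻¹) ∈ Z.comap σ := by
    rw [Subgroup.mem_comap, map_mul, map_inv, map_mul, map_mul, map_mul, map_inv, r4,
      inv_mul_cancel_left]
    exact hζ₄
  have conj_comm : ∀ x y : Γ, g * ⁅x, y⁆ * g⁻¹ = ⁅g * x * g⁻¹, g * y * g⁻¹⁆ := by
    intro x y
    rw [commutatorElement_def, commutatorElement_def]; group
  -- first relation: `a = e`
  have R1 : a = e := by
    have h1 : g * a * g⁻¹ = a := hgd a ma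
    rw [ha, conj_comm] at h1
    have e1 : g * x₁ * g⁻¹ = x₂ * (x₂⁻¹ * (g * x₁ * g⁻¹)) := by group
    have e3 : g * y₁ * g⁻¹ = y₂ * (y₂⁻¹ * (g * y₁ * g⁻¹)) := by group
    rw [e1, e3, commElt_mul_inf σ V₁ V₂ Z hV₁ hV₂ hZV₁ hZV₂ mx₂ my₂ mw₁ mw₃] at h1
    rw [he, ha]; exact h1.symm
  -- expansions
  have E1 : ⁅x₁, y₁ * y₂⁆ = a * b := by
    rw [ha, hb]
    exact commElt_mul_right_of_comm x₁ y₁ y₂ (hV₂ y₁ my₁ _ (hZ2 (hb ▸ mb)))
  have E2 : ⁅x₂, y₁ * y₂⁆ = c * e := by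
    rw [hcd, he]
    exact commElt_mul_right_of_comm x₂ y₁ y₂ (hV₂ y₁ my₁ _ (hZ2 (he ▸ me)))
  have E3 : ⁅x₁ * x₂, y₁ * y₂⁆ = c * e * (a * b) := by
    rw [commElt_mul_left_of_comm x₁ x₂ (y₁ * y₂), E1, E2]
    rw [E2]
    exact hV₁ x₁ mx₁ _ (hZ1 (mul_mem mc me))
  -- second relation: `e = c * e * (a * b)`
  have R2 : e = c * e * (a * b) := by
    have h1 : g * e * g⁻¹ = e := hgd e me
    rw [he, conj_comm] at h1
    have e2 : g * x₂ * g⁻¹ = x₁ * x₂ * ((x₁ * x₂)⁻¹ * (g * x₂ * g⁻¹)) := by group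
    have e4 : g * y₂ * g⁻¹ = y₁ * y₂ * ((y₁ * y₂)⁻¹ * (g * y₂ * g⁻¹)) := by group
    rw [e2, e4, commElt_mul_inf σ V₁ V₂ Z hV₁ hV₂ hZV₁ hZV₂ (mul_mem mx₁ mx₂) (mul_mem my₁ my₂) mw₂ mw₄,
      E3] at h1
    rw [← he] at h1
    exact h1.symm
  -- commutation inside the preimage of `Z`
  have zc : ∀ p ∈ Z.comap σ, ∀ q ∈ Z.comap σ, p * q = q * p :=
    fun p hp q hq => hV₁ p (hZ1 hp) q (hZ1 hq)
  have hac : a * c = c * a := zc a ma c mc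
  -- `b = a * c`
  have R3 : b = a * c := by
    rw [← R1] at R2
    -- a = c * a * (a * b)
    have h2 : a = c * b := by
      calc a = c * a * (a * b) := R2
        _ = c * (a * a) * b := by group
        _ = c * b := by rw [haa, mul_one]
    have h3 : c * a = b := by
      rw [h2, ← mul_assoc, hcc, one_mul]
    rw [hac, h3]
  -- the four-element subgroup
  let D : Subgroup Γ := fourSubgroup a c haa hcc hac
  have hDZ : ∀ d ∈ D, d ∈ Z.comap σ := by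
    rintro d (rfl | rfl | rfl | rfl)
    · exact one_mem _
    · exact ma
    · exact mc
    · exact mul_mem ma mc
  have aD : a ∈ D := Or.inr (Or.inl rfl)
  have cD : c ∈ D := Or.inr (Or.inr (Or.inl rfl))
  have bD : b ∈ D := Or.inr (Or.inr (Or.inr R3))
  have eD : e ∈ D := R1 ▸ aD
  -- generators of the preimage of `U`
  let S : Set Γ := ({x₁, x₂, y₁, y₂} : Set Γ) ∪ (Z.comap σ : Set Γ)
  have hS12 : ∀ s ∈ S, s ∈ V₁.comap σ ∨ s ∈ V₂.comap σ := by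
    rintro s (hs | hs)
    · simp only [Set.mem_insert_iff, Set.mem_singleton_iff] at hs
      rcases hs with rfl | rfl | rfl | rfl
      · exact Or.inl mx₁
      · exact Or.inl mx₂
      · exact Or.inr my₁
      · exact Or.inr my₂
    · exact Or.inl (hZ1 hs)
  have hle : U.comap σ ≤ closure S := by
    intro h hh
    obtain ⟨i, j, k, l, ζ, hζ, hu⟩ := hU (σ h) hh
    have hw : (x₁ ^ i * x₂ ^ j * y₁ ^ k * y₂ ^ l)⁻¹ * h ∈ Z.comap σ := by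
      rw [Subgroup.mem_comap, map_mul, map_inv, map_mul, map_mul, map_mul, map_pow, map_pow,
        map_pow, map_pow, hu, inv_mul_cancel_left]
      exact hζ
    have e : h = x₁ ^ i * x₂ ^ j * y₁ ^ k * y₂ ^ l *
        ((x₁ ^ i * x₂ ^ j * y₁ ^ k * y₂ ^ l)⁻¹ * h) := by group
    rw [e]
    have g1 : x₁ ∈ closure S := subset_closure (Or.inl (by simp))
    have g2 : x₂ ∈ closure S := subset_closure (Or.inl (by simp))
    have g3 : y₁ ∈ closure S := subset_closure (Or.inl (by simp))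
    have g4 : y₂ ∈ closure S := subset_closure (Or.inl (by simp))
    exact mul_mem (mul_mem (mul_mem (mul_mem (pow_mem g1 i) (pow_mem g2 j)) (pow_mem g3 k))
      (pow_mem g4 l)) (subset_closure (Or.inr hw))
  have hDS : ∀ d ∈ D, ∀ s ∈ S, s * d = d * s := by
    intro d hd s hs
    rcases hS12 s hs with h1 | h2
    · exact hV₁ s h1 d (hZ1 (hDZ d hd))
    · exact hV₂ s h2 d (hZ2 (hDZ d hd))
  have one1 : ∀ p ∈ V₁.comap σ, ∀ q ∈ V₁.comap σ, ⁅p, q⁆ ∈ D := by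
    intro p hp q hq
    rw [commutatorElement_eq_one_iff_mul_comm.mpr (hV₁ p hp q hq)]
    exact one_mem _
  have one2 : ∀ p ∈ V₂.comap σ, ∀ q ∈ V₂.comap σ, ⁅p, q⁆ ∈ D := by
    intro p hp q hq
    rw [commutatorElement_eq_one_iff_mul_comm.mpr (hV₂ p hp q hq)]
    exact one_mem _
  have swapD : ∀ p q : Γ, ⁅p, q⁆ ∈ D → ⁅q, p⁆ ∈ D := by
    intro p q h
    rw [← commutatorElement_inv]
    exact inv_mem h
  have hSS : ∀ s ∈ S, ∀ s' ∈ S, ⁅s, s'⁆ ∈ D := by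
    rintro s (hs | hs) s' (hs' | hs')
    · simp only [Set.mem_insert_iff, Set.mem_singleton_iff] at hs hs'
      rcases hs with rfl | rfl | rfl | rfl <;> rcases hs' with rfl | rfl | rfl | rfl
      · exact one1 _ mx₁ _ mx₁
      · exact one1 _ mx₁ _ mx₂
      · exact ha ▸ aD
      · exact hb ▸ bD
      · exact one1 _ mx₂ _ mx₁
      · exact one1 _ mx₂ _ mx₂
      · exact hcd ▸ cD
      · exact he ▸ eD
      · exact swapD _ _ (ha ▸ aD)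
      · exact swapD _ _ (hcd ▸ cD)
      · exact one2 _ my₁ _ my₁
      · exact one2 _ my₁ _ my₂
      · exact swapD _ _ (hb ▸ bD)
      · exact swapD _ _ (he ▸ eD)
      · exact one2 _ my₂ _ my₁
      · exact one2 _ my₂ _ my₂
    · rcases hS12 s (Or.inl hs) with h1 | h2
      · exact one1 _ h1 _ (hZ1 hs')
      · exact one2 _ h2 _ (hZ2 hs')
    · rcases hS12 s' (Or.inl hs') with h1 | h2
      · exact one1 _ (hZ1 hs) _ h1
      · exact one2 _ (hZ2 hs) _ h2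
    · exact one1 _ (hZ1 hs) _ (hZ1 hs')
  have hfin : ⁅U.comap σ, U.comap σ⁆ ≤ D :=
    le_trans (Subgroup.commutator_mono hle hle)
      (commutator_closure_le_of_centralizing S D hDS hSS)
  intro w hw hw1
  have σa : σ a = ⁅σ x₁, σ y₁⁆ := by rw [ha, map_commutatorElement]
  have σc : σ c = ⁅σ x₂, σ y₁⁆ := by rw [hcd, map_commutatorElement]
  rcases hfin hw with rfl | rfl | rfl | rfl
  · rfl
  · exact absurd (σa ▸ hw1) hind₁
  · exact absurd (σc ▸ hw1) hind₂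
  · rw [map_mul, σa, σc] at hw1
    exact absurd hw1 hind₃

end

end Cfsg.Agent.Helper72.CentExt
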