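import Mathlib
import Cfsg.Agent.S0755
import Cfsg.Agent.S0837
import Cfsg.Agent.Helper3.Cov2P5Defs

/-!
helper72 for helper3 (S2500 part 5, board #12490): piece (5A) `exists_psi` of
`tools/helper3_cov2p4/Skel5.lean.txt`: the hermitian trace form `Tr_{L/F}(x · y^(q³))` on a cubic extension
has an orthonormal basis.
-/

set_option autoImplicit false

namespace Cfsg.Agent.Helper72.Cov2P5

open Polynomial Module Matrix Cfsg.Agent.Helper3.Cov2

variable {F : Type*} [Field F] [Fintype F] {q : ℕ}

variable (L : Type*) [Field L] [Algebra F L] [Finite L]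

/-- (5A) -/
theorem exists_psi (hF : Fintype.card F = q ^ 2) (hL3 : finrank F L = 3) :
    ∃ ψ : L ≃ₗ[F] (Fin 3 → F), ∀ x y : L, Cfsg.hermForm 3 F q (ψ x) (ψ y) = hL F L q x y := by
  classical
  have : Fintype L := Fintype.ofFinite L
  have hfd : FiniteDimensional F L := Module.finite_of_finrank_pos (by rw [hL3]; norm_num)
  have hLcard : Fintype.card L = (q ^ 3) ^ 2 := by
    rw [Module.card_eq_pow_finrank (K := F) (V := L), hL3, hF]
    ring
  set σ : F →+* F := Cfsg.Agent.S0837.frobHom hF with hσdef
  set τ : L →+* L := Cfsg.Agent.S0837.frobHom hLcard with hτdef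
  have hσσ : ∀ a : F, σ (σ a) = a := Cfsg.Agent.S0837.frobHom_frobHom hF
  have hττ : ∀ a : L, τ (τ a) = a := Cfsg.Agent.S0837.frobHom_frobHom hLcard
  have hσne : σ ≠ RingHom.id F := Cfsg.Agent.S0837.frobHom_ne_id hF
  have hτapp : ∀ x : L, τ x = x ^ (q ^ 3) := fun x => rfl
  have hσapp : ∀ c : F, σ c = c ^ q := fun c => rfl
  -- `τ` extends `σ`
  have hcomm : ∀ c : F, τ (algebraMap F L c) = algebraMap F L (σ c) := by
    intro c
    rw [hτapp, hσapp, ← map_pow]
    congr 1
    rw [show q ^ 3 = q ^ 2 * q by ring, pow_mul, ← hF, FiniteField.pow_card]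
  -- the trace commutes with the two automorphisms
  let e₁ : F ≃+* F := RingEquiv.ofRingHom σ σ (RingHom.ext hσσ) (RingHom.ext hσσ)
  let e₂ : L ≃+* L := RingEquiv.ofRingHom τ τ (RingHom.ext hττ) (RingHom.ext hττ)
  have htr : ∀ w : L, Algebra.trace F L (τ w) = σ (Algebra.trace F L w) := by
    intro w
    have h := Algebra.trace_eq_of_equiv_equiv (A₁ := F) (B₁ := L) (A₂ := F) (B₂ := L) e₁ e₂
      (by
        ext c
        exact (hcomm c).symm) w
    have h2 : e₁ (Algebra.trace F L w) = Algebra.trace F L (e₂ w) := by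
      rw [h, RingEquiv.apply_symm_apply]
    exact h2.symm
  -- the sesquilinear form
  let B : L →ₛₗ[σ] L →ₗ[F] F :=
    LinearMap.mk₂'ₛₗ σ (RingHom.id F) (fun y x => Algebra.trace F L (x * τ y))
      (fun y₁ y₂ x => by
        show Algebra.trace F L (x * τ (y₁ + y₂)) = _
        rw [map_add, mul_add, map_add])
      (fun c y x => by
        show Algebra.trace F L (x * τ (c • y)) = σ c • Algebra.trace F L (x * τ y)
        rw [Algebra.smul_def, map_mul τ, hcomm, ← LinearMap.map_smul, Algebra.smul_def]
        congr 1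
        ring)
      (fun y x₁ x₂ => by
        show Algebra.trace F L ((x₁ + x₂) * τ y) = _
        rw [add_mul, map_add])
      (fun c y x => by
        show Algebra.trace F L ((c • x) * τ y) = (RingHom.id F) c • Algebra.trace F L (x * τ y)
        rw [smul_mul_assoc, LinearMap.map_smul]
        rfl)
  have hBapp : ∀ y x : L, B y x = Algebra.trace F L (x * τ y) := fun y x => rfl
  have hS : B.IsSymm := by
    refine ⟨fun y x => ?_⟩
    rw [hBapp, hBapp, ← htr, map_mul, hττ, mul_comm]
  have hsep := traceForm_nondegenerate F L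
  have hτsurj : Function.Surjective τ := fun z => ⟨τ z, hττ z⟩
  have hB : B.Nondegenerate := by
    constructor
    · intro y hy
      have h1 : τ y = 0 := by
        apply hsep.1
        intro x
        rw [Algebra.traceForm_apply, mul_comm]
        exact hy x
      have h2 := hττ y
      rw [h1, map_zero] at h2
      exact h2.symm
    · intro x hx
      apply hsep.1
      intro z
      obtain ⟨y, rfl⟩ := hτsurj z
      rw [Algebra.traceForm_apply]
      exact hx y
  obtain ⟨b, hb⟩ := Cfsg.Agent.S0755.main σ hσne hσσ 3 B hS hB hL3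
  refine ⟨b.equivFun, fun x y => ?_⟩
  have hx : x = ∑ i, b.equivFun x i • b i := (b.sum_equivFun x).symm
  have hy : y = ∑ j, b.equivFun y j • b j := (b.sum_equivFun y).symm
  have key : B y x = ∑ i, b.equivFun x i * σ (b.equivFun y i) := by
    have h1 : B y x = B (∑ j, b.equivFun y j • b j) (∑ i, b.equivFun x i • b i) := by
      rw [← hx, ← hy]
    rw [h1]
    simp only [map_sum, LinearMap.map_smulₛₗ, LinearMap.sum_apply, LinearMap.smul_apply, map_smul,
      smul_eq_mul, hb, mul_ite, mul_one, mul_zero, Finset.sum_ite_eq',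
      Finset.mem_univ, if_true]
  show Cfsg.hermForm 3 F q (b.equivFun x) (b.equivFun y) = Algebra.trace F L (x * y ^ (q ^ 3))
  rw [← hτapp, ← hBapp, key]
  rfl

end Cfsg.Agent.Helper72.Cov2P5
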