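import Mathlib
import Cfsg.Agent.Helper62.D8.Defs
import Cfsg.Agent.Helper62.D8.Defs2

/-!
# (K3a) of helper62's S3716: the equations of type 3 from `Shape3` (bookkeeping)
-/

set_option autoImplicit false
set_option maxHeartbeats 1600000
open Cfsg Finset

namespace Cfsg.Agent.Helper72.D8

open Cfsg.Agent.Helper62.D8

section
variable {ι : Type*} [Fintype ι] [DecidableEq ι]

theorem ind_get {l : List ι} (hnd : l.Nodup) (a b : Fin l.length) :
    ind (l.get a) (l.get b) = if b = a then 1 else 0 := by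
  unfold ind
  by_cases h : b = a
  · subst h; simp
  · rw [if_neg h, if_neg (fun h' => h (List.nodup_iff_injective_get.mp hnd h'))]

theorem sum_nodup_list {α : Type*} [AddCommMonoid α] {l : List ι} (hnd : l.Nodup) (F : ι → α)
    (h0 : ∀ i, i ∉ l → F i = 0) : ∑ i, F i = (l.map F).sum := by
  rw [← List.sum_toFinset F hnd]
  symm
  apply Finset.sum_subset (Finset.subset_univ _)
  intro i _ hi
  exact h0 i (by simpa using hi)

end

theorem sign_sq {σ : ℤ} (hσ : IsSign σ) : σ ^ 2 = 1 := by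
  rcases hσ with rfl | rfl <;> norm_num

theorem term1 (σ : ℤ) (hσ : IsSign σ) (dz : ℕ) (hd : 0 < dz) (a b ca cb : ℤ) (ha : a = ca * σ)
    (hb : b = cb * σ) :
    (a : ℚ) ^ 2 * (b : ℚ) / (dz : ℚ) = ((ca ^ 2 * cb : ℤ) : ℚ) / ((σ * (dz : ℤ) : ℤ) : ℚ) := by
  subst ha hb
  have hd' : (dz : ℚ) ≠ 0 := by positivity
  rcases hσ with rfl | rfl
  · push_cast; field_simp
  · push_cast; field_simp

theorem term2 (σ : ℤ) (hσ : IsSign σ) (dz : ℕ) (hd : 0 < dz) (a b ca cb : ℤ) (ha : a = ca * σ)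
    (hb : b = cb * σ) :
    (a : ℚ) * (b : ℚ) ^ 2 / (dz : ℚ) = ((ca * cb ^ 2 : ℤ) : ℚ) / ((σ * (dz : ℤ) : ℤ) : ℚ) := by
  subst ha hb
  have hd' : (dz : ℚ) ≠ 0 := by positivity
  rcases hσ with rfl | rfl
  · push_cast; field_simp
  · push_cast; field_simp

/-- an `e`-type column: `d + 4σ = 9k`, the case `k = 0` killed -/
theorem e_type (σ : ℤ) (hσ : IsSign σ) (dz : ℕ) (hd : 0 < dz) (k : ℕ) (p : ℤ)
    (hm : (dz : ℤ) + 4 * σ = 9 * (k : ℤ)) (hp : p = σ ∨ p = -σ)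
    (hkill : (dz : ℤ) + 4 * σ = 0 → (4 : ℤ) ∣ (dz : ℤ) + 2 * p) :
    (σ * (dz : ℤ)) % 9 = 5 ∧ (5 ≤ σ * (dz : ℤ) ∨ σ * (dz : ℤ) ≤ -13) := by
  rcases hσ with rfl | rfl
  · constructor
    · omega
    · left; omega
  · have hk : k ≠ 0 := by
      intro hk0
      subst hk0
      have h4 := hkill (by simpa using hm)
      rcases hp with rfl | rfl <;> omega
    constructor
    · omega
    · right; omega

/-- an `f`-type column: `d + 8σ = 9k`, `d ≠ 1`, the case `k = 0` killed -/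
theorem f_type (σ : ℤ) (hσ : IsSign σ) (dz : ℕ) (hd : 0 < dz) (k : ℕ) (p : ℤ)
    (hm : (dz : ℤ) + 8 * σ = 9 * (k : ℤ)) (hp : p = σ ∨ p = -σ) (h1 : dz ≠ 1)
    (hkill : (dz : ℤ) + 8 * σ = 0 → (4 : ℤ) ∣ (dz : ℤ) + 2 * p) :
    (σ * (dz : ℤ)) % 9 = 1 ∧ (10 ≤ σ * (dz : ℤ) ∨ σ * (dz : ℤ) ≤ -17) := by
  rcases hσ with rfl | rfl
  · constructor
    · omega
    · left; omega
  · have hk : k ≠ 0 := by
      intro hk0
      subst hk0
      have h4 := hkill (by simpa using hm)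
      rcases hp with rfl | rfl <;> omega
    constructor
    · omega
    · right; omega

/-- the `h`-type column: `d + 16σ = 9k` -/
theorem h_type (σ : ℤ) (hσ : IsSign σ) (dz : ℕ) (hd : 0 < dz) (k : ℕ)
    (hm : (dz : ℤ) + 16 * σ = 9 * (k : ℤ)) :
    (σ * (dz : ℤ)) % 9 = 2 ∧ (2 ≤ σ * (dz : ℤ) ∨ σ * (dz : ℤ) ≤ -16) := by
  rcases hσ with rfl | rfl
  · constructor
    · omega
    · left; omega
  · constructor
    · omega
    · right; omega

section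
variable {ι : Type*} [Fintype ι] [DecidableEq ι]

/-- (K3a) bookkeeping: the equations of type 3. -/
theorem eq3_of_shape3 (o : ι) (d : ι → ℕ) (A B P Q : ι → ℤ) (n : ℕ) (h : Arith o d A B P Q n)
    (w₁ w₂ w₃ w₄ : ι → ℤ)
    (hA : ∀ i, A i = 2 * (w₃ i + w₄ i) - (w₁ i + w₂ i))
    (hB : ∀ i, B i = 2 * (w₁ i + w₂ i) - (w₃ i + w₄ i))
    (hP : ∀ i, P i = w₁ i - w₂ i) (hQ : ∀ i, Q i = w₃ i - w₄ i)
    (hs : Shape3 o w₁ w₂ w₃ w₄) :
    ∃ X₁ X₂ X₃ X₄ Y₁ Y₂ Y₃ H : ℤ, Eq3 X₁ X₂ X₃ X₄ Y₁ Y₂ Y₃ H n := by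
  obtain ⟨e₁, e₂, e₃, e₄, f₁, f₂, f₃, hh, hnd, σ₁, σ₂, σ₃, σ₄, τ₁, τ₂, τ₃, η, hσ₁, hσ₂, hσ₃, hσ₄,
    hτ₁, hτ₂, hτ₃, hη, hw₁, hw₂, hw₃, hw₄⟩ := hs
  have hI : ∀ a b : Fin 9, ind ([o, e₁, e₂, e₃, e₄, f₁, f₂, f₃, hh].get a) ([o, e₁, e₂, e₃, e₄, f₁, f₂, f₃, hh].get b) = if b = a then 1 else 0 :=
    fun a b => ind_get hnd a b
  have A_1 : A e₁ = (-1) * σ₁ := by
    rw [hA]
    simp only [hw₁, hw₂, hw₃, hw₄,
      (show ind o e₁ = 0 from hI 0 1),
      (show ind e₁ e₁ = 1 from hI 1 1),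
      (show ind e₂ e₁ = 0 from hI 2 1),
      (show ind e₃ e₁ = 0 from hI 3 1),
      (show ind e₄ e₁ = 0 from hI 4 1),
      (show ind f₁ e₁ = 0 from hI 5 1),
      (show ind f₂ e₁ = 0 from hI 6 1),
      (show ind f₃ e₁ = 0 from hI 7 1),
      (show ind hh e₁ = 0 from hI 8 1)]
    ring
  have B_1 : B e₁ = 2 * σ₁ := by
    rw [hB]
    simp only [hw₁, hw₂, hw₃, hw₄,
      (show ind o e₁ = 0 from hI 0 1),
      (show ind e₁ e₁ = 1 from hI 1 1),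
      (show ind e₂ e₁ = 0 from hI 2 1),
      (show ind e₃ e₁ = 0 from hI 3 1),
      (show ind e₄ e₁ = 0 from hI 4 1),
      (show ind f₁ e₁ = 0 from hI 5 1),
      (show ind f₂ e₁ = 0 from hI 6 1),
      (show ind f₃ e₁ = 0 from hI 7 1),
      (show ind hh e₁ = 0 from hI 8 1)]
    ring
  have P_1 : P e₁ = 1 * σ₁ := by
    rw [hP]
    simp only [hw₁, hw₂, hw₃, hw₄,
      (show ind o e₁ = 0 from hI 0 1),
      (show ind e₁ e₁ = 1 from hI 1 1),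
      (show ind e₂ e₁ = 0 from hI 2 1),
      (show ind e₃ e₁ = 0 from hI 3 1),
      (show ind e₄ e₁ = 0 from hI 4 1),
      (show ind f₁ e₁ = 0 from hI 5 1),
      (show ind f₂ e₁ = 0 from hI 6 1),
      (show ind f₃ e₁ = 0 from hI 7 1),
      (show ind hh e₁ = 0 from hI 8 1)]
    ring
  have Q_1 : Q e₁ = 0 * σ₁ := by
    rw [hQ]
    simp only [hw₁, hw₂, hw₃, hw₄,
      (show ind o e₁ = 0 from hI 0 1),
      (show ind e₁ e₁ = 1 from hI 1 1),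
      (show ind e₂ e₁ = 0 from hI 2 1),
      (show ind e₃ e₁ = 0 from hI 3 1),
      (show ind e₄ e₁ = 0 from hI 4 1),
      (show ind f₁ e₁ = 0 from hI 5 1),
      (show ind f₂ e₁ = 0 from hI 6 1),
      (show ind f₃ e₁ = 0 from hI 7 1),
      (show ind hh e₁ = 0 from hI 8 1)]
    ring
  have A_2 : A e₂ = (-1) * σ₂ := by
    rw [hA]
    simp only [hw₁, hw₂, hw₃, hw₄,
      (show ind o e₂ = 0 from hI 0 2),
      (show ind e₁ e₂ = 0 from hI 1 2),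
      (show ind e₂ e₂ = 1 from hI 2 2),
      (show ind e₃ e₂ = 0 from hI 3 2),
      (show ind e₄ e₂ = 0 from hI 4 2),
      (show ind f₁ e₂ = 0 from hI 5 2),
      (show ind f₂ e₂ = 0 from hI 6 2),
      (show ind f₃ e₂ = 0 from hI 7 2),
      (show ind hh e₂ = 0 from hI 8 2)]
    ring
  have B_2 : B e₂ = 2 * σ₂ := by
    rw [hB]
    simp only [hw₁, hw₂, hw₃, hw₄,
      (show ind o e₂ = 0 from hI 0 2),
      (show ind e₁ e₂ = 0 from hI 1 2),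
      (show ind e₂ e₂ = 1 from hI 2 2),
      (show ind e₃ e₂ = 0 from hI 3 2),
      (show ind e₄ e₂ = 0 from hI 4 2),
      (show ind f₁ e₂ = 0 from hI 5 2),
      (show ind f₂ e₂ = 0 from hI 6 2),
      (show ind f₃ e₂ = 0 from hI 7 2),
      (show ind hh e₂ = 0 from hI 8 2)]
    ring
  have P_2 : P e₂ = (-1) * σ₂ := by
    rw [hP]
    simp only [hw₁, hw₂, hw₃, hw₄,
      (show ind o e₂ = 0 from hI 0 2),
      (show ind e₁ e₂ = 0 from hI 1 2),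
      (show ind e₂ e₂ = 1 from hI 2 2),
      (show ind e₃ e₂ = 0 from hI 3 2),
      (show ind e₄ e₂ = 0 from hI 4 2),
      (show ind f₁ e₂ = 0 from hI 5 2),
      (show ind f₂ e₂ = 0 from hI 6 2),
      (show ind f₃ e₂ = 0 from hI 7 2),
      (show ind hh e₂ = 0 from hI 8 2)]
    ring
  have Q_2 : Q e₂ = 0 * σ₂ := by
    rw [hQ]
    simp only [hw₁, hw₂, hw₃, hw₄,
      (show ind o e₂ = 0 from hI 0 2),
      (show ind e₁ e₂ = 0 from hI 1 2),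
      (show ind e₂ e₂ = 1 from hI 2 2),
      (show ind e₃ e₂ = 0 from hI 3 2),
      (show ind e₄ e₂ = 0 from hI 4 2),
      (show ind f₁ e₂ = 0 from hI 5 2),
      (show ind f₂ e₂ = 0 from hI 6 2),
      (show ind f₃ e₂ = 0 from hI 7 2),
      (show ind hh e₂ = 0 from hI 8 2)]
    ring
  have A_3 : A e₃ = 2 * σ₃ := by
    rw [hA]
    simp only [hw₁, hw₂, hw₃, hw₄,
      (show ind o e₃ = 0 from hI 0 3),
      (show ind e₁ e₃ = 0 from hI 1 3),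
      (show ind e₂ e₃ = 0 from hI 2 3),
      (show ind e₃ e₃ = 1 from hI 3 3),
      (show ind e₄ e₃ = 0 from hI 4 3),
      (show ind f₁ e₃ = 0 from hI 5 3),
      (show ind f₂ e₃ = 0 from hI 6 3),
      (show ind f₃ e₃ = 0 from hI 7 3),
      (show ind hh e₃ = 0 from hI 8 3)]
    ring
  have B_3 : B e₃ = (-1) * σ₃ := by
    rw [hB]
    simp only [hw₁, hw₂, hw₃, hw₄,
      (show ind o e₃ = 0 from hI 0 3),
      (show ind e₁ e₃ = 0 from hI 1 3),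
      (show ind e₂ e₃ = 0 from hI 2 3),
      (show ind e₃ e₃ = 1 from hI 3 3),
      (show ind e₄ e₃ = 0 from hI 4 3),
      (show ind f₁ e₃ = 0 from hI 5 3),
      (show ind f₂ e₃ = 0 from hI 6 3),
      (show ind f₃ e₃ = 0 from hI 7 3),
      (show ind hh e₃ = 0 from hI 8 3)]
    ring
  have P_3 : P e₃ = 0 * σ₃ := by
    rw [hP]
    simp only [hw₁, hw₂, hw₃, hw₄,
      (show ind o e₃ = 0 from hI 0 3),
      (show ind e₁ e₃ = 0 from hI 1 3),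
      (show ind e₂ e₃ = 0 from hI 2 3),
      (show ind e₃ e₃ = 1 from hI 3 3),
      (show ind e₄ e₃ = 0 from hI 4 3),
      (show ind f₁ e₃ = 0 from hI 5 3),
      (show ind f₂ e₃ = 0 from hI 6 3),
      (show ind f₃ e₃ = 0 from hI 7 3),
      (show ind hh e₃ = 0 from hI 8 3)]
    ring
  have Q_3 : Q e₃ = 1 * σ₃ := by
    rw [hQ]
    simp only [hw₁, hw₂, hw₃, hw₄,
      (show ind o e₃ = 0 from hI 0 3),
      (show ind e₁ e₃ = 0 from hI 1 3),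
      (show ind e₂ e₃ = 0 from hI 2 3),
      (show ind e₃ e₃ = 1 from hI 3 3),
      (show ind e₄ e₃ = 0 from hI 4 3),
      (show ind f₁ e₃ = 0 from hI 5 3),
      (show ind f₂ e₃ = 0 from hI 6 3),
      (show ind f₃ e₃ = 0 from hI 7 3),
      (show ind hh e₃ = 0 from hI 8 3)]
    ring
  have A_4 : A e₄ = 2 * σ₄ := by
    rw [hA]
    simp only [hw₁, hw₂, hw₃, hw₄,
      (show ind o e₄ = 0 from hI 0 4),
      (show ind e₁ e₄ = 0 from hI 1 4),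
      (show ind e₂ e₄ = 0 from hI 2 4),
      (show ind e₃ e₄ = 0 from hI 3 4),
      (show ind e₄ e₄ = 1 from hI 4 4),
      (show ind f₁ e₄ = 0 from hI 5 4),
      (show ind f₂ e₄ = 0 from hI 6 4),
      (show ind f₃ e₄ = 0 from hI 7 4),
      (show ind hh e₄ = 0 from hI 8 4)]
    ring
  have B_4 : B e₄ = (-1) * σ₄ := by
    rw [hB]
    simp only [hw₁, hw₂, hw₃, hw₄,
      (show ind o e₄ = 0 from hI 0 4),
      (show ind e₁ e₄ = 0 from hI 1 4),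
      (show ind e₂ e₄ = 0 from hI 2 4),
      (show ind e₃ e₄ = 0 from hI 3 4),
      (show ind e₄ e₄ = 1 from hI 4 4),
      (show ind f₁ e₄ = 0 from hI 5 4),
      (show ind f₂ e₄ = 0 from hI 6 4),
      (show ind f₃ e₄ = 0 from hI 7 4),
      (show ind hh e₄ = 0 from hI 8 4)]
    ring
  have P_4 : P e₄ = 0 * σ₄ := by
    rw [hP]
    simp only [hw₁, hw₂, hw₃, hw₄,
      (show ind o e₄ = 0 from hI 0 4),
      (show ind e₁ e₄ = 0 from hI 1 4),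
      (show ind e₂ e₄ = 0 from hI 2 4),
      (show ind e₃ e₄ = 0 from hI 3 4),
      (show ind e₄ e₄ = 1 from hI 4 4),
      (show ind f₁ e₄ = 0 from hI 5 4),
      (show ind f₂ e₄ = 0 from hI 6 4),
      (show ind f₃ e₄ = 0 from hI 7 4),
      (show ind hh e₄ = 0 from hI 8 4)]
    ring
  have Q_4 : Q e₄ = (-1) * σ₄ := by
    rw [hQ]
    simp only [hw₁, hw₂, hw₃, hw₄,
      (show ind o e₄ = 0 from hI 0 4),
      (show ind e₁ e₄ = 0 from hI 1 4),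
      (show ind e₂ e₄ = 0 from hI 2 4),
      (show ind e₃ e₄ = 0 from hI 3 4),
      (show ind e₄ e₄ = 1 from hI 4 4),
      (show ind f₁ e₄ = 0 from hI 5 4),
      (show ind f₂ e₄ = 0 from hI 6 4),
      (show ind f₃ e₄ = 0 from hI 7 4),
      (show ind hh e₄ = 0 from hI 8 4)]
    ring
  have A_5 : A f₁ = 1 * τ₁ := by
    rw [hA]
    simp only [hw₁, hw₂, hw₃, hw₄,
      (show ind o f₁ = 0 from hI 0 5),
      (show ind e₁ f₁ = 0 from hI 1 5),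
      (show ind e₂ f₁ = 0 from hI 2 5),
      (show ind e₃ f₁ = 0 from hI 3 5),
      (show ind e₄ f₁ = 0 from hI 4 5),
      (show ind f₁ f₁ = 1 from hI 5 5),
      (show ind f₂ f₁ = 0 from hI 6 5),
      (show ind f₃ f₁ = 0 from hI 7 5),
      (show ind hh f₁ = 0 from hI 8 5)]
    ring
  have B_5 : B f₁ = 1 * τ₁ := by
    rw [hB]
    simp only [hw₁, hw₂, hw₃, hw₄,
      (show ind o f₁ = 0 from hI 0 5),
      (show ind e₁ f₁ = 0 from hI 1 5),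
      (show ind e₂ f₁ = 0 from hI 2 5),
      (show ind e₃ f₁ = 0 from hI 3 5),
      (show ind e₄ f₁ = 0 from hI 4 5),
      (show ind f₁ f₁ = 1 from hI 5 5),
      (show ind f₂ f₁ = 0 from hI 6 5),
      (show ind f₃ f₁ = 0 from hI 7 5),
      (show ind hh f₁ = 0 from hI 8 5)]
    ring
  have P_5 : P f₁ = (-1) * τ₁ := by
    rw [hP]
    simp only [hw₁, hw₂, hw₃, hw₄,
      (show ind o f₁ = 0 from hI 0 5),
      (show ind e₁ f₁ = 0 from hI 1 5),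
      (show ind e₂ f₁ = 0 from hI 2 5),
      (show ind e₃ f₁ = 0 from hI 3 5),
      (show ind e₄ f₁ = 0 from hI 4 5),
      (show ind f₁ f₁ = 1 from hI 5 5),
      (show ind f₂ f₁ = 0 from hI 6 5),
      (show ind f₃ f₁ = 0 from hI 7 5),
      (show ind hh f₁ = 0 from hI 8 5)]
    ring
  have Q_5 : Q f₁ = (-1) * τ₁ := by
    rw [hQ]
    simp only [hw₁, hw₂, hw₃, hw₄,
      (show ind o f₁ = 0 from hI 0 5),
      (show ind e₁ f₁ = 0 from hI 1 5),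
      (show ind e₂ f₁ = 0 from hI 2 5),
      (show ind e₃ f₁ = 0 from hI 3 5),
      (show ind e₄ f₁ = 0 from hI 4 5),
      (show ind f₁ f₁ = 1 from hI 5 5),
      (show ind f₂ f₁ = 0 from hI 6 5),
      (show ind f₃ f₁ = 0 from hI 7 5),
      (show ind hh f₁ = 0 from hI 8 5)]
    ring
  have A_6 : A f₂ = 1 * τ₂ := by
    rw [hA]
    simp only [hw₁, hw₂, hw₃, hw₄,
      (show ind o f₂ = 0 from hI 0 6),
      (show ind e₁ f₂ = 0 from hI 1 6),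
      (show ind e₂ f₂ = 0 from hI 2 6),
      (show ind e₃ f₂ = 0 from hI 3 6),
      (show ind e₄ f₂ = 0 from hI 4 6),
      (show ind f₁ f₂ = 0 from hI 5 6),
      (show ind f₂ f₂ = 1 from hI 6 6),
      (show ind f₃ f₂ = 0 from hI 7 6),
      (show ind hh f₂ = 0 from hI 8 6)]
    ring
  have B_6 : B f₂ = 1 * τ₂ := by
    rw [hB]
    simp only [hw₁, hw₂, hw₃, hw₄,
      (show ind o f₂ = 0 from hI 0 6),
      (show ind e₁ f₂ = 0 from hI 1 6),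
      (show ind e₂ f₂ = 0 from hI 2 6),
      (show ind e₃ f₂ = 0 from hI 3 6),
      (show ind e₄ f₂ = 0 from hI 4 6),
      (show ind f₁ f₂ = 0 from hI 5 6),
      (show ind f₂ f₂ = 1 from hI 6 6),
      (show ind f₃ f₂ = 0 from hI 7 6),
      (show ind hh f₂ = 0 from hI 8 6)]
    ring
  have P_6 : P f₂ = (-1) * τ₂ := by
    rw [hP]
    simp only [hw₁, hw₂, hw₃, hw₄,
      (show ind o f₂ = 0 from hI 0 6),
      (show ind e₁ f₂ = 0 from hI 1 6),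
      (show ind e₂ f₂ = 0 from hI 2 6),
      (show ind e₃ f₂ = 0 from hI 3 6),
      (show ind e₄ f₂ = 0 from hI 4 6),
      (show ind f₁ f₂ = 0 from hI 5 6),
      (show ind f₂ f₂ = 1 from hI 6 6),
      (show ind f₃ f₂ = 0 from hI 7 6),
      (show ind hh f₂ = 0 from hI 8 6)]
    ring
  have Q_6 : Q f₂ = 1 * τ₂ := by
    rw [hQ]
    simp only [hw₁, hw₂, hw₃, hw₄,
      (show ind o f₂ = 0 from hI 0 6),
      (show ind e₁ f₂ = 0 from hI 1 6),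
      (show ind e₂ f₂ = 0 from hI 2 6),
      (show ind e₃ f₂ = 0 from hI 3 6),
      (show ind e₄ f₂ = 0 from hI 4 6),
      (show ind f₁ f₂ = 0 from hI 5 6),
      (show ind f₂ f₂ = 1 from hI 6 6),
      (show ind f₃ f₂ = 0 from hI 7 6),
      (show ind hh f₂ = 0 from hI 8 6)]
    ring
  have A_7 : A f₃ = 1 * τ₃ := by
    rw [hA]
    simp only [hw₁, hw₂, hw₃, hw₄,
      (show ind o f₃ = 0 from hI 0 7),
      (show ind e₁ f₃ = 0 from hI 1 7),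
      (show ind e₂ f₃ = 0 from hI 2 7),
      (show ind e₃ f₃ = 0 from hI 3 7),
      (show ind e₄ f₃ = 0 from hI 4 7),
      (show ind f₁ f₃ = 0 from hI 5 7),
      (show ind f₂ f₃ = 0 from hI 6 7),
      (show ind f₃ f₃ = 1 from hI 7 7),
      (show ind hh f₃ = 0 from hI 8 7)]
    ring
  have B_7 : B f₃ = 1 * τ₃ := by
    rw [hB]
    simp only [hw₁, hw₂, hw₃, hw₄,
      (show ind o f₃ = 0 from hI 0 7),
      (show ind e₁ f₃ = 0 from hI 1 7),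
      (show ind e₂ f₃ = 0 from hI 2 7),
      (show ind e₃ f₃ = 0 from hI 3 7),
      (show ind e₄ f₃ = 0 from hI 4 7),
      (show ind f₁ f₃ = 0 from hI 5 7),
      (show ind f₂ f₃ = 0 from hI 6 7),
      (show ind f₃ f₃ = 1 from hI 7 7),
      (show ind hh f₃ = 0 from hI 8 7)]
    ring
  have P_7 : P f₃ = 1 * τ₃ := by
    rw [hP]
    simp only [hw₁, hw₂, hw₃, hw₄,
      (show ind o f₃ = 0 from hI 0 7),
      (show ind e₁ f₃ = 0 from hI 1 7),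
      (show ind e₂ f₃ = 0 from hI 2 7),
      (show ind e₃ f₃ = 0 from hI 3 7),
      (show ind e₄ f₃ = 0 from hI 4 7),
      (show ind f₁ f₃ = 0 from hI 5 7),
      (show ind f₂ f₃ = 0 from hI 6 7),
      (show ind f₃ f₃ = 1 from hI 7 7),
      (show ind hh f₃ = 0 from hI 8 7)]
    ring
  have Q_7 : Q f₃ = (-1) * τ₃ := by
    rw [hQ]
    simp only [hw₁, hw₂, hw₃, hw₄,
      (show ind o f₃ = 0 from hI 0 7),
      (show ind e₁ f₃ = 0 from hI 1 7),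
      (show ind e₂ f₃ = 0 from hI 2 7),
      (show ind e₃ f₃ = 0 from hI 3 7),
      (show ind e₄ f₃ = 0 from hI 4 7),
      (show ind f₁ f₃ = 0 from hI 5 7),
      (show ind f₂ f₃ = 0 from hI 6 7),
      (show ind f₃ f₃ = 1 from hI 7 7),
      (show ind hh f₃ = 0 from hI 8 7)]
    ring
  have A_8 : A hh = 2 * η := by
    rw [hA]
    simp only [hw₁, hw₂, hw₃, hw₄,
      (show ind o hh = 0 from hI 0 8),
      (show ind e₁ hh = 0 from hI 1 8),
      (show ind e₂ hh = 0 from hI 2 8),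
      (show ind e₃ hh = 0 from hI 3 8),
      (show ind e₄ hh = 0 from hI 4 8),
      (show ind f₁ hh = 0 from hI 5 8),
      (show ind f₂ hh = 0 from hI 6 8),
      (show ind f₃ hh = 0 from hI 7 8),
      (show ind hh hh = 1 from hI 8 8)]
    ring
  have B_8 : B hh = 2 * η := by
    rw [hB]
    simp only [hw₁, hw₂, hw₃, hw₄,
      (show ind o hh = 0 from hI 0 8),
      (show ind e₁ hh = 0 from hI 1 8),
      (show ind e₂ hh = 0 from hI 2 8),
      (show ind e₃ hh = 0 from hI 3 8),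
      (show ind e₄ hh = 0 from hI 4 8),
      (show ind f₁ hh = 0 from hI 5 8),
      (show ind f₂ hh = 0 from hI 6 8),
      (show ind f₃ hh = 0 from hI 7 8),
      (show ind hh hh = 1 from hI 8 8)]
    ring
  have P_8 : P hh = 0 * η := by
    rw [hP]
    simp only [hw₁, hw₂, hw₃, hw₄,
      (show ind o hh = 0 from hI 0 8),
      (show ind e₁ hh = 0 from hI 1 8),
      (show ind e₂ hh = 0 from hI 2 8),
      (show ind e₃ hh = 0 from hI 3 8),
      (show ind e₄ hh = 0 from hI 4 8),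
      (show ind f₁ hh = 0 from hI 5 8),
      (show ind f₂ hh = 0 from hI 6 8),
      (show ind f₃ hh = 0 from hI 7 8),
      (show ind hh hh = 1 from hI 8 8)]
    ring
  have Q_8 : Q hh = 0 * η := by
    rw [hQ]
    simp only [hw₁, hw₂, hw₃, hw₄,
      (show ind o hh = 0 from hI 0 8),
      (show ind e₁ hh = 0 from hI 1 8),
      (show ind e₂ hh = 0 from hI 2 8),
      (show ind e₃ hh = 0 from hI 3 8),
      (show ind e₄ hh = 0 from hI 4 8),
      (show ind f₁ hh = 0 from hI 5 8),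
      (show ind f₂ hh = 0 from hI 6 8),
      (show ind f₃ hh = 0 from hI 7 8),
      (show ind hh hh = 1 from hI 8 8)]
    ring
  have hout : ∀ i, i ∉ [o, e₁, e₂, e₃, e₄, f₁, f₂, f₃, hh] → A i = 0 ∧ B i = 0 ∧ P i = 0 ∧ Q i = 0 := by
    intro i hi
    have n0 : ind o i = 0 := if_neg (fun hh' => hi (by simp [hh']))
    have n1 : ind e₁ i = 0 := if_neg (fun hh' => hi (by simp [hh']))
    have n2 : ind e₂ i = 0 := if_neg (fun hh' => hi (by simp [hh']))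
    have n3 : ind e₃ i = 0 := if_neg (fun hh' => hi (by simp [hh']))
    have n4 : ind e₄ i = 0 := if_neg (fun hh' => hi (by simp [hh']))
    have n5 : ind f₁ i = 0 := if_neg (fun hh' => hi (by simp [hh']))
    have n6 : ind f₂ i = 0 := if_neg (fun hh' => hi (by simp [hh']))
    have n7 : ind f₃ i = 0 := if_neg (fun hh' => hi (by simp [hh']))
    have n8 : ind hh i = 0 := if_neg (fun hh' => hi (by simp [hh']))
    have v1 : w₁ i = 0 := by rw [hw₁, n0, n1, n7, n8]; ring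
    have v2 : w₂ i = 0 := by rw [hw₂, n2, n5, n6, n8]; ring
    have v3 : w₃ i = 0 := by rw [hw₃, n0, n3, n6, n8]; ring
    have v4 : w₄ i = 0 := by rw [hw₄, n4, n5, n7, n8]; ring
    refine ⟨?_, ?_, ?_, ?_⟩
    · rw [hA, v1, v2, v3, v4]; ring
    · rw [hB, v1, v2, v3, v4]; ring
    · rw [hP, v1, v2]; ring
    · rw [hQ, v3, v4]; ring
  have sA := h.dA
  rw [sum_nodup_list hnd (fun i => (d i : ℤ) * A i)
    (fun i hi => by
      have h0 := (hout i hi).1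
      show (d i : ℤ) * A i = 0
      rw [h0, mul_zero])] at sA
  simp only [List.map_cons, List.map_nil, List.sum_cons, List.sum_nil] at sA
  rw [h.A_o, h.d_o, A_1, A_2, A_3, A_4, A_5, A_6, A_7, A_8] at sA
  push_cast at sA
  have sB := h.dB
  rw [sum_nodup_list hnd (fun i => (d i : ℤ) * B i)
    (fun i hi => by
      have h0 := (hout i hi).2.1
      show (d i : ℤ) * B i = 0
      rw [h0, mul_zero])] at sB
  simp only [List.map_cons, List.map_nil, List.sum_cons, List.sum_nil] at sB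
  rw [h.B_o, h.d_o, B_1, B_2, B_3, B_4, B_5, B_6, B_7, B_8] at sB
  push_cast at sB
  have sP := h.dP
  rw [sum_nodup_list hnd (fun i => (d i : ℤ) * P i)
    (fun i hi => by
      have h0 := (hout i hi).2.2.1
      show (d i : ℤ) * P i = 0
      rw [h0, mul_zero])] at sP
  simp only [List.map_cons, List.map_nil, List.sum_cons, List.sum_nil] at sP
  rw [h.P_o, h.d_o, P_1, P_2, P_3, P_4, P_5, P_6, P_7, P_8] at sP
  push_cast at sP
  have sQ := h.dQ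
  rw [sum_nodup_list hnd (fun i => (d i : ℤ) * Q i)
    (fun i hi => by
      have h0 := (hout i hi).2.2.2
      show (d i : ℤ) * Q i = 0
      rw [h0, mul_zero])] at sQ
  simp only [List.map_cons, List.map_nil, List.sum_cons, List.sum_nil] at sQ
  rw [h.Q_o, h.d_o, Q_1, Q_2, Q_3, Q_4, Q_5, Q_6, Q_7, Q_8] at sQ
  push_cast at sQ
  have sdd : ([o, e₁, e₂, e₃, e₄, f₁, f₂, f₃, hh].map (fun i => (d i : ℤ) ^ 2)).sum ≤ 72 * (n : ℤ) := by
    rw [← h.dd, ← List.sum_toFinset _ hnd]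
    exact Finset.sum_le_sum_of_subset_of_nonneg (Finset.subset_univ _) (fun i _ _ => sq_nonneg _)
  simp only [List.map_cons, List.map_nil, List.sum_cons, List.sum_nil] at sdd
  rw [h.d_o] at sdd
  have sE1 := h.E1
  rw [sum_nodup_list hnd (fun i => (A i : ℚ) ^ 2 * (B i : ℚ) / (d i : ℚ))
    (fun i hi => by
      have h0 := (hout i hi).1
      show (A i : ℚ) ^ 2 * (B i : ℚ) / (d i : ℚ) = 0
      rw [h0]; simp)] at sE1
  simp only [List.map_cons, List.map_nil, List.sum_cons, List.sum_nil] at sE1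
  have tE1_0 : (A o : ℚ) ^ 2 * (B o : ℚ) / (d o : ℚ) = 1 := by
    rw [h.A_o, h.B_o, h.d_o]; norm_num
  have tE1_1 := term1 σ₁ hσ₁ (d e₁) (h.dpos e₁) (A e₁) (B e₁) (-1) 2 A_1 B_1
  have tE1_2 := term1 σ₂ hσ₂ (d e₂) (h.dpos e₂) (A e₂) (B e₂) (-1) 2 A_2 B_2
  have tE1_3 := term1 σ₃ hσ₃ (d e₃) (h.dpos e₃) (A e₃) (B e₃) 2 (-1) A_3 B_3
  have tE1_4 := term1 σ₄ hσ₄ (d e₄) (h.dpos e₄) (A e₄) (B e₄) 2 (-1) A_4 B_4
  have tE1_5 := term1 τ₁ hτ₁ (d f₁) (h.dpos f₁) (A f₁) (B f₁) 1 1 A_5 B_5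
  have tE1_6 := term1 τ₂ hτ₂ (d f₂) (h.dpos f₂) (A f₂) (B f₂) 1 1 A_6 B_6
  have tE1_7 := term1 τ₃ hτ₃ (d f₃) (h.dpos f₃) (A f₃) (B f₃) 1 1 A_7 B_7
  have tE1_8 := term1 η hη (d hh) (h.dpos hh) (A hh) (B hh) 2 2 A_8 B_8
  rw [tE1_0, tE1_1, tE1_2, tE1_3, tE1_4, tE1_5, tE1_6, tE1_7, tE1_8] at sE1
  push_cast at sE1
  have sE2 := h.E2
  rw [sum_nodup_list hnd (fun i => (A i : ℚ) * (B i : ℚ) ^ 2 / (d i : ℚ))
    (fun i hi => by
      have h0 := (hout i hi).1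
      show (A i : ℚ) * (B i : ℚ) ^ 2 / (d i : ℚ) = 0
      rw [h0]; simp)] at sE2
  simp only [List.map_cons, List.map_nil, List.sum_cons, List.sum_nil] at sE2
  have tE2_0 : (A o : ℚ) * (B o : ℚ) ^ 2 / (d o : ℚ) = 1 := by
    rw [h.A_o, h.B_o, h.d_o]; norm_num
  have tE2_1 := term2 σ₁ hσ₁ (d e₁) (h.dpos e₁) (A e₁) (B e₁) (-1) 2 A_1 B_1
  have tE2_2 := term2 σ₂ hσ₂ (d e₂) (h.dpos e₂) (A e₂) (B e₂) (-1) 2 A_2 B_2
  have tE2_3 := term2 σ₃ hσ₃ (d e₃) (h.dpos e₃) (A e₃) (B e₃) 2 (-1) A_3 B_3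
  have tE2_4 := term2 σ₄ hσ₄ (d e₄) (h.dpos e₄) (A e₄) (B e₄) 2 (-1) A_4 B_4
  have tE2_5 := term2 τ₁ hτ₁ (d f₁) (h.dpos f₁) (A f₁) (B f₁) 1 1 A_5 B_5
  have tE2_6 := term2 τ₂ hτ₂ (d f₂) (h.dpos f₂) (A f₂) (B f₂) 1 1 A_6 B_6
  have tE2_7 := term2 τ₃ hτ₃ (d f₃) (h.dpos f₃) (A f₃) (B f₃) 1 1 A_7 B_7
  have tE2_8 := term2 η hη (d hh) (h.dpos hh) (A hh) (B hh) 2 2 A_8 B_8
  rw [tE2_0, tE2_1, tE2_2, tE2_3, tE2_4, tE2_5, tE2_6, tE2_7, tE2_8] at sE2
  push_cast at sE2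
  obtain ⟨k1, hk1⟩ := h.m0 e₁
  rw [A_1, B_1] at hk1
  have c1 := e_type σ₁ hσ₁ (d e₁) (h.dpos e₁) k1 (P e₁) (by linarith)
    (Or.inl (by rw [P_1]; ring))
    (fun h0 => h.killP e₁ (by rw [A_1, B_1]; linarith))
  obtain ⟨k2, hk2⟩ := h.m0 e₂
  rw [A_2, B_2] at hk2
  have c2 := e_type σ₂ hσ₂ (d e₂) (h.dpos e₂) k2 (P e₂) (by linarith)
    (Or.inr (by rw [P_2]; ring))
    (fun h0 => h.killP e₂ (by rw [A_2, B_2]; linarith))
  obtain ⟨k3, hk3⟩ := h.m0 e₃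
  rw [A_3, B_3] at hk3
  have c3 := e_type σ₃ hσ₃ (d e₃) (h.dpos e₃) k3 (Q e₃) (by linarith)
    (Or.inl (by rw [Q_3]; ring))
    (fun h0 => h.killQ e₃ (by rw [A_3, B_3]; linarith))
  obtain ⟨k4, hk4⟩ := h.m0 e₄
  rw [A_4, B_4] at hk4
  have c4 := e_type σ₄ hσ₄ (d e₄) (h.dpos e₄) k4 (Q e₄) (by linarith)
    (Or.inr (by rw [Q_4]; ring))
    (fun h0 => h.killQ e₄ (by rw [A_4, B_4]; linarith))
  obtain ⟨k5, hk5⟩ := h.m0 f₁
  rw [A_5, B_5] at hk5
  have hne5 : d f₁ ≠ 1 := by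
    intro h1
    have h2 := h.lin f₁ h1
    have h3 : ind o f₁ = 0 := hI 0 5
    rw [h2] at h3
    simp [ind] at h3
  have c5 := f_type τ₁ hτ₁ (d f₁) (h.dpos f₁) k5 (P f₁) (by linarith)
    (Or.inr (by rw [P_5]; ring)) hne5
    (fun h0 => h.killP f₁ (by rw [A_5, B_5]; linarith))
  obtain ⟨k6, hk6⟩ := h.m0 f₂
  rw [A_6, B_6] at hk6
  have hne6 : d f₂ ≠ 1 := by
    intro h1
    have h2 := h.lin f₂ h1
    have h3 : ind o f₂ = 0 := hI 0 6
    rw [h2] at h3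
    simp [ind] at h3
  have c6 := f_type τ₂ hτ₂ (d f₂) (h.dpos f₂) k6 (P f₂) (by linarith)
    (Or.inr (by rw [P_6]; ring)) hne6
    (fun h0 => h.killP f₂ (by rw [A_6, B_6]; linarith))
  obtain ⟨k7, hk7⟩ := h.m0 f₃
  rw [A_7, B_7] at hk7
  have hne7 : d f₃ ≠ 1 := by
    intro h1
    have h2 := h.lin f₃ h1
    have h3 : ind o f₃ = 0 := hI 0 7
    rw [h2] at h3
    simp [ind] at h3
  have c7 := f_type τ₃ hτ₃ (d f₃) (h.dpos f₃) k7 (P f₃) (by linarith)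
    (Or.inl (by rw [P_7]; ring)) hne7
    (fun h0 => h.killP f₃ (by rw [A_7, B_7]; linarith))
  obtain ⟨k8, hk8⟩ := h.m0 hh
  rw [A_8, B_8] at hk8
  have c8 := h_type η hη (d hh) (h.dpos hh) k8 (by linarith)
  have q1 := sign_sq hσ₁
  have q2 := sign_sq hσ₂
  have q3 := sign_sq hσ₃
  have q4 := sign_sq hσ₄
  have q5 := sign_sq hτ₁
  have q6 := sign_sq hτ₂
  have q7 := sign_sq hτ₃
  have q8 := sign_sq hη
  refine ⟨σ₁ * (d e₁ : ℤ), σ₂ * (d e₂ : ℤ), σ₃ * (d e₃ : ℤ), σ₄ * (d e₄ : ℤ), τ₁ * (d f₁ : ℤ),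
    τ₂ * (d f₂ : ℤ), τ₃ * (d f₃ : ℤ), η * (d hh : ℤ), ?_⟩
  refine
    { r1 := by linarith
      r2 := by linarith
      r3 := by linarith
      r4 := by linarith
      cX₁ := c1.1
      cX₂ := c2.1
      cX₃ := c3.1
      cX₄ := c4.1
      cY₁ := c5.1
      cY₂ := c6.1
      cY₃ := c7.1
      cH := c8.1
      rX₁ := c1.2
      rX₂ := c2.2
      rX₃ := c3.2
      rX₄ := c4.2
      rY₁ := c5.2
      rY₂ := c6.2
      rY₃ := c7.2
      rH := c8.2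
      E1 := by push_cast; linear_combination sE1
      E2 := by push_cast; linear_combination sE2
      S := by
        have e1 : (σ₁ * (d e₁ : ℤ)) ^ 2 = (d e₁ : ℤ) ^ 2 := by rw [mul_pow, q1, one_mul]
        have e2 : (σ₂ * (d e₂ : ℤ)) ^ 2 = (d e₂ : ℤ) ^ 2 := by rw [mul_pow, q2, one_mul]
        have e3 : (σ₃ * (d e₃ : ℤ)) ^ 2 = (d e₃ : ℤ) ^ 2 := by rw [mul_pow, q3, one_mul]
        have e4 : (σ₄ * (d e₄ : ℤ)) ^ 2 = (d e₄ : ℤ) ^ 2 := by rw [mul_pow, q4, one_mul]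
        have e5 : (τ₁ * (d f₁ : ℤ)) ^ 2 = (d f₁ : ℤ) ^ 2 := by rw [mul_pow, q5, one_mul]
        have e6 : (τ₂ * (d f₂ : ℤ)) ^ 2 = (d f₂ : ℤ) ^ 2 := by rw [mul_pow, q6, one_mul]
        have e7 : (τ₃ * (d f₃ : ℤ)) ^ 2 = (d f₃ : ℤ) ^ 2 := by rw [mul_pow, q7, one_mul]
        have e8 : (η * (d hh : ℤ)) ^ 2 = (d hh : ℤ) ^ 2 := by rw [mul_pow, q8, one_mul]
        rw [e1, e2, e3, e4, e5, e6, e7, e8]
        push_cast at sdd
        linarith
      n10 := h.n10 }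

end

end Cfsg.Agent.Helper72.D8
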