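import Cfsg.Agent.Helper40.E6Tor.Defs
import Cfsg.Agent.Helper55.TorTCOUNT
import Cfsg.Agent.Helper49.E6Tor_ARITH6
import Cfsg.Agent.Helper64.E6Tor_EIG6
import Cfsg.Agent.Helper64.E6Tor_DET6v
import Cfsg.Agent.Helper45.E6Tor_CP6
import Cfsg.Agent.Helper42.TorIDX
import Cfsg.Agent.Helper84.TorZA
import Cfsg.Agent.Helper24.TorTORL
import Cfsg.Agent.Helper69.TorCYC

/-!
# helper40's farm #14814 (S2373, `E₆` Coxeter torus), piece (TCOUNT6)

The twisted torus `twTorus M q` in `(Kˣ)^6`, `M` Coxeter-like, `|K| = q¹²`, is cyclic of order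
`Φ₁₂(q) Φ₃(q)`.  Fork of `Cfsg.Agent.Helper55.Tor.twTorus_cyclic_card` with `A = adjugate (1 - q M)`.
-/

set_option autoImplicit false

namespace Cfsg.Agent.Helper72.E6Tor

open Cfsg.Agent.Helper18 (zact)
open Polynomial
open Cfsg.Agent.Helper80.Tor Cfsg.Agent.Helper40.E6Tor

/-- (TCOUNT6) the twisted torus is cyclic of order `Φ₁₂(q) Φ₃(q)`;
compare `Cfsg.Agent.Helper55.Tor.twTorus_cyclic_card` -/
theorem twTorus_cyclic_card6 {K : Type*} [Field K] [Fintype K] {q : ℕ} (hq : 2 ≤ q)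
    (hK : Fintype.card K = q ^ 12) (M : Matrix (Fin 6) (Fin 6) ℤ) (hM : CoxLike M) :
    IsCyclic ↥(twTorus (G := Kˣ) M q) ∧
      Nat.card ↥(twTorus (G := Kˣ) M q) = (q ^ 4 - q ^ 2 + 1) * (q ^ 2 + q + 1) := by
  obtain ⟨hN, hdvd, h2, h9, -⟩ := Cfsg.Agent.Helper49.E6Tor.arith6 q hq
  set N₀ : ℕ := (q ^ 4 - q ^ 2 + 1) * (q ^ 2 + q + 1) with hN₀def
  have hN₀ : 0 < N₀ := by
    rcases Nat.eq_zero_or_pos N₀ with h | h
    · exact absurd (h ▸ dvd_zero 2) h2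
    · exact h
  have hdet : (1 - (q : ℤ) • M).det = (N₀ : ℤ) := by
    rw [Cfsg.Agent.Helper64.E6Tor.det_one_sub_smul6 q M hM]
    have hq3 : q ^ 3 ≤ q ^ 6 + q ^ 5 := by
      calc q ^ 3 ≤ q ^ 5 := Nat.pow_le_pow_right (by omega) (by norm_num)
        _ ≤ q ^ 6 + q ^ 5 := Nat.le_add_left _ _
    rw [hN]
    push_cast [hq3]
    ring
  have hBA : (1 - (q : ℤ) • M) * (1 - (q : ℤ) • M).adjugate =
      (N₀ : ℤ) • (1 : Matrix (Fin 6) (Fin 6) ℤ) := by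
    rw [Matrix.mul_adjugate, hdet]
  have hAB : (1 - (q : ℤ) • M).adjugate * (1 - (q : ℤ) • M) =
      (N₀ : ℤ) • (1 : Matrix (Fin 6) (Fin 6) ℤ) := by
    rw [Matrix.adjugate_mul, hdet]
  have hT : twTorus (G := Kˣ) M q = (zact (1 - (q : ℤ) • M) : (Fin 6 → Kˣ) →* (Fin 6 → Kˣ)).ker := by
    ext c
    rw [Cfsg.Agent.Helper84.Tor.mem_twTorus_iff, MonoidHom.mem_ker]
  have hcard : Nat.card (zact (1 - (q : ℤ) • M) : (Fin 6 → Kˣ) →* (Fin 6 → Kˣ)).ker = N₀ := by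
    rw [Cfsg.Agent.Helper42.Tor.card_ker_zact_eq (1 - (q : ℤ) • M).adjugate (1 - (q : ℤ) • M) N₀ hN₀ hAB hBA
      (by rw [hK]; exact hdvd), hdet, Int.natAbs_natCast]
  have hchar := Cfsg.Agent.Helper45.E6Tor.charpoly_of_coxLike M hM
  rw [hT]
  refine ⟨?_, hcard⟩
  apply Cfsg.Agent.Helper69.Tor.isCyclic_of_card_torsion_le
  intro ℓ hℓ
  have hfact : Fact ℓ.Prime := ⟨hℓ⟩
  obtain ⟨k, hk, hkd⟩ := Cfsg.Agent.Helper55.Tor.tcount_torsion_card
    (A := ↥(zact (1 - (q : ℤ) • M) : (Fin 6 → Kˣ) →* (Fin 6 → Kˣ)).ker) ℓ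
  rw [hcard] at hkd
  by_cases hℓN : ℓ ∣ N₀
  · by_cases hℓm : ℓ ∣ 12
    · have hsq : ¬ ℓ ^ 2 ∣ N₀ := by
        have h23 : ℓ = 2 ∨ ℓ = 3 := by
          have h12 : (12 : ℕ) = 2 ^ 2 * 3 := by norm_num
          rw [h12] at hℓm
          rcases (Nat.Prime.dvd_mul hℓ).mp hℓm with h | h
          · left
            exact (Nat.prime_dvd_prime_iff_eq hℓ Nat.prime_two).mp (hℓ.dvd_of_dvd_pow h)
          · right
            exact (Nat.prime_dvd_prime_iff_eq hℓ Nat.prime_three).mp h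
        rcases h23 with h | h
        · rw [h] at hℓN
          exact absurd hℓN h2
        · rw [h]
          norm_num
          exact h9
      have hk1 : k ≤ 1 := by
        by_contra hcon
        exact hsq (dvd_trans (pow_dvd_pow ℓ (Nat.lt_of_not_le hcon)) hkd)
      rw [hk]
      calc ℓ ^ k ≤ ℓ ^ 1 := Nat.pow_le_pow_right hℓ.pos hk1
        _ = ℓ := pow_one ℓ
    · have hℓq : ¬ ℓ ∣ q := by
        intro h
        have h1 : ℓ ∣ q ^ 12 := dvd_pow h (by norm_num)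
        have h2' : ℓ ∣ q ^ 12 - 1 := dvd_trans hℓN hdvd
        have h3 : 1 ≤ q ^ 12 := Nat.one_le_pow _ _ (by omega)
        have h4 : ℓ ∣ q ^ 12 - (q ^ 12 - 1) := Nat.dvd_sub h1 h2'
        have h5 : q ^ 12 - (q ^ 12 - 1) = 1 := by omega
        rw [h5] at h4
        exact hℓ.one_lt.ne' (Nat.dvd_one.mp h4)
      exact (Cfsg.Agent.Helper24.Tor.card_torsion_ker_le (K := K) (1 - (q : ℤ) • M)).trans
        (Cfsg.Agent.Helper64.E6Tor.card_ker_mod_le6 hℓm hℓq M hchar)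
  · have hk0 : k = 0 := by
      by_contra hcon
      exact hℓN (dvd_trans (dvd_pow_self ℓ hcon) hkd)
    rw [hk, hk0, pow_zero]
    exact hℓ.one_lt.le

end Cfsg.Agent.Helper72.E6Tor
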