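import Cfsg.Agent.Helper40.E6Tor.Defs2

/-!
# helper40's farm #14814 (S2373, `E₆` Coxeter torus), piece (TINJ27)

The torus `tauT` of the simply connected group on the `27`-dimensional module is parametrised
injectively: six of the `27` weights form a triangular system in the coordinates `⟨a, α_i^∨⟩`.
-/

set_option autoImplicit false

namespace Cfsg.Agent.Helper72.E6Tor

open Cfsg Cfsg.Lie Cfsg.Agent.Helper83.E6C Cfsg.Agent.Helper40.E6Tor

/-- the six weights used: their coordinates -/
theorem tinj_wt_a : (List.range 6).map (wt27 (1, 2, 2)) = [-1, 0, 0, 0, 0, 0] := by decide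
theorem tinj_wt_b : (List.range 6).map (wt27 (0, 2, 2)) = [0, 0, 0, 0, 0, 1] := by decide
theorem tinj_wt_c : (List.range 6).map (wt27 (2, 0, 0)) = [-1, 1, 0, 0, 0, 0] := by decide
theorem tinj_wt_d : (List.range 6).map (wt27 (1, 0, 0)) = [0, -1, 1, 0, 0, 0] := by decide
theorem tinj_wt_e : (List.range 6).map (wt27 (2, 2, 0)) = [0, 0, 0, 0, 1, -1] := by decide
theorem tinj_wt_f : (List.range 6).map (wt27 (0, 0, 1)) = [0, 0, 1, -1, 0, 0] := by decide

/-- the character of the weight `a` written out -/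
theorem tinj_prod {L : Type*} [Field L] (c : Fin 6 → Lˣ) (a : I27) (z : List ℤ)
    (hz : (List.range 6).map (wt27 a) = z) :
    tauChar27 L c a = c 0 ^ z.getD 0 0 * c 1 ^ z.getD 1 0 * c 2 ^ z.getD 2 0 * c 3 ^ z.getD 3 0 *
      c 4 ^ z.getD 4 0 * c 5 ^ z.getD 5 0 := by
  subst hz
  show ∏ i : Fin 6, c i ^ wt27 a i.val = _
  rw [Fin.prod_univ_six]
  rfl

/-- (TINJ27) the torus of the simply connected group is parametrised injectively (the `27` weights
span the weight lattice) -/
theorem tauT_injective {L : Type*} [Field L] : Function.Injective (tauT L) := by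
  rw [injective_iff_map_eq_one]
  intro c hc
  have h : ∀ a : I27, tauChar27 L c a = 1 := by
    intro a
    have h1 := congrArg (fun g : GL I27 L => (g : Matrix I27 I27 L) a a) hc
    simp only [tauT_val, Matrix.diagonal_apply_eq, Units.val_one, Matrix.one_apply_eq] at h1
    exact Units.ext h1
  have ha := h (1, 2, 2)
  have hb := h (0, 2, 2)
  have hcc := h (2, 0, 0)
  have hd := h (1, 0, 0)
  have he := h (2, 2, 0)
  have hf := h (0, 0, 1)
  rw [tinj_prod c _ _ tinj_wt_a] at ha
  rw [tinj_prod c _ _ tinj_wt_b] at hb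
  rw [tinj_prod c _ _ tinj_wt_c] at hcc
  rw [tinj_prod c _ _ tinj_wt_d] at hd
  rw [tinj_prod c _ _ tinj_wt_e] at he
  rw [tinj_prod c _ _ tinj_wt_f] at hf
  simp only [List.getD_cons_zero, List.getD_cons_succ, zpow_zero, zpow_one, zpow_neg, mul_one, one_mul,
    inv_eq_one] at ha hb hcc hd he hf
  have h0 : c 0 = 1 := ha
  have h5 : c 5 = 1 := hb
  have h1 : c 1 = 1 := by rw [h0, inv_one, one_mul] at hcc; exact hcc
  have h2 : c 2 = 1 := by rw [h1, inv_one, one_mul] at hd; exact hd
  have h4 : c 4 = 1 := by rw [h5, inv_one, mul_one] at he; exact he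
  have h3 : c 3 = 1 := by rw [h2, one_mul, inv_eq_one] at hf; exact hf
  funext i
  fin_cases i
  · exact h0
  · exact h1
  · exact h2
  · exact h3
  · exact h4
  · exact h5

end Cfsg.Agent.Helper72.E6Tor
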