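import Mathlib

set_option autoImplicit false

/-!
# A four-dimensional module over `ZMod 2` for `3^2 : D_8` (core computation for S4407)

Data: elements `a b R T` of a group `S` with the relations of the monomial group
`3^2 : D_8` (`R` of order 4 with `R a R⁻¹ = b`, `R b R⁻¹ = a⁻¹`; `T` an involution centralising `a`
and inverting `b`), acting on a `ZMod 2`-module `M` which is irreducible under `a, b, R, T`, with no
nonzero vector fixed by both `a` and `b`, and with a nonzero vector fixed by `a`.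
Then `M` has 16 elements, `⟨R², T⟩` has 4 fixed points and `⟨R², T R⟩` has 2.
-/

namespace Cfsg.Agent.Helper72.F2Mod

variable {S : Type*} [Group S] {M : Type*} [AddCommGroup M] [Module (ZMod 2) M]

lemma add_self_zero (m : M) : m + m = 0 := by
  have h : (2 : ZMod 2) • m = 0 := by
    have h2 : (2 : ZMod 2) = 0 := by decide
    rw [h2, zero_smul]
  rwa [two_smul] at h

lemma eq_of_add_eq_zero {m n : M} (h : m + n = 0) : n = m := by
  have h1 : m + (m + n) = m := by rw [h, add_zero]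
  rw [← add_assoc, add_self_zero, zero_add] at h1
  exact h1

lemma rho_mul (ρ : Representation (ZMod 2) S M) (x y : S) (m : M) :
    ρ (x * y) m = ρ x (ρ y m) := by
  rw [map_mul, Module.End.mul_apply]

lemma rho_one (ρ : Representation (ZMod 2) S M) (m : M) : ρ 1 m = m := by
  rw [map_one, Module.End.one_apply]

/-- A nonzero vector of an invariant subspace fixed by an involutory operator. -/
lemma exists_fixed_of_invol (g : M →ₗ[ZMod 2] M) (hg : ∀ m, g (g m) = m)
    (P : Submodule (ZMod 2) M) (hP : ∀ m ∈ P, g m ∈ P) {w : M} (hw : w ∈ P) (hw0 : w ≠ 0) :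
    ∃ w' ∈ P, w' ≠ 0 ∧ g w' = w' := by
  by_cases h : w + g w = 0
  · exact ⟨w, hw, hw0, eq_of_add_eq_zero h⟩
  · refine ⟨w + g w, P.add_mem hw (hP w hw), h, ?_⟩
    rw [map_add, hg, add_comm]

/-- the coordinate map attached to four vectors -/
noncomputable def coordMap (v : Fin 4 → M) : (Fin 4 → ZMod 2) →ₗ[ZMod 2] M :=
  Fintype.linearCombination (ZMod 2) v

lemma coordMap_apply (v : Fin 4 → M) (c : Fin 4 → ZMod 2) :
    coordMap v c = c 0 • v 0 + c 1 • v 1 + c 2 • v 2 + c 3 • v 3 := by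
  unfold coordMap
  rw [Fintype.linearCombination_apply, Fin.sum_univ_four]

/-- matrix acting on coordinates -/
def actC (N : Fin 4 → Fin 4 → ZMod 2) (c : Fin 4 → ZMod 2) : Fin 4 → ZMod 2 :=
  fun i => N i 0 * c 0 + N i 1 * c 1 + N i 2 * c 2 + N i 3 * c 3

/-- how a linear operator acts on coordinates, given its values on the four vectors -/
lemma coordMap_act (v : Fin 4 → M) (g : M →ₗ[ZMod 2] M) (N : Fin 4 → Fin 4 → ZMod 2)
    (hN : ∀ j, g (v j) = coordMap v (fun i => N i j)) (c : Fin 4 → ZMod 2) :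
    g (coordMap v c) = coordMap v (actC N c) := by
  rw [coordMap_apply, map_add, map_add, map_add, map_smul, map_smul, map_smul, map_smul,
    hN 0, hN 1, hN 2, hN 3]
  simp only [coordMap_apply, actC, smul_add, smul_smul, add_smul, mul_comm]
  abel

lemma zmod2_cases (x : ZMod 2) : x = 0 ∨ x = 1 := by
  revert x; decide

lemma pair_indep (x y : M) (hx : x ≠ 0) (hy : y ≠ 0) (hxy : x + y ≠ 0) (s t : ZMod 2)
    (h : s • x + t • y = 0) : s = 0 ∧ t = 0 := by
  rcases zmod2_cases s with rfl | rfl <;> rcases zmod2_cases t with rfl | rfl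
  · exact ⟨rfl, rfl⟩
  · simp at h; exact absurd h hy
  · simp at h; exact absurd h hx
  · simp at h; exact absurd h hxy

def matA : Fin 4 → Fin 4 → ZMod 2 := ![![1,0,0,0], ![0,1,0,0], ![0,0,1,1], ![0,0,1,0]]
def matB : Fin 4 → Fin 4 → ZMod 2 := ![![0,1,0,0], ![1,1,0,0], ![0,0,1,0], ![0,0,0,1]]
def matR : Fin 4 → Fin 4 → ZMod 2 := ![![0,0,1,1], ![0,0,0,1], ![1,0,0,0], ![0,1,0,0]]
def matT : Fin 4 → Fin 4 → ZMod 2 := ![![1,1,0,0], ![0,1,0,0], ![0,0,1,0], ![0,0,0,1]]

lemma count1 : Nat.card {c : Fin 4 → ZMod 2 // actC matR (actC matR c) = c ∧ actC matT c = c} = 4 := by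
  rw [Nat.card_eq_fintype_card, Fintype.card_subtype]
  decide

lemma count2 : Nat.card {c : Fin 4 → ZMod 2 // actC matR (actC matR c) = c ∧
    actC matT (actC matR c) = c} = 2 := by
  rw [Nat.card_eq_fintype_card, Fintype.card_subtype]
  decide

theorem core (ρ : Representation (ZMod 2) S M) [Finite M] (a b R T : S)
    (ha3 : a ^ 3 = 1) (hb3 : b ^ 3 = 1) (hab : a * b = b * a)
    (hRa : R * a = b * R) (hRb : R * b = a ^ 2 * R)
    (hTa : T * a = a * T) (hTb : T * b = b ^ 2 * T)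
    (hT2 : T * T = 1) (hR4 : R ^ 4 = 1) (hTR : T * R = R ^ 3 * T)
    (h0 : ∀ m, ρ a m = m → ρ b m = m → m = 0)
    (hirr : ∀ N : Submodule (ZMod 2) M, (∀ m ∈ N, ρ a m ∈ N) → (∀ m ∈ N, ρ b m ∈ N) →
      (∀ m ∈ N, ρ R m ∈ N) → (∀ m ∈ N, ρ T m ∈ N) → N = ⊥ ∨ N = ⊤)
    (w : M) (hw : w ≠ 0) (haw : ρ a w = w) :
    Nat.card M = 16 ∧ Nat.card {m : M // ρ (R ^ 2) m = m ∧ ρ T m = m} = 4 ∧
      Nat.card {m : M // ρ (R ^ 2) m = m ∧ ρ (T * R) m = m} = 2 := by
  -- elementwise relations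
  have ea3 : ∀ m, ρ a (ρ a (ρ a m)) = m := fun m => by
    have := congrArg (fun g => ρ g m) ha3
    simpa [pow_succ, rho_mul, rho_one] using this
  have eb3 : ∀ m, ρ b (ρ b (ρ b m)) = m := fun m => by
    have := congrArg (fun g => ρ g m) hb3
    simpa [pow_succ, rho_mul, rho_one] using this
  have eab : ∀ m, ρ a (ρ b m) = ρ b (ρ a m) := fun m => by
    have := congrArg (fun g => ρ g m) hab
    simpa [rho_mul] using this
  have eRa : ∀ m, ρ R (ρ a m) = ρ b (ρ R m) := fun m => by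
    have := congrArg (fun g => ρ g m) hRa
    simpa [rho_mul] using this
  have eRb : ∀ m, ρ R (ρ b m) = ρ a (ρ a (ρ R m)) := fun m => by
    have := congrArg (fun g => ρ g m) hRb
    simpa [pow_succ, rho_mul, rho_one] using this
  have eTa : ∀ m, ρ T (ρ a m) = ρ a (ρ T m) := fun m => by
    have := congrArg (fun g => ρ g m) hTa
    simpa [rho_mul] using this
  have eTb : ∀ m, ρ T (ρ b m) = ρ b (ρ b (ρ T m)) := fun m => by
    have := congrArg (fun g => ρ g m) hTb
    simpa [pow_succ, rho_mul, rho_one] using this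
  have eTT : ∀ m, ρ T (ρ T m) = m := fun m => by
    have := congrArg (fun g => ρ g m) hT2
    simpa [rho_mul, rho_one] using this
  have eR4 : ∀ m, ρ R (ρ R (ρ R (ρ R m))) = m := fun m => by
    have := congrArg (fun g => ρ g m) hR4
    simpa [pow_succ, rho_mul, rho_one] using this
  have eTR : ∀ m, ρ T (ρ R m) = ρ R (ρ R (ρ R (ρ T m))) := fun m => by
    have := congrArg (fun g => ρ g m) hTR
    simpa [pow_succ, rho_mul, rho_one] using this
  -- derived relations for z = R R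
  have eza : ∀ m, ρ R (ρ R (ρ a m)) = ρ a (ρ a (ρ R (ρ R m))) := fun m => by
    rw [eRa, eRb]
  have ezb : ∀ m, ρ R (ρ R (ρ b m)) = ρ b (ρ b (ρ R (ρ R m))) := fun m => by
    rw [eRb, eRa, eRa]
  have ezT : ∀ m, ρ T (ρ R (ρ R m)) = ρ R (ρ R (ρ T m)) := fun m => by
    rw [eTR, eTR, eR4]
  have eaR : ∀ m, ρ a (ρ R m) = ρ R (ρ b (ρ b m)) := fun m => by
    rw [eRb, eRb, ea3]
  -- the fixed subspaces
  let Pa : Submodule (ZMod 2) M := LinearMap.eqLocus (ρ a) LinearMap.id
  have hPa : ∀ m, m ∈ Pa ↔ ρ a m = m := fun m => by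
    simp only [Pa, LinearMap.mem_eqLocus, LinearMap.id_apply]
  let Z : M →ₗ[ZMod 2] M := (ρ R).comp (ρ R)
  have hZ : ∀ m, Z m = ρ R (ρ R m) := fun m => rfl
  let Pz : Submodule (ZMod 2) M := Pa ⊓ LinearMap.eqLocus Z LinearMap.id
  have hPz : ∀ m, m ∈ Pz ↔ ρ a m = m ∧ ρ R (ρ R m) = m := fun m => by
    simp only [Pz, Submodule.mem_inf, hPa, LinearMap.mem_eqLocus, LinearMap.id_apply, hZ]
  obtain ⟨w1, hw1P, hw10, hw1Z⟩ := exists_fixed_of_invol Z (fun m => by simp only [hZ, eR4]) Pa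
    (fun m hm => by
      rw [hPa] at hm ⊢
      rw [hZ]
      have h1 := eza m
      rw [hm] at h1
      calc ρ a (ρ R (ρ R m)) = ρ a (ρ a (ρ a (ρ R (ρ R m)))) := by rw [← h1]
        _ = ρ R (ρ R m) := ea3 _) ((hPa w).2 haw) hw
  rw [hZ] at hw1Z
  rw [hPa] at hw1P
  obtain ⟨w0, hw0P, hw00, hTw⟩ := exists_fixed_of_invol (ρ T) eTT Pz
    (fun m hm => by
      rw [hPz] at hm ⊢
      refine ⟨by rw [← eTa, hm.1], by rw [← ezT, hm.2]⟩) ((hPz w1).2 ⟨hw1P, hw1Z⟩) hw10
  rw [hPz] at hw0P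
  obtain ⟨haw0, hzw0⟩ := hw0P
  -- b b w0 = w0 + b w0
  have hbb : ρ b (ρ b w0) = w0 + ρ b w0 := by
    apply eq_of_add_eq_zero
    apply h0
    · rw [map_add, map_add, haw0, eab, haw0, eab, eab, haw0]
    · rw [map_add, map_add, eb3]; abel
  have hbw0 : ρ b w0 ≠ 0 := fun h => hw00 (by rw [← eb3 w0, h, map_zero, map_zero])
  have hbbw0 : w0 + ρ b w0 ≠ 0 := fun h => hbw0 (by
    have := eb3 w0; rw [hbb, h, map_zero] at this; exact absurd this.symm hw00)
  -- the four vectors
  let v : Fin 4 → M := ![w0, ρ b w0, ρ R w0, ρ R (ρ b w0)]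
  have hv0 : v 0 = w0 := rfl
  have hv1 : v 1 = ρ b w0 := rfl
  have hv2 : v 2 = ρ R w0 := rfl
  have hv3 : v 3 = ρ R (ρ b w0) := rfl
  let F := coordMap v
  have hcol : ∀ (N : Fin 4 → Fin 4 → ZMod 2) (j : Fin 4),
      coordMap v (fun i => N i j) = N 0 j • w0 + N 1 j • ρ b w0 + N 2 j • ρ R w0
        + N 3 j • ρ R (ρ b w0) := fun N j => by
    rw [coordMap_apply, hv0, hv1, hv2, hv3]
  have actA : ∀ c, ρ a (F c) = F (actC matA c) := coordMap_act v (ρ a) matA (by
    intro j
    rw [hcol]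
    fin_cases j
    · show ρ a w0 = _
      simp [matA, haw0]
    · show ρ a (ρ b w0) = _
      simp [matA, eab, haw0]
    · show ρ a (ρ R w0) = _
      rw [eaR, hbb, map_add]
      simp [matA]
    · show ρ a (ρ R (ρ b w0)) = _
      rw [eaR, eb3]
      simp [matA])
  have actB : ∀ c, ρ b (F c) = F (actC matB c) := coordMap_act v (ρ b) matB (by
    intro j
    rw [hcol]
    fin_cases j
    · show ρ b w0 = _
      simp [matB]
    · show ρ b (ρ b w0) = _
      rw [hbb]
      simp [matB]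
    · show ρ b (ρ R w0) = _
      rw [← eRa, haw0]
      simp [matB]
    · show ρ b (ρ R (ρ b w0)) = _
      rw [← eRa, eab, haw0]
      simp [matB])
  have actR : ∀ c, ρ R (F c) = F (actC matR c) := coordMap_act v (ρ R) matR (by
    intro j
    rw [hcol]
    fin_cases j
    · show ρ R w0 = _
      simp [matR]
    · show ρ R (ρ b w0) = _
      simp [matR]
    · show ρ R (ρ R w0) = _
      rw [hzw0]
      simp [matR]
    · show ρ R (ρ R (ρ b w0)) = _
      rw [ezb, hzw0, hbb]
      simp [matR])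
  have actT : ∀ c, ρ T (F c) = F (actC matT c) := coordMap_act v (ρ T) matT (by
    intro j
    rw [hcol]
    fin_cases j
    · show ρ T w0 = _
      simp [matT, hTw]
    · show ρ T (ρ b w0) = _
      rw [eTb, hTw, hbb]
      simp [matT]
    · show ρ T (ρ R w0) = _
      rw [eTR, hTw, hzw0]
      simp [matT]
    · show ρ T (ρ R (ρ b w0)) = _
      rw [eTR, eTb, hTw, ezb, ezb, hzw0, eb3]
      simp [matT])
  -- injectivity
  have hinj : Function.Injective F := by
    rw [← LinearMap.ker_eq_bot, LinearMap.ker_eq_bot']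
    intro c hc
    change coordMap v c = 0 at hc
    rw [coordMap_apply, hv0, hv1, hv2, hv3, add_assoc] at hc
    set u := c 0 • w0 + c 1 • ρ b w0 with hu
    set u' := c 2 • ρ R w0 + c 3 • ρ R (ρ b w0) with hu'
    have huu : u' = u := eq_of_add_eq_zero hc
    have hua : ρ a u = u := by
      rw [hu, map_add, map_smul, map_smul, eab, haw0]
    have hub : ρ b u = u := by
      rw [← huu, hu', map_add, map_smul, map_smul, ← eRa, haw0, ← eRa, eab, haw0]
    have hu0 : u = 0 := h0 u hua hub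
    have h01 := pair_indep w0 (ρ b w0) hw00 hbw0 hbbw0 (c 0) (c 1) (hu ▸ hu0)
    have hu'0 : c 2 • w0 + c 3 • ρ b w0 = 0 := by
      have h1 : ρ R (c 2 • w0 + c 3 • ρ b w0) = 0 := by
        rw [map_add, map_smul, map_smul, ← hu', huu, hu0]
      have h2 := eR4 (c 2 • w0 + c 3 • ρ b w0)
      rw [h1, map_zero, map_zero, map_zero] at h2
      exact h2.symm
    have h23 := pair_indep w0 (ρ b w0) hw00 hbw0 hbbw0 (c 2) (c 3) hu'0
    funext i
    fin_cases i
    · exact h01.1
    · exact h01.2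
    · exact h23.1
    · exact h23.2
  -- surjectivity
  have hsurj : Function.Surjective F := by
    rw [← LinearMap.range_eq_top]
    rcases hirr (LinearMap.range F)
      (by rintro _ ⟨c, rfl⟩; exact ⟨_, (actA c).symm⟩)
      (by rintro _ ⟨c, rfl⟩; exact ⟨_, (actB c).symm⟩)
      (by rintro _ ⟨c, rfl⟩; exact ⟨_, (actR c).symm⟩)
      (by rintro _ ⟨c, rfl⟩; exact ⟨_, (actT c).symm⟩) with h | h
    · exfalso
      have h1 : w0 ∈ LinearMap.range F := by
        refine ⟨![1, 0, 0, 0], ?_⟩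
        change coordMap v _ = w0
        rw [coordMap_apply, hv0]
        simp
      rw [h, Submodule.mem_bot] at h1
      exact hw00 h1
    · exact h
  let E : (Fin 4 → ZMod 2) ≃ M := Equiv.ofBijective F ⟨hinj, hsurj⟩
  have hE : ∀ c, E c = F c := fun c => rfl
  refine ⟨?_, ?_, ?_⟩
  · rw [← Nat.card_congr E, Nat.card_eq_fintype_card]
    simp
  · refine Eq.trans ?_ count1
    refine (Nat.card_congr (Equiv.subtypeEquiv E ?_)).symm
    intro c
    rw [hE, pow_two, rho_mul, actR, actR, actT, hinj.eq_iff, hinj.eq_iff]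
  · refine Eq.trans ?_ count2
    refine (Nat.card_congr (Equiv.subtypeEquiv E ?_)).symm
    intro c
    rw [hE, pow_two, rho_mul, rho_mul, actR, actR, actT, hinj.eq_iff, hinj.eq_iff]

end Cfsg.Agent.Helper72.F2Mod
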