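import Mathlib

set_option autoImplicit false

/-!
# Group-theoretic preliminaries for S4407

* the two four-subgroups `V4 0`, `V4 1` of `DihedralGroup 4` and their classification (`d8_four`);
* `inverts_of_square`: if `R²` acts as a nontrivial involution on an abelian group of order 9 and
  exponent 3, it inverts it;
* stabilisers of a submodule / a vector in a representation over `ZMod 2`.
-/

namespace Cfsg.Agent.Helper72.F2Mod


open DihedralGroup

/-- the four-subgroup `{1, r 2, sr i, sr (i+2)}` of the dihedral group of order 8 -/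
def V4 (i : ZMod 4) : Subgroup (DihedralGroup 4) where
  carrier := {g | g = 1 ∨ g = r 2 ∨ g = sr i ∨ g = sr (i + 2)}
  mul_mem' := by
    intro x y hx hy
    simp only [Set.mem_ofPred_eq] at *
    revert i x y
    decide
  one_mem' := Or.inl rfl
  inv_mem' := by
    intro x hx
    simp only [Set.mem_ofPred_eq] at *
    revert i x
    decide

lemma mem_V4 (i : ZMod 4) (g : DihedralGroup 4) :
    g ∈ V4 i ↔ g = 1 ∨ g = r 2 ∨ g = sr i ∨ g = sr (i + 2) := Iff.rfl

instance (i : ZMod 4) : DecidablePred (· ∈ V4 i) := fun g =>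
  decidable_of_iff _ (mem_V4 i g).symm

lemma card_V4 (i : ZMod 4) : Nat.card (V4 i) = 4 := by
  rw [Nat.card_eq_fintype_card]
  revert i
  decide

lemma V4_exp (i : ZMod 4) : ∀ g ∈ V4 i, g ^ 2 = 1 := by
  intro g hg
  rw [mem_V4] at hg
  revert i g
  decide

lemma V4_two : V4 2 = V4 0 := by
  ext g
  rw [mem_V4, mem_V4]
  revert g
  decide

lemma V4_three : V4 3 = V4 1 := by
  ext g
  rw [mem_V4, mem_V4]
  revert g
  decide

lemma V4_ne : V4 0 ≠ V4 1 := by
  intro h
  have : sr 0 ∈ V4 1 := h ▸ ((mem_V4 0 (sr 0)).2 (by decide))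
  rw [mem_V4] at this
  revert this
  decide

lemma d8_sq (g : DihedralGroup 4) (h : g ^ 2 = 1) : g = 1 ∨ g = r 2 ∨ ∃ i, g = sr i := by
  revert g; decide

lemma d8_sr_sq (i : ZMod 4) : (sr i : DihedralGroup 4) ^ 2 = 1 := by revert i; decide

lemma d8_sr_ne_one (i : ZMod 4) : (sr i : DihedralGroup 4) ≠ 1 := by revert i; decide

lemma d8_sr_mul_sr (i j : ZMod 4) (hji : j ≠ i) (hsq : (sr i * sr j : DihedralGroup 4) ^ 2 = 1) :
    (sr i * sr j : DihedralGroup 4) = r 2 := by
  revert i j; decide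

lemma d8_sr_mem (i j : ZMod 4) (hsq : (sr i * sr j : DihedralGroup 4) ^ 2 = 1) :
    (sr j : DihedralGroup 4) = 1 ∨ sr j = r 2 ∨ sr j = sr i ∨ sr j = sr (i + 2) := by
  revert i j; decide

lemma d8_sr_add_two (i : ZMod 4) : (sr (i + 2) : DihedralGroup 4) = sr i * r 2 := by
  revert i; decide

lemma zmod4_cases (i : ZMod 4) : i = 0 ∨ i = 1 ∨ i = 2 ∨ i = 3 := by revert i; decide

theorem d8_four (B : Subgroup (DihedralGroup 4)) (h4 : Nat.card B = 4)
    (hexp : ∀ g ∈ B, g ^ 2 = 1) : B = V4 0 ∨ B = V4 1 := by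
  -- some reflection lies in B
  have h2 : ∀ g : DihedralGroup 4, g ^ 2 = 1 → g ≠ 1 → Nat.card (Subgroup.zpowers g) = 2 := by
    intro g hg hg1
    rw [Nat.card_zpowers]
    exact orderOf_eq_prime hg hg1
  have hstep1 : ∃ i, sr i ∈ B := by
    by_contra hcon
    push Not at hcon
    have hle : B ≤ Subgroup.zpowers (r 2 : DihedralGroup 4) := by
      intro g hg
      rcases d8_sq g (hexp g hg) with rfl | rfl | ⟨i, rfl⟩
      · exact Subgroup.one_mem _
      · exact Subgroup.mem_zpowers _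
      · exact absurd hg (hcon i)
    have := Subgroup.card_dvd_of_le hle
    rw [h4, h2 (r 2) (by decide) (by decide)] at this
    omega
  obtain ⟨i, hi⟩ := hstep1
  have hstep2 : ∃ g ∈ B, g ≠ 1 ∧ g ≠ sr i := by
    by_contra hcon
    push Not at hcon
    have hle : B ≤ Subgroup.zpowers (sr i : DihedralGroup 4) := by
      intro g hg
      by_cases hg1 : g = 1
      · rw [hg1]; exact Subgroup.one_mem _
      · rw [hcon g hg hg1]; exact Subgroup.mem_zpowers _
    have := Subgroup.card_dvd_of_le hle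
    rw [h4, h2 (sr i) (d8_sr_sq i) (d8_sr_ne_one i)] at this
    omega
  obtain ⟨g, hgB, hg1, hgi⟩ := hstep2
  have hr2 : r 2 ∈ B := by
    rcases d8_sq g (hexp g hgB) with rfl | rfl | ⟨j, rfl⟩
    · exact absurd rfl hg1
    · exact hgB
    · have hm : sr i * sr j ∈ B := B.mul_mem hi hgB
      have hsq := hexp _ hm
      have hji : j ≠ i := fun h => hgi (by rw [h])
      rwa [d8_sr_mul_sr i j hji hsq] at hm
  have hVB : B = V4 i := by
    apply le_antisymm
    · intro x hx
      rw [mem_V4]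
      rcases d8_sq x (hexp x hx) with rfl | rfl | ⟨j, rfl⟩
      · exact Or.inl rfl
      · exact Or.inr (Or.inl rfl)
      · have hm : sr i * sr j ∈ B := B.mul_mem hi hx
        exact d8_sr_mem i j (hexp _ hm)
    · intro x hx
      rw [mem_V4] at hx
      rcases hx with rfl | rfl | rfl | rfl
      · exact B.one_mem
      · exact hr2
      · exact hi
      · rw [d8_sr_add_two]; exact B.mul_mem hi hr2
  have hi4 := zmod4_cases i
  rcases hi4 with rfl | rfl | rfl | rfl
  · exact Or.inl hVB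
  · exact Or.inr hVB
  · exact Or.inl (hVB.trans V4_two)
  · exact Or.inr (hVB.trans V4_three)



lemma no_sq_neg_one_mod3 : ∀ x : ZMod 3, x * x + 1 ≠ 0 := by decide

lemma eq_one_of_sq_of_cube {S : Type*} [Group S] {x : S} (h2 : x * x = 1) (h3 : x ^ 3 = 1) :
    x = 1 := by
  have : x ^ 3 = x * x * x := by rw [pow_succ, pow_two]
  rw [this, h2, one_mul] at h3
  exact h3

/-- An element `R` whose square acts as a nontrivial involution on an abelian group `A` of order 9
and exponent 3: the square inverts `A`. -/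
theorem inverts_of_square {S : Type*} [Group S] (A : Subgroup S) [hAn : A.Normal]
    (hcomm : ∀ x ∈ A, ∀ y ∈ A, x * y = y * x) (hexp3 : ∀ x ∈ A, x ^ 3 = 1)
    (hA9 : Nat.card A = 9) (R : S) (hz2 : (R * R) * (R * R) = 1)
    (hnc : ∃ y ∈ A, MulAut.conj (R * R) y ≠ y) :
    ∀ y ∈ A, MulAut.conj (R * R) y = y⁻¹ := by
  have hκA : ∀ (s : S) (y : S), y ∈ A → MulAut.conj s y ∈ A := fun s y hy => by
    rw [MulAut.conj_apply]; exact hAn.conj_mem y hy s
  have hzz : ∀ y, MulAut.conj (R * R) (MulAut.conj (R * R) y) = y := fun y => by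
    rw [← MulAut.mul_apply, ← map_mul, hz2, map_one, MulAut.one_apply]
  have hRR : ∀ y, MulAut.conj (R * R) y = MulAut.conj R (MulAut.conj R y) := fun y => by
    rw [map_mul, MulAut.mul_apply]
  by_contra hcon
  push Not at hcon
  obtain ⟨y0, hy0A, hy0⟩ := hcon
  obtain ⟨x0, hx0A, hx0⟩ := hnc
  -- `c` is fixed by `z`
  have hcA : y0 * MulAut.conj (R * R) y0 ∈ A := A.mul_mem hy0A (hκA _ y0 hy0A)
  have hc1 : y0 * MulAut.conj (R * R) y0 ≠ 1 := fun h => hy0 (eq_inv_of_mul_eq_one_right h)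
  have hcz : MulAut.conj (R * R) (y0 * MulAut.conj (R * R) y0) = y0 * MulAut.conj (R * R) y0 := by
    rw [map_mul, hzz]; exact hcomm _ (hκA _ y0 hy0A) _ hy0A
  -- `d` is inverted by `z`
  have hdA : x0⁻¹ * MulAut.conj (R * R) x0 ∈ A := A.mul_mem (A.inv_mem hx0A) (hκA _ x0 hx0A)
  have hd1 : x0⁻¹ * MulAut.conj (R * R) x0 ≠ 1 := fun h => hx0 (inv_mul_eq_one.1 h).symm
  have hdz : MulAut.conj (R * R) (x0⁻¹ * MulAut.conj (R * R) x0)
      = (x0⁻¹ * MulAut.conj (R * R) x0)⁻¹ := by
    rw [map_mul, map_inv, hzz, mul_inv_rev, inv_inv]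
  generalize x0⁻¹ * MulAut.conj (R * R) x0 = d at hdA hd1 hdz
  generalize y0 * MulAut.conj (R * R) y0 = c at hcA hc1 hcz
  -- the subgroup of inverted elements
  let D : Subgroup S :=
    { carrier := {y | y ∈ A ∧ MulAut.conj (R * R) y = y⁻¹}
      mul_mem' := by
        rintro y1 y2 ⟨h1A, h1⟩ ⟨h2A, h2⟩
        refine ⟨A.mul_mem h1A h2A, ?_⟩
        rw [map_mul, h1, h2, mul_inv_rev]
        exact hcomm _ (A.inv_mem h1A) _ (A.inv_mem h2A)
      one_mem' := ⟨A.one_mem, by simp⟩
      inv_mem' := by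
        rintro y ⟨hA, h⟩
        exact ⟨A.inv_mem hA, by rw [map_inv, h]⟩ }
  have hDmem : ∀ y, y ∈ D ↔ y ∈ A ∧ MulAut.conj (R * R) y = y⁻¹ := fun y => Iff.rfl
  have hDA : D ≤ A := fun y hy => hy.1
  have hdD : d ∈ D := ⟨hdA, hdz⟩
  have hcD : c ∉ D := by
    rintro ⟨_, h⟩
    rw [hcz] at h
    have h2 : c * c = 1 := by
      nth_rewrite 1 [h]; exact inv_mul_cancel c
    exact hc1 (eq_one_of_sq_of_cube h2 (hexp3 c hcA))
  have hcard : Nat.card D = 3 := by
    have hdvd : Nat.card D ∣ 3 ^ 2 := by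
      have := Subgroup.card_dvd_of_le hDA
      rw [hA9] at this
      norm_num at this ⊢
      exact this
    obtain ⟨k, hk, hkc⟩ := (Nat.dvd_prime_pow Nat.prime_three).1 hdvd
    interval_cases k
    · exfalso
      have hbot : D = ⊥ := Subgroup.card_eq_one.1 (by simpa using hkc)
      have : d ∈ (⊥ : Subgroup S) := hbot ▸ hdD
      exact hd1 (Subgroup.mem_bot.1 this)
    · simpa using hkc
    · exfalso
      have : Finite A := Nat.finite_of_card_ne_zero (by rw [hA9]; norm_num)
      have : D = A := Subgroup.eq_of_le_of_card_ge hDA (by rw [hA9, hkc]; norm_num)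
      exact hcD (this ▸ hcA)
  -- `R` normalises `D`
  have hRd : MulAut.conj R d ∈ D := by
    refine ⟨hκA _ d hdA, ?_⟩
    rw [hRR, ← hRR (d), hdz, map_inv]
  have : Fact (Nat.Prime 3) := ⟨Nat.prime_three⟩
  have htop := zpowers_eq_top_of_prime_card (G := D) hcard (g := ⟨d, hdD⟩)
    (fun h => hd1 (congrArg Subtype.val h))
  have hmem : (⟨MulAut.conj R d, hRd⟩ : D) ∈ Subgroup.zpowers (⟨d, hdD⟩ : D) := by
    rw [htop]; exact Subgroup.mem_top _
  obtain ⟨k, hk⟩ := Subgroup.mem_zpowers_iff.1 hmem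
  have hk' : d ^ k = MulAut.conj R d := by
    have := congrArg Subtype.val hk
    simpa using this
  have h1 : MulAut.conj (R * R) d = d ^ (k * k) := by
    rw [hRR, ← hk', map_zpow, ← hk', ← zpow_mul]
  have h2 : d ^ (k * k + 1) = 1 := by
    rw [zpow_add_one, ← h1, hdz, inv_mul_cancel]
  have hord : orderOf d = 3 := orderOf_eq_prime (hexp3 d hdA) hd1
  have h3 : ((3 : ℕ) : ℤ) ∣ k * k + 1 := by
    rw [← hord]; exact orderOf_dvd_iff_zpow_eq_one.2 h2
  have h4 : ((k * k + 1 : ℤ) : ZMod 3) = 0 := (ZMod.intCast_zmod_eq_zero_iff_dvd _ 3).2 h3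
  push_cast at h4
  exact no_sq_neg_one_mod3 _ h4



variable {S : Type*} [Group S] {M : Type*} [AddCommGroup M] [Module (ZMod 2) M]

/-- stabiliser of a submodule -/
def stabSub [Finite S] (ρ : Representation (ZMod 2) S M) (N : Submodule (ZMod 2) M) : Subgroup S where
  carrier := {s | ∀ m ∈ N, ρ s m ∈ N}
  mul_mem' := by
    intro x y hx hy m hm
    rw [map_mul]
    exact hx _ (hy m hm)
  one_mem' := by
    intro m hm
    simpa using hm
  inv_mem' := by
    intro s hs
    have hpow : ∀ n : ℕ, ∀ m ∈ N, ρ (s ^ n) m ∈ N := by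
      intro n
      induction n with
      | zero => intro m hm; simpa using hm
      | succ n ih =>
        intro m hm
        rw [pow_succ, map_mul]
        exact ih _ (hs m hm)
    have hinv : s⁻¹ = s ^ (orderOf s - 1) := by
      have h1 : s * s ^ (orderOf s - 1) = 1 := by
        rw [← pow_succ', Nat.sub_add_cancel (orderOf_pos s), pow_orderOf_eq_one]
      exact (eq_inv_of_mul_eq_one_right h1).symm ▸ rfl
    intro m hm
    rw [hinv]
    exact hpow _ m hm

lemma mem_stabSub [Finite S] (ρ : Representation (ZMod 2) S M) (N : Submodule (ZMod 2) M) (s : S) :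
    s ∈ stabSub ρ N ↔ ∀ m ∈ N, ρ s m ∈ N := Iff.rfl

/-- stabiliser of a vector -/
def fixStab (ρ : Representation (ZMod 2) S M) (m : M) : Subgroup S where
  carrier := {s | ρ s m = m}
  mul_mem' := by
    intro x y hx hy
    show ρ (x * y) m = m
    rw [map_mul, Module.End.mul_apply, hy, hx]
  one_mem' := by
    show ρ 1 m = m
    simp
  inv_mem' := by
    intro s hs
    show ρ s⁻¹ m = m
    have hs' : ρ s m = m := hs
    calc ρ s⁻¹ m = ρ s⁻¹ (ρ s m) := by rw [hs']
      _ = ρ (s⁻¹ * s) m := by rw [map_mul, Module.End.mul_apply]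
      _ = m := by simp

lemma mem_fixStab (ρ : Representation (ZMod 2) S M) (m : M) (s : S) :
    s ∈ fixStab ρ m ↔ ρ s m = m := Iff.rfl


end Cfsg.Agent.Helper72.F2Mod
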