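import Cfsg.Agent.Helper72.F2ModCore
import Cfsg.Agent.Helper72.F2ModGrp
import Cfsg.Prelude.Def_Transfer

set_option autoImplicit false

/-!
# S4407: faithful irreducible `ZMod 2`-modules of `3^2 : D_8`

`exists_data` extracts generators `a, b` of `A` on which the dihedral group acts monomially;
`core_conj` / `core_twisted` compute the module in the two possible cases; `main` is the statement.
-/

namespace Cfsg.Agent.Helper72.F2Mod

open DihedralGroup

lemma conj_to_mul {S : Type*} [Group S] {g x y : S} (h : MulAut.conj g x = y) : g * x = y * g := by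
  rw [MulAut.conj_apply] at h
  rw [← h]; group

lemma inv_eq_sq_of_cube {S : Type*} [Group S] {x : S} (h : x ^ 3 = 1) : x⁻¹ = x ^ 2 := by
  have : x * x ^ 2 = 1 := by rw [← pow_succ', h]
  exact (eq_inv_of_mul_eq_one_right this).symm ▸ rfl

lemma d8_gen : (⊤ : Subgroup (DihedralGroup 4)) = Subgroup.closure {r 1, sr 0} := by
  symm
  rw [eq_top_iff]
  intro g _
  have hr : ∀ i : ZMod 4, (r i : DihedralGroup 4) ∈ Subgroup.closure {r 1, sr 0} := by
    intro i
    have h1 : (r i : DihedralGroup 4) = (r 1) ^ i.val := by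
      rw [r_one_pow, ZMod.natCast_zmod_val]
    rw [h1]
    exact Subgroup.pow_mem _ (Subgroup.subset_closure (by simp)) _
  cases g with
  | r i => exact hr i
  | sr i =>
    have h1 : (sr i : DihedralGroup 4) = sr 0 * r i := by simp
    rw [h1]
    exact Subgroup.mul_mem _ (Subgroup.subset_closure (by simp)) (hr i)

/-- The group-theoretic data extracted from the hypotheses of S4407. -/
theorem exists_data {S : Type*} [Group S] [Finite S]
    (A : Subgroup S) [hAn : A.Normal] (hA : Cfsg.IsElementaryAbelian 3 A) (hA9 : Nat.card ↥A = 9)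
    (hAC : Subgroup.centralizer (A : Set S) = A) (X : Subgroup S)
    (e : DihedralGroup 4 →* S) (he_inj : Function.Injective e) (he_range : e.range = X) :
    ∃ a b : S, a ∈ A ∧ b ∈ A ∧ a ≠ 1 ∧ a ^ 3 = 1 ∧ b ^ 3 = 1 ∧ a * b = b * a ∧
      MulAut.conj (e (r 1)) a = b ∧ MulAut.conj (e (r 1)) b = a⁻¹ ∧
      MulAut.conj (e (sr 0)) a = a ∧ MulAut.conj (e (sr 0)) b = b⁻¹ ∧
      Subgroup.closure {a, b} = A := by
  have hcomm : ∀ x ∈ A, ∀ y ∈ A, x * y = y * x := fun x hx y hy =>
    congrArg Subtype.val (hA.1.is_comm.comm ⟨x, hx⟩ ⟨y, hy⟩)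
  have hexp3 : ∀ x ∈ A, x ^ 3 = 1 := hA.2
  have hκA : ∀ (s : S) (y : S), y ∈ A → MulAut.conj s y ∈ A := fun s y hy => by
    rw [MulAut.conj_apply]; exact hAn.conj_mem y hy s
  have hX8 : Nat.card X = 8 := by
    rw [← he_range, ← Nat.card_congr (MonoidHom.ofInjective he_inj).toEquiv, DihedralGroup.nat_card]
  have hAX0 : A ⊓ X = ⊥ :=
    (Subgroup.disjoint_of_coprime_natCard (by rw [hA9, hX8]; norm_num)).eq_bot
  have hfa : ∀ x ∈ X, (∀ y ∈ A, MulAut.conj x y = y) → x = 1 := by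
    intro x hxX hx
    have hxC : x ∈ Subgroup.centralizer (A : Set S) := by
      rw [Subgroup.mem_centralizer_iff]
      intro y hy
      have := hx y hy
      rw [MulAut.conj_apply, mul_inv_eq_iff_eq_mul] at this
      exact this.symm
    rw [hAC] at hxC
    have : x ∈ A ⊓ X := ⟨hxC, hxX⟩
    rw [hAX0] at this
    exact Subgroup.mem_bot.1 this
  have heX : ∀ g, e g ∈ X := fun g => he_range ▸ ⟨g, rfl⟩
  have hne : ∀ g : DihedralGroup 4, g ≠ 1 → e g ≠ 1 := fun g hg h =>
    hg (he_inj (h.trans (map_one e).symm))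
  set R := e (r 1) with hR
  set T := e (sr 0) with hT
  have hRR : R * R = e (r 2) := by
    rw [hR, ← map_mul]; congr 1
  have hz1 : R * R ≠ 1 := by
    rw [hRR]; exact hne _ (by decide)
  have hz2 : (R * R) * (R * R) = 1 := by
    rw [hRR, ← map_mul, show (r 2 * r 2 : DihedralGroup 4) = 1 by decide, map_one]
  have hG1 : ∀ y ∈ A, MulAut.conj (R * R) y = y⁻¹ := by
    apply inverts_of_square A hcomm hexp3 hA9 R hz2
    by_contra hcon
    push Not at hcon
    exact hz1 (hfa _ (hRR ▸ heX _) hcon)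
  have hTT : T * T = 1 := by
    rw [hT, ← map_mul, show (sr 0 * sr 0 : DihedralGroup 4) = 1 by decide, map_one]
  have hTz : T * (R * R) ≠ 1 := by
    rw [hRR, hT, ← map_mul]; exact hne _ (by decide)
  have hTni : ∃ y ∈ A, MulAut.conj T y ≠ y⁻¹ := by
    by_contra hcon
    push Not at hcon
    apply hTz
    apply hfa _ (by rw [hRR, hT, ← map_mul]; exact heX _)
    intro y hy
    rw [map_mul, MulAut.mul_apply, hG1 y hy, map_inv, hcon y hy, inv_inv]
  obtain ⟨y, hyA, hy⟩ := hTni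
  have hκTT : ∀ x, MulAut.conj T (MulAut.conj T x) = x := fun x => by
    rw [← MulAut.mul_apply, ← map_mul, hTT, map_one, MulAut.one_apply]
  have haA : y * MulAut.conj T y ∈ A := A.mul_mem hyA (hκA T y hyA)
  have ha1 : y * MulAut.conj T y ≠ 1 := fun h => hy (eq_inv_of_mul_eq_one_right h)
  have hTa : MulAut.conj T (y * MulAut.conj T y) = y * MulAut.conj T y := by
    rw [map_mul, hκTT]; exact hcomm _ (hκA T y hyA) _ hyA
  generalize y * MulAut.conj T y = a at haA ha1 hTa
  have hbA : MulAut.conj R a ∈ A := hκA R a haA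
  have hRb : MulAut.conj R (MulAut.conj R a) = a⁻¹ := by
    rw [← MulAut.mul_apply, ← map_mul, hG1 a haA]
  have hTRκ : ∀ x, MulAut.conj T (MulAut.conj R x)
      = MulAut.conj R (MulAut.conj (R * R) (MulAut.conj T x)) := by
    intro x
    simp only [← MulAut.mul_apply, ← map_mul]
    congr 2
    rw [hT, hR, ← map_mul, ← map_mul, ← map_mul, ← map_mul]
    congr 1
  have hTb : MulAut.conj T (MulAut.conj R a) = (MulAut.conj R a)⁻¹ := by
    rw [hTRκ, hTa, hG1 a haA, map_inv]
  have ha3 : a ^ 3 = 1 := hexp3 a haA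
  have hb3 : (MulAut.conj R a) ^ 3 = 1 := hexp3 _ hbA
  have hb1 : MulAut.conj R a ≠ 1 := fun h => ha1 (by
    have h' : MulAut.conj R a = MulAut.conj R 1 := by rw [h, map_one]
    exact (MulAut.conj R).injective h')
  refine ⟨a, MulAut.conj R a, haA, hbA, ha1, ha3, hb3, hcomm a haA _ hbA, rfl, hRb, hTa, hTb, ?_⟩
  -- generation
  have hbz : MulAut.conj R a ∉ Subgroup.zpowers a := by
    intro hmem
    obtain ⟨k, hk⟩ := Subgroup.mem_zpowers_iff.1 hmem
    have h1 : MulAut.conj T (MulAut.conj R a) = MulAut.conj R a := by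
      rw [← hk, map_zpow, hTa]
    rw [hTb] at h1
    have h2 : MulAut.conj R a * MulAut.conj R a = 1 := by
      nth_rewrite 1 [← h1]; exact inv_mul_cancel _
    exact hb1 (eq_one_of_sq_of_cube h2 hb3)
  have hK : Subgroup.closure {a, MulAut.conj R a} ≤ A := by
    rw [Subgroup.closure_le]
    intro x hx
    rcases hx with rfl | rfl
    · exact haA
    · exact hbA
  have hzK : Subgroup.zpowers a ≤ Subgroup.closure {a, MulAut.conj R a} := by
    rw [Subgroup.zpowers_le]
    exact Subgroup.subset_closure (by simp)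
  have hza : Nat.card (Subgroup.zpowers a) = 3 := by
    have : Fact (Nat.Prime 3) := ⟨Nat.prime_three⟩
    rw [Nat.card_zpowers]; exact orderOf_eq_prime ha3 ha1
  have hdvd : Nat.card (Subgroup.closure {a, MulAut.conj R a}) ∣ 3 ^ 2 := by
    have := Subgroup.card_dvd_of_le hK
    rw [hA9] at this
    norm_num at this ⊢
    exact this
  have h3dvd : 3 ∣ Nat.card (Subgroup.closure {a, MulAut.conj R a}) := by
    rw [← hza]; exact Subgroup.card_dvd_of_le hzK
  obtain ⟨k, hk, hkc⟩ := (Nat.dvd_prime_pow Nat.prime_three).1 hdvd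
  have : Finite A := Nat.finite_of_card_ne_zero (by rw [hA9]; norm_num)
  interval_cases k
  · exfalso
    rw [hkc] at h3dvd
    norm_num at h3dvd
  · exfalso
    have : Subgroup.zpowers a = Subgroup.closure {a, MulAut.conj R a} :=
      Subgroup.eq_of_le_of_card_ge hzK (by rw [hza, hkc]; norm_num)
    apply hbz
    rw [this]
    exact Subgroup.subset_closure (by simp)
  · exact Subgroup.eq_of_le_of_card_ge hK (by rw [hA9, hkc]; norm_num)

lemma inv_sq_of_cube {S : Type*} [Group S] {x : S} (h : x ^ 3 = 1) : (x⁻¹) ^ 2 = x := by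
  rw [inv_eq_sq_of_cube h, ← pow_mul]
  show x ^ 4 = x
  rw [pow_succ, h, one_mul]

lemma zmod4_add_two {i j : ZMod 4} (h : j = i + 2) : i = j + 2 := by
  subst h; revert i; decide

/-- fixed points of the image of `V4 i` -/
lemma fix_map_V4 {S : Type*} [Group S] {M : Type*} [AddCommGroup M] [Module (ZMod 2) M]
    (e : DihedralGroup 4 →* S) (ρ : Representation (ZMod 2) S M) (i j : ZMod 4)
    (hj : j = i ∨ j = i + 2) (m : M) :
    (∀ b ∈ (V4 i).map e, ρ b m = m) ↔ (ρ (e (r 2)) m = m ∧ ρ (e (sr j)) m = m) := by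
  constructor
  · intro h
    refine ⟨h _ (Subgroup.mem_map_of_mem e ((mem_V4 i _).2 (Or.inr (Or.inl rfl)))),
      h _ (Subgroup.mem_map_of_mem e ((mem_V4 i _).2 ?_))⟩
    rcases hj with rfl | rfl
    · exact Or.inr (Or.inr (Or.inl rfl))
    · exact Or.inr (Or.inr (Or.inr rfl))
  · rintro ⟨h1, h2⟩ _ ⟨g, hg, rfl⟩
    have hstep : ρ (e (sr (j + 2))) m = m := by
      rw [d8_sr_add_two, map_mul, rho_mul, h1, h2]
    rcases (mem_V4 i g).1 hg with rfl | rfl | rfl | rfl
    · rw [map_one, rho_one]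
    · exact h1
    · rcases hj with rfl | hj
      · exact h2
      · rw [zmod4_add_two hj]; exact hstep
    · rcases hj with rfl | hj
      · exact hstep
      · rw [← hj]; exact h2

/-- `core` with the relations in conjugation form. -/
theorem core_conj {S : Type*} [Group S] {M : Type*} [AddCommGroup M] [Module (ZMod 2) M]
    (ρ : Representation (ZMod 2) S M) [Finite M] (a b R T : S)
    (ha3 : a ^ 3 = 1) (hb3 : b ^ 3 = 1) (hab : a * b = b * a)
    (hRa : MulAut.conj R a = b) (hRb : MulAut.conj R b = a⁻¹)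
    (hTa : MulAut.conj T a = a) (hTb : MulAut.conj T b = b⁻¹)
    (hT2 : T * T = 1) (hR4 : R ^ 4 = 1) (hTR : T * R = R ^ 3 * T)
    (h0 : ∀ m, ρ a m = m → ρ b m = m → m = 0)
    (hirr : ∀ N : Submodule (ZMod 2) M, (∀ m ∈ N, ρ a m ∈ N) → (∀ m ∈ N, ρ b m ∈ N) →
      (∀ m ∈ N, ρ R m ∈ N) → (∀ m ∈ N, ρ T m ∈ N) → N = ⊥ ∨ N = ⊤)
    (w : M) (hw : w ≠ 0) (haw : ρ a w = w) :
    Nat.card M = 16 ∧ Nat.card {m : M // ρ (R ^ 2) m = m ∧ ρ T m = m} = 4 ∧
      Nat.card {m : M // ρ (R ^ 2) m = m ∧ ρ (T * R) m = m} = 2 := by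
  refine core ρ a b R T ha3 hb3 hab (conj_to_mul hRa) ?_ (conj_to_mul hTa) ?_ hT2 hR4 hTR h0 hirr
    w hw haw
  · rw [← inv_eq_sq_of_cube ha3]; exact conj_to_mul hRb
  · rw [← inv_eq_sq_of_cube hb3]; exact conj_to_mul hTb

/-- The case where `a` has no nonzero fixed vector: pass to `a' = a b⁻¹`, `b' = b a`, `T' = T R`. -/
theorem core_twisted {S : Type*} [Group S] {M : Type*} [AddCommGroup M] [Module (ZMod 2) M]
    (ρ : Representation (ZMod 2) S M) [Finite M] (a b R T : S)
    (ha3 : a ^ 3 = 1) (hb3 : b ^ 3 = 1) (hab : a * b = b * a)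
    (hRa : MulAut.conj R a = b) (hRb : MulAut.conj R b = a⁻¹)
    (hTa : MulAut.conj T a = a) (hTb : MulAut.conj T b = b⁻¹)
    (hT2 : T * T = 1) (hR4 : R ^ 4 = 1) (hTR : T * R = R ^ 3 * T)
    (h0 : ∀ m, ρ a m = m → ρ b m = m → m = 0)
    (hirr : ∀ N : Submodule (ZMod 2) M, (∀ m ∈ N, ρ a m ∈ N) → (∀ m ∈ N, ρ b m ∈ N) →
      (∀ m ∈ N, ρ R m ∈ N) → (∀ m ∈ N, ρ T m ∈ N) → N = ⊥ ∨ N = ⊤)
    (hnoA : ∀ w, ρ a w = w → w = 0) (hM : Nontrivial M) :
    Nat.card M = 16 ∧ Nat.card {m : M // ρ (R ^ 2) m = m ∧ ρ (T * R) m = m} = 4 ∧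
      Nat.card {m : M // ρ (R ^ 2) m = m ∧ ρ (T * R * R) m = m} = 2 := by
  have hc : Commute a b := hab
  -- elementwise relations
  have ea3 : ∀ m, ρ a (ρ a (ρ a m)) = m := fun m => by
    have := congrArg (fun g => ρ g m) ha3
    simpa [pow_succ, rho_mul, rho_one] using this
  have eb3 : ∀ m, ρ b (ρ b (ρ b m)) = m := fun m => by
    have := congrArg (fun g => ρ g m) hb3
    simpa [pow_succ, rho_mul, rho_one] using this
  have eab : ∀ m, ρ b (ρ a m) = ρ a (ρ b m) := fun m => by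
    have := congrArg (fun g => ρ g m) hab
    simpa [rho_mul] using this.symm
  -- no fixed points of b either
  have hnoB : ∀ w, ρ b w = w → w = 0 := by
    intro w hbw
    have h1 : a * R⁻¹ = R⁻¹ * b := by
      rw [← hRa, MulAut.conj_apply]; group
    have h2 : ρ a (ρ R⁻¹ w) = ρ R⁻¹ w := by
      rw [← rho_mul, h1, rho_mul, hbw]
    have h3 := hnoA _ h2
    have h4 : ρ R (ρ R⁻¹ w) = w := by
      rw [← rho_mul, mul_inv_cancel, rho_one]
    rw [h3, map_zero] at h4
    exact h4.symm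
  have hEa : ∀ m, ρ a m + ρ a (ρ a m) = m := by
    intro m
    have h1 : m + ρ a m + ρ a (ρ a m) = 0 := by
      apply hnoA
      rw [map_add, map_add, ea3]; abel
    rw [add_assoc] at h1
    exact eq_of_add_eq_zero h1
  have hEb : ∀ m, ρ b m + ρ b (ρ b m) = m := by
    intro m
    have h1 : m + ρ b m + ρ b (ρ b m) = 0 := by
      apply hnoB
      rw [map_add, map_add, eb3]; abel
    rw [add_assoc] at h1
    exact eq_of_add_eq_zero h1
  -- the twisted data
  have hb2inv : (b ^ 2)⁻¹ = b := by rw [← inv_pow, inv_sq_of_cube hb3]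
  have ha'3 : (a * b ^ 2) ^ 3 = 1 := by
    rw [(hc.pow_right 2).mul_pow, ha3, ← pow_mul, pow_mul', hb3, one_pow, one_mul]
  have hb'3 : (b * a) ^ 3 = 1 := by
    rw [hc.symm.mul_pow, ha3, hb3, one_mul]
  have hRa' : MulAut.conj R (a * b ^ 2) = b * a := by
    rw [map_mul, map_pow, hRa, hRb, inv_sq_of_cube ha3]
  have hRb' : MulAut.conj R (b * a) = (a * b ^ 2)⁻¹ := by
    rw [map_mul, hRa, hRb, (hc.pow_right 2).mul_inv, hb2inv]
  have hTRc : ∀ x, MulAut.conj (T * R) x = MulAut.conj T (MulAut.conj R x) := fun x => by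
    rw [map_mul, MulAut.mul_apply]
  have hTa' : MulAut.conj (T * R) (a * b ^ 2) = a * b ^ 2 := by
    rw [hTRc, hRa', map_mul, hTa, hTb, inv_eq_sq_of_cube hb3]
    exact ((hc.pow_right 2).eq).symm
  have hTb' : MulAut.conj (T * R) (b * a) = (b * a)⁻¹ := by
    rw [hTRc, hRb', map_inv, map_mul, map_pow, hTa, hTb,
      inv_sq_of_cube hb3, mul_inv_rev, mul_inv_rev]
    exact (hc.inv_inv).eq.symm
  have hab' : (a * b ^ 2) * (b * a) = (b * a) * (a * b ^ 2) := by
    have h1 : Commute (a * b ^ 2) (b * a) :=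
      Commute.mul_left (Commute.mul_right hc (Commute.refl a))
        (Commute.mul_right (Commute.pow_left (Commute.refl b) 2) (hc.symm.pow_left 2))
    exact h1.eq
  have hprod : (a * b ^ 2) * (b * a) = a ^ 2 := by
    calc (a * b ^ 2) * (b * a) = a * (b ^ 2 * b) * a := by group
      _ = a ^ 2 := by rw [← pow_succ, hb3, mul_one, pow_two]
  have hT'2 : (T * R) * (T * R) = 1 := by
    calc (T * R) * (T * R) = (R ^ 3 * T) * (T * R) := by rw [hTR]
      _ = R ^ 3 * (T * T) * R := by group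
      _ = 1 := by rw [hT2, mul_one, ← pow_succ, hR4]
  have hT'R : (T * R) * R = R ^ 3 * (T * R) := by
    rw [hTR, mul_assoc, hTR]
  -- fixed vectors
  have h0' : ∀ m, ρ (a * b ^ 2) m = m → ρ (b * a) m = m → m = 0 := by
    intro m h1 h2
    have h3 : ρ (a ^ 2) m = m := by rw [← hprod, rho_mul, h2, h1]
    have h3' : ρ a (ρ a m) = m := by rw [← rho_mul, ← pow_two, h3]
    have h4 : ρ a m = m := by
      have := ea3 m
      rw [h3'] at this
      exact this
    have h5 : ρ b m = m := by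
      have hb : b = (b * a) * a ^ 2 := by
        rw [mul_assoc, ← pow_succ', ha3, mul_one]
      rw [hb, rho_mul, h3, h2]
    exact h0 m h4 h5
  have hirr' : ∀ N : Submodule (ZMod 2) M, (∀ m ∈ N, ρ (a * b ^ 2) m ∈ N) →
      (∀ m ∈ N, ρ (b * a) m ∈ N) → (∀ m ∈ N, ρ R m ∈ N) → (∀ m ∈ N, ρ (T * R) m ∈ N) →
      N = ⊥ ∨ N = ⊤ := by
    intro N h1 h2 h3 h4
    have ha2 : ∀ m ∈ N, ρ (a ^ 2) m ∈ N := by
      intro m hm
      rw [← hprod, rho_mul]
      exact h1 _ (h2 m hm)
    apply hirr N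
    · intro m hm
      have : a = a ^ 2 * a ^ 2 := by
        rw [← pow_add]; show a = a ^ 4; rw [pow_succ, ha3, one_mul]
      rw [this, rho_mul]
      exact ha2 _ (ha2 m hm)
    · intro m hm
      have hb : b = (b * a) * a ^ 2 := by
        rw [mul_assoc, ← pow_succ', ha3, mul_one]
      rw [hb, rho_mul]
      exact h2 _ (ha2 m hm)
    · exact h3
    · intro m hm
      have hT : T = (T * R) * R ^ 3 := by
        rw [mul_assoc, ← pow_succ', hR4, mul_one]
      have hR3 : ∀ m ∈ N, ρ (R ^ 3) m ∈ N := by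
        intro m hm
        rw [pow_succ, pow_two, rho_mul, rho_mul]
        exact h3 _ (h3 _ (h3 m hm))
      rw [hT, rho_mul]
      exact h4 _ (hR3 m hm)
  -- a nonzero vector fixed by a b²
  obtain ⟨w, hw⟩ := exists_ne (0 : M)
  have hsum : (w + ρ a (ρ b w) + ρ a (ρ a (ρ b (ρ b w))))
      + (w + ρ a (ρ b (ρ b w)) + ρ a (ρ a (ρ b w))) = w := by
    calc (w + ρ a (ρ b w) + ρ a (ρ a (ρ b (ρ b w))))
          + (w + ρ a (ρ b (ρ b w)) + ρ a (ρ a (ρ b w)))
        = (w + w) + ρ a (ρ b w + ρ b (ρ b w)) + ρ a (ρ a (ρ b w + ρ b (ρ b w))) := by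
          simp only [map_add]; abel
      _ = w := by rw [add_self_zero, hEb, zero_add, hEa]
  have hfix2 : ρ (a * b ^ 2) (w + ρ a (ρ b (ρ b w)) + ρ a (ρ a (ρ b w)))
      = w + ρ a (ρ b (ρ b w)) + ρ a (ρ a (ρ b w)) := by
    rw [pow_two, rho_mul, rho_mul]
    simp only [map_add, eab, ea3, eb3]
    abel
  have hfix1 : ρ (a * b) (w + ρ a (ρ b w) + ρ a (ρ a (ρ b (ρ b w))))
      = w + ρ a (ρ b w) + ρ a (ρ a (ρ b (ρ b w))) := by
    rw [rho_mul]
    simp only [map_add, eab, ea3, eb3]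
    abel
  have hw' : ∃ w', w' ≠ 0 ∧ ρ (a * b ^ 2) w' = w' := by
    by_cases h2 : w + ρ a (ρ b (ρ b w)) + ρ a (ρ a (ρ b w)) = 0
    · rw [h2, add_zero] at hsum
      rw [hsum] at hfix1
      refine ⟨ρ T w, ?_, ?_⟩
      · intro h
        have h3 : ρ T (ρ T w) = w := by rw [← rho_mul, hT2, rho_one]
        rw [h, map_zero] at h3
        exact hw h3.symm
      · have h3 : MulAut.conj T (a * b) = a * b ^ 2 := by
          rw [map_mul, hTa, hTb, inv_eq_sq_of_cube hb3]
        rw [← rho_mul, ← conj_to_mul h3, rho_mul, hfix1]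
    · exact ⟨_, h2, hfix2⟩
  obtain ⟨w', hw'0, hw'f⟩ := hw'
  have key := core_conj ρ (a * b ^ 2) (b * a) R (T * R) ha'3 hb'3 hab' hRa' hRb' hTa' hTb'
    hT'2 hR4 hT'R h0' hirr' w' hw'0 hw'f
  exact key

theorem main {S : Type*} [Group S] [Finite S]
    (A : Subgroup S) [hAn : A.Normal] (hA : Cfsg.IsElementaryAbelian 3 A) (hA9 : Nat.card ↥A = 9)
    (hAC : Subgroup.centralizer (A : Set S) = A) (X : Subgroup S)
    (hX : Nonempty (↥X ≃* DihedralGroup 4)) (hAX : A ⊔ X = ⊤)
    {M : Type*} [AddCommGroup M] [Module (ZMod 2) M] [Finite M] (ρ : Representation (ZMod 2) S M)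
    (hfaith : Function.Injective ρ)
    (hirr : ∀ N : Submodule (ZMod 2) M, (∀ s : S, ∀ m ∈ N, ρ s m ∈ N) → N = ⊥ ∨ N = ⊤)
    (hM : Nontrivial M) :
    Nat.card M = 16 ∧
      ∃! B : Subgroup S, B ≤ X ∧ Nat.card ↥B = 4 ∧ (∀ b ∈ B, b ^ 2 = 1) ∧
        Nat.card {m : M // ∀ b ∈ B, ρ b m = m} = 2 := by
  obtain ⟨φ⟩ := hX
  let e : DihedralGroup 4 →* S := X.subtype.comp φ.symm.toMonoidHom
  have he_inj : Function.Injective e := X.subtype_injective.comp φ.symm.injective
  have he_range : e.range = X := by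
    ext x
    constructor
    · rintro ⟨g, rfl⟩
      exact (φ.symm g).2
    · intro hx
      exact ⟨φ ⟨x, hx⟩, by simp [e]⟩
  obtain ⟨a, b, haA, hbA, ha1, ha3, hb3, hab, hRa, hRb, hTa, hTb, hgen⟩ :=
    exists_data A hA hA9 hAC X e he_inj he_range
  -- relations among R, T
  have hT2 : e (sr 0) * e (sr 0) = 1 := by
    rw [← map_mul, show (sr 0 * sr 0 : DihedralGroup 4) = 1 by decide, map_one]
  have hR4 : e (r 1) ^ 4 = 1 := by
    rw [← map_pow, show ((r 1) ^ 4 : DihedralGroup 4) = 1 by decide, map_one]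
  have hTR : e (sr 0) * e (r 1) = e (r 1) ^ 3 * e (sr 0) := by
    rw [← map_pow, ← map_mul, ← map_mul]
    congr 1
  have hR2 : e (r 1) ^ 2 = e (r 2) := by
    rw [← map_pow]; congr 1
  have hTRe : e (sr 0) * e (r 1) = e (sr 1) := by
    rw [← map_mul]; congr 1
  have hTRRe : e (sr 0) * e (r 1) * e (r 1) = e (sr 2) := by
    rw [← map_mul, ← map_mul]; congr 1
  -- X ≤ closure {R, T}
  have hXgen : X ≤ Subgroup.closure {e (r 1), e (sr 0)} := by
    rw [← he_range, MonoidHom.range_eq_map, d8_gen, MonoidHom.map_closure, Set.image_pair]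
  -- irreducibility w.r.t. generators
  have hirrG : ∀ N : Submodule (ZMod 2) M, (∀ m ∈ N, ρ a m ∈ N) → (∀ m ∈ N, ρ b m ∈ N) →
      (∀ m ∈ N, ρ (e (r 1)) m ∈ N) → (∀ m ∈ N, ρ (e (sr 0)) m ∈ N) → N = ⊥ ∨ N = ⊤ := by
    intro N h1 h2 h3 h4
    apply hirr N
    have hA_le : A ≤ stabSub ρ N := by
      rw [← hgen, Subgroup.closure_le]
      rintro x (rfl | rfl)
      · exact h1
      · exact h2
    have hX_le : X ≤ stabSub ρ N := by
      refine hXgen.trans ?_
      rw [Subgroup.closure_le]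
      rintro x (rfl | rfl)
      · exact h3
      · exact h4
    have htop : (⊤ : Subgroup S) ≤ stabSub ρ N := hAX ▸ sup_le hA_le hX_le
    intro s
    exact htop (Subgroup.mem_top s)
  -- no vector fixed by A
  have hFixA : ∀ m, (∀ x ∈ A, ρ x m = m) → m = 0 := by
    let N : Submodule (ZMod 2) M :=
      { carrier := {m | ∀ x ∈ A, ρ x m = m}
        add_mem' := by
          intro m n hm hn x hx
          rw [map_add, hm x hx, hn x hx]
        zero_mem' := by
          intro x _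
          rw [map_zero]
        smul_mem' := by
          intro c m hm x hx
          rw [map_smul, hm x hx] }
    have hNmem : ∀ m, m ∈ N ↔ ∀ x ∈ A, ρ x m = m := fun m => Iff.rfl
    rcases hirr N (by
      intro s m hm
      rw [hNmem] at hm ⊢
      intro x hx
      have h1 : x * s = s * (s⁻¹ * x * s) := by group
      have h2 : s⁻¹ * x * s ∈ A := by
        have := hAn.conj_mem x hx s⁻¹
        rwa [inv_inv] at this
      rw [← rho_mul, h1, rho_mul, hm _ h2]) with h | h
    · intro m hm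
      have : m ∈ N := hm
      rw [h] at this
      exact (Submodule.mem_bot _).1 this
    · exfalso
      have h1 : ρ a = ρ 1 := by
        ext m
        have : m ∈ N := h ▸ Submodule.mem_top
        rw [this a haA, rho_one]
      exact ha1 (hfaith h1)
  have h0 : ∀ m, ρ a m = m → ρ b m = m → m = 0 := by
    intro m h1 h2
    apply hFixA
    have hle : A ≤ fixStab ρ m := by
      rw [← hgen, Subgroup.closure_le]
      rintro x (rfl | rfl)
      · exact h1
      · exact h2
    exact fun x hx => hle hx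
  -- the two four-groups
  have hBle : ∀ i, (V4 i).map e ≤ X := fun i => by
    rw [← he_range, MonoidHom.range_eq_map]
    exact Subgroup.map_mono le_top
  have hBcard : ∀ i, Nat.card ((V4 i).map e) = 4 := fun i => by
    rw [Subgroup.card_map_of_injective he_inj, card_V4]
  have hBexp : ∀ i, ∀ x ∈ (V4 i).map e, x ^ 2 = 1 := by
    rintro i _ ⟨g, hg, rfl⟩
    rw [← map_pow, V4_exp i g hg, map_one]
  have hclass : ∀ B : Subgroup S, B ≤ X → Nat.card B = 4 → (∀ x ∈ B, x ^ 2 = 1) →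
      B = (V4 0).map e ∨ B = (V4 1).map e := by
    intro B hBX hB4 hBe
    have hmc : (B.comap e).map e = B := Subgroup.map_comap_eq_self (he_range ▸ hBX)
    have hc4 : Nat.card (B.comap e) = 4 := by
      rw [← Subgroup.card_map_of_injective he_inj, hmc, hB4]
    have hce : ∀ g ∈ B.comap e, g ^ 2 = 1 := by
      intro g hg
      apply he_inj
      rw [map_pow, map_one]
      exact hBe _ hg
    rcases d8_four _ hc4 hce with h | h
    · left; rw [← hmc, h]
    · right; rw [← hmc, h]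
  have hne01 : (V4 0).map e ≠ (V4 1).map e := by
    intro h
    exact V4_ne (Subgroup.map_injective he_inj h)
  have hcardfix : ∀ (i j : ZMod 4), (j = i ∨ j = i + 2) →
      Nat.card {m : M // ∀ x ∈ (V4 i).map e, ρ x m = m}
        = Nat.card {m : M // ρ (e (r 2)) m = m ∧ ρ (e (sr j)) m = m} := by
    intro i j hj
    exact Nat.card_congr (Equiv.subtypeEquivRight (fix_map_V4 e ρ i j hj))
  by_cases hcase : ∃ w, w ≠ 0 ∧ ρ a w = w
  · obtain ⟨w, hw, haw⟩ := hcase
    obtain ⟨h16, h4, h2⟩ := core_conj ρ a b (e (r 1)) (e (sr 0)) ha3 hb3 hab hRa hRb hTa hTb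
      hT2 hR4 hTR h0 hirrG w hw haw
    rw [hR2] at h4 h2
    rw [hTRe] at h2
    refine ⟨h16, (V4 1).map e, ⟨hBle 1, hBcard 1, hBexp 1, ?_⟩, ?_⟩
    · rw [hcardfix 1 1 (Or.inl rfl)]; exact h2
    · rintro B ⟨hBX, hB4, hBe, hBf⟩
      rcases hclass B hBX hB4 hBe with h | h
      · exfalso
        rw [h, hcardfix 0 0 (Or.inl rfl), h4] at hBf
        norm_num at hBf
      · exact h
  · push Not at hcase
    have hnoA : ∀ w, ρ a w = w → w = 0 := fun w hw => by
      by_contra h
      exact hcase w h hw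
    obtain ⟨h16, h4, h2⟩ := core_twisted ρ a b (e (r 1)) (e (sr 0)) ha3 hb3 hab hRa hRb hTa hTb
      hT2 hR4 hTR h0 hirrG hnoA hM
    rw [hR2] at h4 h2
    rw [hTRe] at h4
    rw [hTRRe] at h2
    refine ⟨h16, (V4 0).map e, ⟨hBle 0, hBcard 0, hBexp 0, ?_⟩, ?_⟩
    · rw [hcardfix 0 2 (Or.inr (by decide))]; exact h2
    · rintro B ⟨hBX, hB4, hBe, hBf⟩
      rcases hclass B hBX hB4 hBe with h | h
      · exact h
      · exfalso
        rw [h, hcardfix 1 1 (Or.inl rfl), h4] at hBf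
        norm_num at hBf

end Cfsg.Agent.Helper72.F2Mod
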