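import Cfsg.Agent.S5160

/-!
# A simplicity criterion for the fusion system of a group with `N_G(S) = S C_G(S)`

If no nontrivial proper subgroup of the Sylow `p`-subgroup `S` is strongly closed and every element of
`N_G(S)` acts on `S` as an element of `S`, then `F_S(G)` is simple.  The hypotheses are stated for one
subgroup `S₀` of Sylow order and in terms of elements, so that they can be checked by computation, and the
conclusion holds for every Sylow `p`-subgroup.
-/

set_option autoImplicit false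

namespace Cfsg.Agent.Helper72.FusSimple

open Cfsg Cfsg.FusionSystem Cfsg.Agent.Helper48 Cfsg.Agent.Helper87 Cfsg.Agent.S5160

variable {G : Type*} [Group G]

/-- Strongly closed subgroups of `F_S(G)`, in terms of elements. -/
theorem stronglyClosed_elementwise {S T : Subgroup G} (h : (groupFusionSystem S).StronglyClosed T) :
    T ≤ S ∧ ∀ x ∈ T, ∀ g : G, g * x * g⁻¹ ∈ S → g * x * g⁻¹ ∈ T := by
  refine ⟨h.1, fun x hx g hg => ?_⟩
  have hR : Subgroup.zpowers x ≤ T := by rw [Subgroup.zpowers_le]; exact hx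
  have hφ : conjHom (Subgroup.zpowers x) g ∈ (groupFusionSystem S).Hom (Subgroup.zpowers x) := by
    refine ⟨hR.trans h.1, ?_, g, fun _ => rfl⟩
    rintro ⟨y, k, rfl⟩
    show g * x ^ k * g⁻¹ ∈ S
    have : g * x ^ k * g⁻¹ = (g * x * g⁻¹) ^ k := by
      rw [conj_zpow]
    rw [this]
    exact S.zpow_mem hg k
  exact h.2 _ hR _ hφ ⟨x, Subgroup.mem_zpowers x⟩

/-- The criterion for one Sylow subgroup: no nontrivial proper strongly closed subgroup, and `N_G(S)` acts on `S`
through `S`. -/
theorem isSimple_of_normalizer [Finite G] (p : ℕ) [Fact p.Prime] (S : Sylow p G)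
    (hS1 : (S : Subgroup G) ≠ ⊥)
    (ha : ∀ T : Subgroup G, (groupFusionSystem (S : Subgroup G)).StronglyClosed T →
      T = ⊥ ∨ T = (S : Subgroup G))
    (hN : ∀ n ∈ Subgroup.normalizer ((S : Subgroup G) : Set G), ∃ s ∈ (S : Subgroup G),
      ∀ x ∈ (S : Subgroup G), n * x * n⁻¹ = s * x * s⁻¹) :
    (groupFusionSystem (S : Subgroup G)).IsSimple p := by
  have hFsat : (groupFusionSystem (S : Subgroup G)).IsSaturated p := S5076.result p S
  refine ⟨hFsat, hS1, ?_⟩
  intro T E hEn
  obtain ⟨⟨hEsat, -, hsub, hsc, hinv, hfrat⟩, -⟩ := hEn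
  rcases ha T hsc with h | h
  · left; exact h
  right
  refine ⟨h, ?_⟩
  subst h
  have hE : Good (S : Subgroup G) E :=
    ⟨hsub, fun hh hn => invariance' E hinv hh hn, fun hP hgP => frattini' E hfrat hP hgP⟩
  intro P
  apply Set.Subset.antisymm (hsub P)
  apply hom_subset_of_forall_normalizer hE
  intro n hn
  obtain ⟨s, hs, hns⟩ := hN n hn
  exact (ind_of_mem E le_rfl hs).congr (fun x hx => hns x hx)

/-- The criterion, with the hypotheses on one subgroup `S₀` of Sylow order and the conclusion for all Sylow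
`p`-subgroups. -/
theorem isSimple_of_conj [Finite G] (p : ℕ) [Fact p.Prime] (S₀ : Subgroup G)
    (hcard : Nat.card S₀ = p ^ (Nat.card G).factorization p) (h1 : S₀ ≠ ⊥)
    (hA : ∀ T : Subgroup G, T ≤ S₀ → (∀ x ∈ T, ∀ g : G, g * x * g⁻¹ ∈ S₀ → g * x * g⁻¹ ∈ T) →
      T = ⊥ ∨ T = S₀)
    (hN : ∀ n ∈ Subgroup.normalizer (S₀ : Set G), ∃ s ∈ S₀, ∀ x ∈ S₀, n * x * n⁻¹ = s * x * s⁻¹)
    (S : Sylow p G) : (groupFusionSystem (S : Subgroup G)).IsSimple p := by
  let S' : Sylow p G := Sylow.ofCard S₀ hcard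
  obtain ⟨g, hg⟩ := MulAction.exists_smul_eq G S' S
  have hS : (S : Subgroup G) = conjSub g S₀ := by
    rw [← hg]
    rfl
  have hmem : ∀ x : G, x ∈ (S : Subgroup G) ↔ g⁻¹ * x * g ∈ S₀ := by
    intro x
    rw [hS, mem_conjSub]
  apply isSimple_of_normalizer p S
  · rw [hS]
    exact conjSub_ne_bot h1
  · intro T hT
    obtain ⟨hTS, hTc⟩ := stronglyClosed_elementwise hT
    have hT' := hA (conjSub g⁻¹ T) (by
        intro y hy
        rw [mem_conjSub, inv_inv] at hy
        have := (hmem _).mp (hTS hy)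
        convert this using 1
        group) (by
        intro y hy k hk
        rw [mem_conjSub, inv_inv] at hy ⊢
        have h2 := hTc _ hy (g * k * g⁻¹) (by
          rw [hmem]
          convert hk using 1
          group)
        convert h2 using 1
        group)
    rcases hT' with h | h
    · left
      rw [eq_bot_iff]
      intro y hy
      have : g⁻¹ * y * g⁻¹⁻¹ ∈ conjSub g⁻¹ T := conj_mem_conjSub hy
      rw [h, Subgroup.mem_bot] at this
      rw [Subgroup.mem_bot]
      have h3 : y = g * (g⁻¹ * y * g⁻¹⁻¹) * g⁻¹ := by group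
      rw [h3, this]
      group
    · right
      apply le_antisymm hTS
      intro y hy
      have h2 := (hmem y).mp hy
      rw [← h, mem_conjSub, inv_inv] at h2
      convert h2 using 1
      group
  · intro n hn
    rw [hS, normalizer_conjSub, mem_conjSub] at hn
    obtain ⟨s, hs, hns⟩ := hN _ hn
    refine ⟨g * s * g⁻¹, ?_, fun x hx => ?_⟩
    · rw [hmem]
      convert hs using 1
      group
    · have h2 := hns _ ((hmem x).mp hx)
      have h3 : n * x * n⁻¹ = g * ((g⁻¹ * n * g) * (g⁻¹ * x * g) * (g⁻¹ * n * g)⁻¹) * g⁻¹ := by group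
      rw [h3, h2]
      group

end Cfsg.Agent.Helper72.FusSimple
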