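import Mathlib
import Cfsg.Prelude.Def_Transfer
import Cfsg.Agent.Helper74.HSDefs
import Cfsg.Agent.S3031

/-!
# Piece (T1) of S3032 (helper74's plan, board #5823): `HypE E` and `p` the smallest prime divisor
of `|E|` give a normal `p`-complement of `E` (S3031 applied to the group `↥E`)
-/

set_option autoImplicit false

namespace Cfsg.Agent.Helper72.HS

open Cfsg.Agent.Helper74.HS

universe u

variable {G : Type u} [Group G] [Finite G]

/-- (T1) -/
theorem hasNormalPComplement_of_hypE (E : Subgroup G) (hE : HypE E)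
    {p : ℕ} [Fact p.Prime] (hdiv : p ∣ Nat.card E)
    (hmin : ∀ q : ℕ, q.Prime → q ∣ Nat.card E → p ≤ q) :
    Cfsg.HasNormalPComplement p ↥E := by
  have hp : p.Prime := Fact.out
  obtain ⟨P'⟩ : Nonempty (Sylow p ↥E) := inferInstance
  apply Cfsg.Agent.S3031.result (G := ↥E) hdiv hmin P'
  by_cases hc : IsCyclic ↥(P' : Subgroup ↥E)
  · exact Or.inl hc
  right
  have hinj : Function.Injective E.subtype := E.subtype_injective
  -- the image of P' in G
  set P : Subgroup G := (P' : Subgroup ↥E).map E.subtype with hP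
  have hPE : P ≤ E := Subgroup.map_subtype_le _
  have hPp : IsPGroup p P := P'.2.map E.subtype
  have hsub : P.subgroupOf E = (P' : Subgroup ↥E) := by
    ext x
    rw [Subgroup.mem_subgroupOf, hP, Subgroup.mem_map]
    constructor
    · rintro ⟨n, hn, hnx⟩
      have : n = x := Subtype.ext hnx
      rwa [← this]
    · intro hx
      exact ⟨x, hx, rfl⟩
  have hPs : ¬ p ∣ P.relIndex E := by
    rw [Subgroup.relIndex, hsub]
    exact P'.not_dvd_index
  have hequiv : ↥(P' : Subgroup ↥E) ≃* ↥P := Subgroup.equivMapOfInjective _ E.subtype hinj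
  have hPnc : ¬ IsCyclic ↥P := by
    intro h
    exact hc (isCyclic_of_surjective hequiv.symm hequiv.symm.surjective)
  have hPcard : Nat.card P = Nat.card (P' : Subgroup ↥E) := Nat.card_congr hequiv.symm.toEquiv
  obtain ⟨D, hDP, hD1, hD2, hDF⟩ := hE p hp P hPE hPp hPs hPnc
  have hDE : D ≤ E := hDP.trans hPE
  have hDcard : Nat.card (D.subgroupOf E) = Nat.card D :=
    Nat.card_congr (Subgroup.subgroupOfEquivOfLe hDE).toEquiv
  refine ⟨D.subgroupOf E, ?_, ?_, ?_, ?_⟩
  · rw [← hsub]
    intro x hx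
    rw [Subgroup.mem_subgroupOf] at hx ⊢
    exact hDP hx
  · rw [hDcard]; exact hD1
  · rw [hDcard, ← hPcard]; exact hD2
  · intro E' hE'P hE'card g
    set F : Subgroup G := E'.map E.subtype with hF
    have hFcard : Nat.card F = Nat.card E' :=
      Nat.card_congr (Subgroup.equivMapOfInjective E' E.subtype hinj).symm.toEquiv
    have hFP : F ≤ P := Subgroup.map_mono hE'P
    have hFmem : ∀ x : ↥E, (x : G) ∈ F ↔ x ∈ E' := by
      intro x
      rw [hF, Subgroup.mem_map]
      constructor
      · rintro ⟨n, hn, hnx⟩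
        have : n = x := Subtype.ext hnx
        rwa [← this]
      · intro hx
        exact ⟨x, hx, rfl⟩
    have hFE : F ≤ E := hFP.trans hPE
    have hcond : Nat.card F = Nat.card D ∨ (Nat.card D = 2 ∧ Nat.card F = 4) := by
      rw [hFcard, ← hDcard]; exact hE'card
    have key := hDF F hFP hcond (g : G)
    intro x hx
    rw [Subgroup.mem_inf] at hx
    obtain ⟨hx1, hx2⟩ := hx
    rw [← hFmem]
    apply key
    rw [Subgroup.mem_inf]
    constructor
    · obtain ⟨e, he, hex⟩ := Subgroup.mem_map.mp hx1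
      refine Subgroup.mem_map.mpr ⟨(e : G), (hFmem e).mpr he, ?_⟩
      rw [← hex]
      simp [MulAut.conj_apply]
    · rw [Subgroup.mem_normalizer_iff] at hx2 ⊢
      intro f
      constructor
      · intro hf
        have hfE : f ∈ E := hFE hf
        have h1 : (⟨f, hfE⟩ : ↥E) ∈ E' := (hFmem ⟨f, hfE⟩).mp hf
        have h2 := (hx2 ⟨f, hfE⟩).mp h1
        have h3 := (hFmem _).mpr h2
        simpa using h3
      · intro hf
        have hfE : f ∈ E := by
          have h1 : (x : G) * f * (x : G)⁻¹ ∈ E := hFE hf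
          have h2 : (x : G)⁻¹ * ((x : G) * f * (x : G)⁻¹) * (x : G) ∈ E :=
            E.mul_mem (E.mul_mem (E.inv_mem x.2) h1) x.2
          have h3 : (x : G)⁻¹ * ((x : G) * f * (x : G)⁻¹) * (x : G) = f := by group
          rwa [h3] at h2
        have h1 : x * (⟨f, hfE⟩ : ↥E) * x⁻¹ ∈ E' := by
          rw [← hFmem]
          simpa using hf
        have h2 := (hx2 ⟨f, hfE⟩).mpr h1
        exact (hFmem ⟨f, hfE⟩).mpr h2

end Cfsg.Agent.Helper72.HS
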