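import Mathlib
import Cfsg.Prelude.Def_Transfer
import Cfsg.Agent.Helper74.HSDefs

/-!
# Piece (T2) of S3032 (helper74's plan, board #5823): a normal `p`-complement of a normal
subgroup `E` of `G` is normal in `G`
-/

set_option autoImplicit false

namespace Cfsg.Agent.Helper72.HS

open Cfsg.Agent.Helper74.HS

universe u

variable {G : Type u} [Group G] [Finite G]

/-- (T2) -/
theorem exists_normal_compl_of_hasNormalPComplement (E : Subgroup G) [E.Normal]
    {p : ℕ} [Fact p.Prime] (h : Cfsg.HasNormalPComplement p ↥E) :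
    ∃ K : Subgroup G, K ≤ E ∧ K.Normal ∧ ¬ p ∣ Nat.card K ∧ ∃ j : ℕ, K.relIndex E = p ^ j := by
  have hp : p.Prime := Fact.out
  obtain ⟨P', N, hN, hc⟩ := h
  have hcardmul : Nat.card N * Nat.card (P' : Subgroup ↥E) = Nat.card ↥E := hc.card_mul_card
  have hidx : N.index = Nat.card (P' : Subgroup ↥E) := hc.symm.index_eq_card
  have hE0 : Nat.card ↥E ≠ 0 := Nat.card_pos.ne'
  have hP'card : Nat.card (P' : Subgroup ↥E) = p ^ (Nat.card ↥E).factorization p :=
    P'.card_eq_multiplicity
  have hNp : ¬ p ∣ Nat.card N := by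
    have h1 : Nat.card N = Nat.card ↥E / p ^ (Nat.card ↥E).factorization p := by
      apply (Nat.div_eq_of_eq_mul_left (pow_pos hp.pos _) _).symm
      rw [← hP'card, hcardmul]
    rw [h1]
    exact Nat.not_dvd_ordCompl hp hE0
  have hcop : Nat.Coprime (Nat.card N) N.index := by
    rw [hidx, hP'card]
    exact Nat.Coprime.pow_right _ ((Nat.Prime.coprime_iff_not_dvd hp).mpr hNp).symm
  have hinj : Function.Injective E.subtype := E.subtype_injective
  have hKcard : Nat.card (N.map E.subtype) = Nat.card N :=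
    Nat.card_congr (Subgroup.equivMapOfInjective N E.subtype hinj).symm.toEquiv
  refine ⟨N.map E.subtype, Subgroup.map_subtype_le N, ?_, ?_, (Nat.card ↥E).factorization p, ?_⟩
  · -- normality
    constructor
    intro x hx g
    obtain ⟨n, hn, rfl⟩ := Subgroup.mem_map.mp hx
    have hyE : g * E.subtype n * g⁻¹ ∈ E := Subgroup.Normal.conj_mem inferInstance _ n.2 g
    set y : ↥E := ⟨g * E.subtype n * g⁻¹, hyE⟩ with hy
    have hym : y ^ Nat.card N = 1 := by
      have hn1 : n ^ Nat.card N = 1 := by
        have := pow_card_eq_one' (G := ↥N) (x := ⟨n, hn⟩)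
        exact congrArg Subtype.val this
      apply Subtype.ext
      rw [Subgroup.coe_pow, hy]
      simp only
      rw [conj_pow, ← map_pow, hn1, map_one, mul_one, mul_inv_cancel]
      rfl
    have hyN : y ∈ N := by
      have h1 : orderOf (QuotientGroup.mk y : ↥E ⧸ N) ∣ Nat.card N := by
        apply orderOf_dvd_of_pow_eq_one
        rw [← QuotientGroup.mk_pow, hym]
        rfl
      have h2 : orderOf (QuotientGroup.mk y : ↥E ⧸ N) ∣ N.index := by
        rw [Subgroup.index_eq_card]
        exact orderOf_dvd_natCard _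
      have h3 : orderOf (QuotientGroup.mk y : ↥E ⧸ N) = 1 :=
        Nat.eq_one_of_dvd_coprimes hcop h1 h2
      rw [orderOf_eq_one_iff] at h3
      exact (QuotientGroup.eq_one_iff y).mp h3
    exact Subgroup.mem_map.mpr ⟨y, hyN, rfl⟩
  · rw [hKcard]
    exact hNp
  · rw [Subgroup.relIndex, ← hP'card, ← hidx]
    congr 1
    ext x
    rw [Subgroup.mem_subgroupOf, Subgroup.mem_map]
    constructor
    · rintro ⟨n, hn, hnx⟩
      have : n = x := Subtype.ext hnx
      rwa [← this]
    · intro hx
      exact ⟨x, hx, rfl⟩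

end Cfsg.Agent.Helper72.HS
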