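import Mathlib
import Cfsg.Prelude.Def_Transfer
import Cfsg.Agent.Helper74.HSDefs

/-!
# Piece (T3) of S3032 (helper74's plan, board #5823): `HypE` passes to a normal Hall-type subgroup
-/

set_option autoImplicit false

namespace Cfsg.Agent.Helper72.HS

open Cfsg.Agent.Helper74.HS

universe u

variable {G : Type u} [Group G] [Finite G]

/-- (T3) -/
theorem hypE_of_relIndex_pow {E K : Subgroup G} (hE : HypE E) (hKE : K ≤ E)
    {p : ℕ} [Fact p.Prime] (hK : ¬ p ∣ Nat.card K) {j : ℕ} (hj : K.relIndex E = p ^ j) :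
    HypE K := by
  intro r hr R hRK hR hRs hnc
  have hp : p.Prime := Fact.out
  have hrp : r ≠ p := by
    rintro rfl
    apply hnc
    -- R is a p-group inside K with p ∤ |K|, so R = ⊥
    have hcard : Nat.card R ∣ Nat.card K := Subgroup.card_dvd_of_le hRK
    obtain ⟨n, hn⟩ := hR.exists_card_eq
    have hn0 : n = 0 := by
      by_contra hn0
      apply hK
      refine dvd_trans ?_ hcard
      rw [hn]
      exact dvd_pow_self r hn0
    rw [hn0, pow_zero] at hn
    have : R = ⊥ := Subgroup.card_eq_one.mp hn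
    subst this
    infer_instance
  have hrel : R.relIndex E = R.relIndex K * p ^ j := by
    rw [← hj, Subgroup.relIndex_mul_relIndex _ _ _ hRK hKE]
  refine hE r hr R (hRK.trans hKE) hR ?_ hnc
  rw [hrel]
  intro hdvd
  rcases (Nat.Prime.dvd_mul hr).mp hdvd with h1 | h1
  · exact hRs h1
  · have := (Nat.prime_dvd_prime_iff_eq hr hp).mp (hr.dvd_of_dvd_pow h1)
    exact hrp this

end Cfsg.Agent.Helper72.HS
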