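import Mathlib
import Cfsg.Prelude.Def_Transfer
import Cfsg.Agent.Helper74.HSDefs
import Cfsg.Agent.Helper72.HST1
import Cfsg.Agent.Helper72.HST2
import Cfsg.Agent.Helper72.HST3

/-!
# Piece (T) of S3032 (helper74's plan, board #5823): a normal subgroup `E ≠ ⊥` of `G` with `HypE E`
has a nontrivial Sylow subgroup that is normal in `G` (Sylow tower of `E`, top-down)
-/

set_option autoImplicit false

namespace Cfsg.Agent.Helper72.HS

open Cfsg.Agent.Helper74.HS

universe u

variable {G : Type u} [Group G] [Finite G]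

theorem exists_normal_sylow_of_hypE_aux : ∀ (n : ℕ) (E : Subgroup G), E.Normal → HypE E → E ≠ ⊥ →
    Nat.card E = n →
    ∃ (q : ℕ) (Q : Subgroup G), q.Prime ∧ Q ≤ E ∧ Q.Normal ∧ IsPGroup q Q ∧ Q ≠ ⊥ ∧
      ¬ q ∣ Q.relIndex E := by
  intro n
  induction n using Nat.strong_induction_on with
  | _ n ih =>
    intro E hEn hE hne hcard
    have hE1 : Nat.card E ≠ 1 := fun h => hne (Subgroup.card_eq_one.mp h)
    set p := (Nat.card E).minFac with hpdef
    have hp : p.Prime := Nat.minFac_prime hE1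
    have : Fact p.Prime := ⟨hp⟩
    have hdiv : p ∣ Nat.card E := Nat.minFac_dvd _
    have hmin : ∀ q : ℕ, q.Prime → q ∣ Nat.card E → p ≤ q :=
      fun q hq hqd => Nat.minFac_le_of_dvd hq.two_le hqd
    by_cases hpg : IsPGroup p E
    · refine ⟨p, E, hp, le_rfl, hEn, hpg, hne, ?_⟩
      rw [Subgroup.relIndex_self]
      exact hp.one_lt.ne' ∘ Nat.dvd_one.mp
    · have h1 := hasNormalPComplement_of_hypE E hE hdiv hmin
      obtain ⟨K, hKE, hKn, hKp, j, hj⟩ := exists_normal_compl_of_hasNormalPComplement E h1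
      have hKne : K ≠ ⊥ := by
        rintro rfl
        rw [Subgroup.relIndex_bot_left] at hj
        exact hpg (IsPGroup.of_card hj)
      have hKdvd : Nat.card K ∣ Nat.card E := Subgroup.card_dvd_of_le hKE
      have hKlt : Nat.card K < n := by
        rw [← hcard]
        apply lt_of_le_of_ne (Nat.le_of_dvd Nat.card_pos hKdvd)
        intro heq
        rw [heq] at hKp
        exact hKp hdiv
      have hKhyp : HypE K := hypE_of_relIndex_pow hE hKE hKp hj
      obtain ⟨q, Q, hq, hQK, hQn, hQq, hQne, hQs⟩ := ih (Nat.card K) hKlt K hKn hKhyp hKne rfl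
      refine ⟨q, Q, hq, hQK.trans hKE, hQn, hQq, hQne, ?_⟩
      have hqp : q ≠ p := by
        rintro rfl
        apply hKp
        have hQcard : Nat.card Q ∣ Nat.card K := Subgroup.card_dvd_of_le hQK
        obtain ⟨m, hm⟩ := hQq.exists_card_eq
        have hm0 : m ≠ 0 := by
          rintro rfl
          rw [pow_zero] at hm
          exact hQne (Subgroup.card_eq_one.mp hm)
        refine dvd_trans ?_ hQcard
        rw [hm]
        exact dvd_pow_self _ hm0
      rw [← Subgroup.relIndex_mul_relIndex _ _ _ hQK hKE, hj]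
      intro hdvd
      rcases (Nat.Prime.dvd_mul hq).mp hdvd with h2 | h2
      · exact hQs h2
      · exact hqp ((Nat.prime_dvd_prime_iff_eq hq hp).mp (hq.dvd_of_dvd_pow h2))

/-- (T) -/
theorem exists_normal_sylow_of_hypE (E : Subgroup G) [E.Normal] (hE : HypE E) (hne : E ≠ ⊥) :
    ∃ (q : ℕ) (Q : Subgroup G), q.Prime ∧ Q ≤ E ∧ Q.Normal ∧ IsPGroup q Q ∧ Q ≠ ⊥ ∧
      ¬ q ∣ Q.relIndex E :=
  exists_normal_sylow_of_hypE_aux (Nat.card E) E inferInstance hE hne rfl

end Cfsg.Agent.Helper72.HS
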