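import Cfsg.Agent.Helper72.J1MultData
import Cfsg.Agent.Helper72.StemE8

/-!
# The Schur multiplier of `J1` is trivial

Kernel elements of a finite stem extension of `J1` are killed by the indices of cyclic subgroups of
orders 3, 5, 7, 11, 19 and of an elementary abelian subgroup of order 8 normalised by `jankoX`.
-/

set_option autoImplicit false

namespace Cfsg.Agent.Helper72.J1Mult

open Cfsg Cfsg.Spor Matrix Cfsg.Agent.Helper98.J1 Cfsg.Agent.Helper96.StemBound

set_option maxRecDepth 1000000 in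
theorem slpE_ok : slpOK slpE slpEprog 3 = true := by decide +kernel

theorem slpE_facts : slpE.getD 0 0 = xCode ∧ slpE.getD 1 0 = yCode ∧ slpE.getD 2 0 = tCode ∧
    slpE.getD 27 0 = e1Code ∧ slpE.getD 29 0 = e2Code ∧ slpE.getD 31 0 = e3Code ∧
    slpE.length = 32 := by decide +kernel

set_option maxRecDepth 1000000 in
theorem regE_ok : regOK regEgens regEpts regEmats regEperms regEpar regEpgen = true := by
  decide +kernel

theorem regE_facts : regEgens = [e1Code, e2Code, e3Code] ∧ regEpts.length = 8 := by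
  decide +kernel

set_option maxRecDepth 1000000 in
theorem rels_ok :
    (eqMul xCode e1Code r1Code && eqMul e2Code xCode r1Code &&
      eqMul xCode e2Code r2Code && eqMul e3Code xCode r2Code &&
      eqMul xCode e3Code r3Code && eqMul e1Code e3Code e13Code && eqMul e13Code xCode r3Code &&
      eqMul e3Code e1Code e13Code &&
      eqMul e1Code e2Code c12Code && eqMul e2Code e1Code c12Code &&
      eqMul e2Code e3Code c23Code && eqMul e3Code e2Code c23Code) = true := by decide +kernel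

theorem repE : Rep J1 e1Code ∧ Rep J1 e2Code ∧ Rep J1 e3Code := by
  obtain ⟨h0, h1, h2, h27, h29, h31, hl⟩ := slpE_facts
  have h := rep_of_slp (K := J1) slpE_ok (by
    intro k hk
    have : k = 0 ∨ k = 1 ∨ k = 2 := by omega
    rcases this with rfl | rfl | rfl
    · rw [h0]; exact repX
    · rw [h1]; exact repY
    · rw [h2]; exact repS.2.1)
  exact ⟨h27 ▸ h 27 (by omega), h29 ▸ h 29 (by omega), h31 ▸ h 31 (by omega)⟩

/-- equality of two products in `J1` from the codes -/
theorem mul_eq_mul_of_codes {a b c d : ↥J1} {A B C D E : ℕ}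
    (ha : ((a : G7) : Matrix (Fin 7) (Fin 7) (ZMod 11)) = toMat A)
    (hb : ((b : G7) : Matrix (Fin 7) (Fin 7) (ZMod 11)) = toMat B)
    (hc : ((c : G7) : Matrix (Fin 7) (Fin 7) (ZMod 11)) = toMat C)
    (hd : ((d : G7) : Matrix (Fin 7) (Fin 7) (ZMod 11)) = toMat D)
    (h1 : eqMul A B E = true) (h2 : eqMul C D E = true) : a * b = c * d := by
  apply Subtype.ext
  apply Units.ext
  rw [Subgroup.coe_mul, Subgroup.coe_mul, Units.val_mul, Units.val_mul, ha, hb, hc, hd,
    eqMul_spec h1, eqMul_spec h2]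

/-- index of a cyclic subgroup of `J1` -/
theorem index_zpowers (r : ↥J1) : (Subgroup.zpowers r).index * orderOf r = 175560 := by
  have := Subgroup.card_mul_index (Subgroup.zpowers r)
  rw [Nat.card_zpowers, card_J1] at this
  rw [mul_comm]; exact this

theorem exists_orderOf_three : ∃ r : ↥J1, orderOf r = 3 := by
  obtain ⟨g, hg, e⟩ := repAB.2
  have hok : regOK [bCode] regBpts regBmats regBperms regBpar regBpgen = true := by
    rw [← regB_facts.1]; exact regB_ok
  have hord := orderOf_of_reg hok (by rw [regB_facts.2]; norm_num) (⟨g, hg⟩ : ↥J1) e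
  rw [regB_facts.2] at hord
  exact ⟨_, hord⟩

theorem exists_orderOf_five : ∃ r : ↥J1, orderOf r = 5 := by
  obtain ⟨g, hg, e⟩ := repY
  have hok : regOK [yCode] regYpts regYmats regYperms regYpar regYpgen = true := by
    rw [← regY_facts.1]; exact regY_ok
  have hord := orderOf_of_reg hok (by rw [regY_facts.2]; norm_num) (⟨g, hg⟩ : ↥J1) e
  rw [regY_facts.2] at hord
  exact ⟨_, hord⟩

theorem exists_orderOf_seven : ∃ r : ↥J1, orderOf r = 7 := by
  have hok : regOK [xCode] regXpts regXmats regXperms regXpar regXpgen = true := by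
    rw [← regX_facts.1]; exact regX_ok
  have hord := orderOf_of_reg hok (by rw [regX_facts.2]; norm_num) xJ jankoX_coe
  rw [regX_facts.2] at hord
  exact ⟨_, hord⟩

theorem exists_orderOf_eleven : ∃ r : ↥J1, orderOf r = 11 := by
  obtain ⟨g, hg, e⟩ := repS.1
  have hok : regOK [rrCode] regRpts regRmats regRperms regRpar regRpgen = true := by
    rw [← regR_facts.1]; exact regR_ok
  have hord := orderOf_of_reg hok (by rw [regR_facts.2]; norm_num) (⟨g, hg⟩ : ↥J1) e
  rw [regR_facts.2] at hord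
  exact ⟨_, hord⟩

theorem exists_orderOf_nineteen : ∃ r : ↥J1, orderOf r = 19 := by
  obtain ⟨g, hg, e⟩ := repAB.1
  have hok : regOK [aCode] regApts regAmats regAperms regApar regApgen = true := by
    rw [← regA_facts.1]; exact regA_ok
  have hord := orderOf_of_reg hok (by rw [regA_facts.2]; norm_num) (⟨g, hg⟩ : ↥J1) e
  rw [regA_facts.2] at hord
  exact ⟨_, hord⟩

/-- Three commuting involutions permuted by `jankoX`, generating a subgroup of index 21945. -/
theorem exists_E8 : ∃ t₁ t₂ t₃ : ↥J1,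
    t₁ * t₂ = t₂ * t₁ ∧ t₂ * t₃ = t₃ * t₂ ∧ t₃ * t₁ = t₁ * t₃ ∧
    xJ * t₁ = t₂ * xJ ∧ xJ * t₂ = t₃ * xJ ∧ xJ * t₃ = t₁ * t₃ * xJ ∧
    (Subgroup.closure ({t₁, t₂, t₃} : Set ↥J1)).index = 21945 := by
  obtain ⟨⟨g1, hg1, m1⟩, ⟨g2, hg2, m2⟩, ⟨g3, hg3, m3⟩⟩ := repE
  have hr := rels_ok
  simp only [Bool.and_eq_true] at hr
  obtain ⟨⟨⟨⟨⟨⟨⟨⟨⟨⟨⟨r1, r2⟩, r3⟩, r4⟩, r5⟩, r6⟩, r7⟩, r8⟩, r9⟩, r10⟩, r11⟩, r12⟩ := hr
  have mx : ((xJ : G7) : Matrix (Fin 7) (Fin 7) (ZMod 11)) = toMat xCode := jankoX_coe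
  set t₁ : ↥J1 := ⟨g1, hg1⟩ with ht1
  set t₂ : ↥J1 := ⟨g2, hg2⟩ with ht2
  set t₃ : ↥J1 := ⟨g3, hg3⟩ with ht3
  have n1 : ((t₁ : G7) : Matrix (Fin 7) (Fin 7) (ZMod 11)) = toMat e1Code := m1
  have n2 : ((t₂ : G7) : Matrix (Fin 7) (Fin 7) (ZMod 11)) = toMat e2Code := m2
  have n3 : ((t₃ : G7) : Matrix (Fin 7) (Fin 7) (ZMod 11)) = toMat e3Code := m3
  have n13 : (((t₁ * t₃ : ↥J1) : G7) : Matrix (Fin 7) (Fin 7) (ZMod 11)) = toMat e13Code := by
    rw [Subgroup.coe_mul, Units.val_mul, n1, n3, eqMul_spec r6]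
  refine ⟨t₁, t₂, t₃, mul_eq_mul_of_codes n1 n2 n2 n1 r9 r10, mul_eq_mul_of_codes n2 n3 n3 n2 r11 r12,
    mul_eq_mul_of_codes n3 n1 n1 n3 r8 r6, mul_eq_mul_of_codes mx n1 n2 mx r1 r2,
    mul_eq_mul_of_codes mx n2 n3 mx r3 r4, mul_eq_mul_of_codes mx n3 n13 mx r5 r7, ?_⟩
  -- the order of the subgroup
  have hok : regOK [e1Code, e2Code, e3Code] regEpts regEmats regEperms regEpar regEpgen = true := by
    rw [← regE_facts.1]; exact regE_ok
  let gs : ℕ → G7 := fun j => if j = 0 then g1 else if j = 1 then g2 else g3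
  obtain ⟨hcard, -, -⟩ := reg_level hok (by rw [regE_facts.2]; norm_num) gs (by
    intro j hj
    have : j = 0 ∨ j = 1 ∨ j = 2 := by
      simp only [List.length_cons, List.length_nil] at hj
      omega
    rcases this with rfl | rfl | rfl
    · exact m1
    · exact m2
    · exact m3)
  have hset : {g : G7 | ∃ j < [e1Code, e2Code, e3Code].length, g = gs j} = {g1, g2, g3} := by
    ext g
    simp only [List.length_cons, List.length_nil, Set.mem_ofPred_eq, Set.mem_insert_iff,
      Set.mem_singleton_iff]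
    constructor
    · rintro ⟨j, hj, rfl⟩
      have : j = 0 ∨ j = 1 ∨ j = 2 := by omega
      rcases this with rfl | rfl | rfl
      · left; rfl
      · right; left; rfl
      · right; right; rfl
    · rintro (rfl | rfl | rfl)
      · exact ⟨0, by norm_num, rfl⟩
      · exact ⟨1, by norm_num, rfl⟩
      · exact ⟨2, by norm_num, rfl⟩
  rw [hset, regE_facts.2] at hcard
  have hmap : (Subgroup.closure ({t₁, t₂, t₃} : Set ↥J1)).map J1.subtype =
      Subgroup.closure ({g1, g2, g3} : Set G7) := by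
    rw [MonoidHom.map_closure]
    congr 1
    ext g
    simp only [Set.mem_image, Set.mem_insert_iff, Set.mem_singleton_iff]
    constructor
    · rintro ⟨s, (rfl | rfl | rfl), rfl⟩
      · left; rfl
      · right; left; rfl
      · right; right; rfl
    · rintro (rfl | rfl | rfl)
      · exact ⟨t₁, Or.inl rfl, rfl⟩
      · exact ⟨t₂, Or.inr (Or.inl rfl), rfl⟩
      · exact ⟨t₃, Or.inr (Or.inr rfl), rfl⟩
  have hc8 : Nat.card (Subgroup.closure ({t₁, t₂, t₃} : Set ↥J1)) = 8 := by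
    rw [← Subgroup.card_map_of_injective (Subgroup.subtype_injective J1), hmap, hcard]
  have := Subgroup.card_mul_index (Subgroup.closure ({t₁, t₂, t₃} : Set ↥J1))
  rw [hc8, card_J1] at this
  omega

/-- Every finite stem extension of `J1` has trivial kernel. -/
theorem ker_eq_one {Γ : Type} [Group Γ] [Finite Γ] (σ : Γ →* ↥J1) (hσ : Cfsg.IsStemExtension σ)
    {z : Γ} (hz : z ∈ σ.ker) : z = 1 := by
  obtain ⟨t₁, t₂, t₃, h12, h23, h31, h1, h2, h3, hidx⟩ := exists_E8
  have p2 := Cfsg.Agent.Helper72.StemE8.ker_pow_index_closure σ hσ xJ t₁ t₂ t₃ h12 h23 h31 h1 h2 h3 hz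
  rw [hidx] at p2
  have key : ∀ (p m : ℕ), (∃ r : ↥J1, orderOf r = p) → m * p = 175560 → 0 < p → z ^ m = 1 := by
    rintro p m ⟨r, hr⟩ hm hp
    have h := ker_pow_index_zpowers σ hσ r hz
    have hi := index_zpowers r
    rw [hr] at hi
    have : (Subgroup.zpowers r).index = m := by
      have : (Subgroup.zpowers r).index * p = m * p := by rw [hi, hm]
      exact Nat.eq_of_mul_eq_mul_right hp this
    rw [this] at h
    exact h
  have p3 := key 3 58520 exists_orderOf_three (by norm_num) (by norm_num)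
  have p5 := key 5 35112 exists_orderOf_five (by norm_num) (by norm_num)
  have p7 := key 7 25080 exists_orderOf_seven (by norm_num) (by norm_num)
  have p11 := key 11 15960 exists_orderOf_eleven (by norm_num) (by norm_num)
  have p19 := key 19 9240 exists_orderOf_nineteen (by norm_num) (by norm_num)
  have d2 := orderOf_dvd_of_pow_eq_one p2
  have d3 := orderOf_dvd_of_pow_eq_one p3
  have d5 := orderOf_dvd_of_pow_eq_one p5
  have d7 := orderOf_dvd_of_pow_eq_one p7
  have d11 := orderOf_dvd_of_pow_eq_one p11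
  have d19 := orderOf_dvd_of_pow_eq_one p19
  have g1 : orderOf z ∣ Nat.gcd 21945 58520 := Nat.dvd_gcd d2 d3
  have g2 : orderOf z ∣ Nat.gcd (Nat.gcd 21945 58520) 35112 := Nat.dvd_gcd g1 d5
  have g3 : orderOf z ∣ Nat.gcd (Nat.gcd (Nat.gcd 21945 58520) 35112) 25080 := Nat.dvd_gcd g2 d7
  have g4 : orderOf z ∣ Nat.gcd (Nat.gcd (Nat.gcd (Nat.gcd 21945 58520) 35112) 25080) 15960 :=
    Nat.dvd_gcd g3 d11
  have g5 : orderOf z ∣
      Nat.gcd (Nat.gcd (Nat.gcd (Nat.gcd (Nat.gcd 21945 58520) 35112) 25080) 15960) 9240 :=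
    Nat.dvd_gcd g4 d19
  have e : Nat.gcd (Nat.gcd (Nat.gcd (Nat.gcd (Nat.gcd 21945 58520) 35112) 25080) 15960) 9240 = 1 := by
    norm_num
  rw [e, Nat.dvd_one] at g5
  exact orderOf_eq_one_iff.1 g5

end Cfsg.Agent.Helper72.J1Mult
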