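import Cfsg.Agent.Helper77.KW.Defs

/-!
# S4588 piece (C3) for helper77: a class function seen by some PIM-type function is seen by two
test functions
-/

set_option autoImplicit false

namespace Cfsg.Agent.Helper72.KW

open Cfsg Cfsg.Agent.Helper77.KW
open scoped ComplexConjugate
open Cfsg.Agent.S4426 (cut)

universe u

variable {H : Type u} [Group H] [Fintype H] {p : ℕ} [Fact p.Prime] {M : Ideal AlgInt}
  (z : H) [(Subgroup.zpowers z).Normal] (n : ℕ) (D : PimData p M (H ⧸ Subgroup.zpowers z))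

theorem C3_classInner_cut_sub (f g F : H → ℂ) :
    classInner (cut p 1 (f - g)) F = classInner (cut p 1 f) F - classInner (cut p 1 g) F := by
  unfold classInner cut
  rw [← mul_sub, ← Finset.sum_sub_distrib]
  congr 1
  refine Finset.sum_congr rfl fun x _ => ?_
  by_cases hx : p ∣ orderOf x
  · simp [hx]
  · simp [hx]; ring

theorem C3_pad_zero : pad z n D 0 = 0 := by
  unfold pad
  rw [dif_neg]
  rintro ⟨h, _⟩
  exact absurd h (lt_irrefl 0)

theorem C3_pad_succ (i : Fin D.e) : pad z n D ((i : ℕ) + 1) = lift z n D i := by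
  unfold pad
  rw [dif_pos ⟨Nat.succ_pos _, by simpa using i.2⟩]
  congr 1

theorem C3_pad_large (m : ℕ) (hm : D.e < m) : pad z n D m = 0 := by
  unfold pad
  rw [dif_neg]
  rintro ⟨_, h⟩
  omega

theorem C3_classInner_cut_zero (F : H → ℂ) : classInner (cut p 1 (0 : H → ℂ)) F = 0 := by
  unfold classInner cut
  simp

/-- a sequence vanishing at `0` and beyond `e` which is nonzero somewhere has two different
jumps. -/
theorem C3_two_jumps (e : ℕ) (a : ℕ → ℂ) (h0 : a 0 = 0) (he : ∀ m, e < m → a m = 0)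
    (h : ∃ m, a m ≠ 0) :
    ∃ j₁ j₂ : ℕ, j₁ < e + 1 ∧ j₂ < e + 1 ∧ j₁ ≠ j₂ ∧ a (j₁ + 1) - a j₁ ≠ 0 ∧
      a (j₂ + 1) - a j₂ ≠ 0 := by
  classical
  -- the first index with `a m ≠ 0`
  let m₁ := Nat.find h
  have hm₁ : a m₁ ≠ 0 := Nat.find_spec h
  have hm₁min : ∀ k, k < m₁ → a k = 0 := fun k hk => by
    by_contra hne
    exact Nat.find_min h hk hne
  have hm₁pos : 0 < m₁ := by
    rcases Nat.eq_zero_or_pos m₁ with h' | h'
    · rw [h'] at hm₁; exact absurd h0 hm₁
    · exact h'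
  have hm₁le : m₁ ≤ e := by
    by_contra hlt
    exact hm₁ (he m₁ (by omega))
  -- the last index `≤ e` with `a m ≠ 0`
  have h2 : ∃ k, k ≤ e ∧ a (e - k) ≠ 0 := ⟨e - m₁, by omega, by
    rw [show e - (e - m₁) = m₁ by omega]; exact hm₁⟩
  let k₂ := Nat.find h2
  have hk₂ : k₂ ≤ e ∧ a (e - k₂) ≠ 0 := Nat.find_spec h2
  have hk₂min : ∀ k, k < k₂ → a (e - k) = 0 := fun k hk => by
    by_contra hne
    exact Nat.find_min h2 hk ⟨by omega, hne⟩
  set m₂ := e - k₂ with hm₂
  have hm₂ne : a m₂ ≠ 0 := hk₂.2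
  have hm₂succ : a (m₂ + 1) = 0 := by
    rcases Nat.eq_zero_or_pos k₂ with h' | h'
    · apply he; omega
    · have := hk₂min (k₂ - 1) (by omega)
      rwa [show e - (k₂ - 1) = m₂ + 1 by omega] at this
  have hm₁m₂ : m₁ ≤ m₂ := by
    by_contra hlt
    exact hm₂ne (hm₁min m₂ (by omega))
  refine ⟨m₁ - 1, m₂, by omega, by omega, by omega, ?_, ?_⟩
  · rw [show m₁ - 1 + 1 = m₁ by omega, hm₁min (m₁ - 1) (by omega), sub_zero]
    exact hm₁
  · rw [hm₂succ, zero_sub]
    exact neg_ne_zero.mpr hm₂ne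

/-- (C3) a class function seen by some PIM-type function is seen by two test functions -/
theorem exists_two_test_ne_zero (F : H → ℂ)
    (h : ∃ i : Fin D.e, classInner (cut p 1 (lift z n D i)) F ≠ 0) :
    ∃ j₁ j₂ : Fin (D.e + 1), j₁ ≠ j₂ ∧ classInner (cut p 1 (test z n D j₁)) F ≠ 0 ∧
      classInner (cut p 1 (test z n D j₂)) F ≠ 0 := by
  obtain ⟨i, hi⟩ := h
  set a : ℕ → ℂ := fun m => classInner (cut p 1 (pad z n D m)) F with ha
  have h0 : a 0 = 0 := by
    show classInner (cut p 1 (pad z n D 0)) F = 0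
    rw [C3_pad_zero, C3_classInner_cut_zero]
  have he : ∀ m, D.e < m → a m = 0 := fun m hm => by
    show classInner (cut p 1 (pad z n D m)) F = 0
    rw [C3_pad_large z n D m hm, C3_classInner_cut_zero]
  have hex : ∃ m, a m ≠ 0 := ⟨(i : ℕ) + 1, by
    show classInner (cut p 1 (pad z n D ((i : ℕ) + 1))) F ≠ 0
    rw [C3_pad_succ]; exact hi⟩
  obtain ⟨j₁, j₂, hj₁, hj₂, hne, h1, h2⟩ := C3_two_jumps D.e a h0 he hex
  have key : ∀ (j : ℕ) (hj : j < D.e + 1),
      classInner (cut p 1 (test z n D ⟨j, hj⟩)) F = a (j + 1) - a j := by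
    intro j hj
    show classInner (cut p 1 (pad z n D (j + 1) - pad z n D j)) F = _
    rw [C3_classInner_cut_sub]
  refine ⟨⟨j₁, hj₁⟩, ⟨j₂, hj₂⟩, ?_, ?_, ?_⟩
  · intro heq
    exact hne (Fin.mk.inj_iff.mp heq)
  · rw [key]; exact h1
  · rw [key]; exact h2

end Cfsg.Agent.Helper72.KW
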