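import Cfsg.Agent.Helper7.TableIso
import Cfsg.Agent.Helper7.Chain

/-!
# Subgroups of a permutation group on the 24 points given by a closed list of tables

Generic part of the computation of strongly closed subgroups and normalizers by tables.
-/

set_option autoImplicit false

namespace Cfsg.Agent.Helper72.TabSub

open Cfsg Cfsg.Agent.Helper7

theorem tableOf_mul (g h : Equiv.Perm GolayPt) : tableOf (g * h) = compT (tableOf g) (tableOf h) :=
  (((isTable_tableOf g).mul (isTable_tableOf h)).eq_tableOf).symm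

theorem tableOf_inv (g : Equiv.Perm GolayPt) : tableOf g⁻¹ = invT (tableOf g) :=
  ((isTable_tableOf g).inv.eq_tableOf).symm

theorem tableOf_one : tableOf 1 = idT := (isTable_one.eq_tableOf).symm

theorem tableOf_injective : Function.Injective tableOf := by
  intro g h e
  have := isTable_tableOf g
  rw [e] at this
  exact this.inj (isTable_tableOf h)

/-- Table of a conjugate. -/
def conjT (c x : List ℕ) : List ℕ := compT c (compT x (invT c))

theorem tableOf_conj (c x : Equiv.Perm GolayPt) :
    tableOf (c * x * c⁻¹) = conjT (tableOf c) (tableOf x) := by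
  rw [mul_assoc, tableOf_mul, tableOf_mul, tableOf_inv]
  rfl

/-- The list of tables contains the identity and is closed under inverses and products. -/
def closedB (tabs : List (List ℕ)) : Bool :=
  tabs.contains idT &&
    tabs.all (fun l => tabs.contains (invT l) && tabs.all (fun l' => tabs.contains (compT l l')))

theorem closedB_one {tabs : List (List ℕ)} (h : closedB tabs = true) : idT ∈ tabs := by
  rw [closedB, Bool.and_eq_true] at h
  simpa using h.1

theorem closedB_inv {tabs : List (List ℕ)} (h : closedB tabs = true) {l : List ℕ} (hl : l ∈ tabs) :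
    invT l ∈ tabs := by
  rw [closedB, Bool.and_eq_true, List.all_eq_true] at h
  have := h.2 l hl
  rw [Bool.and_eq_true] at this
  simpa using this.1

theorem closedB_mul {tabs : List (List ℕ)} (h : closedB tabs = true) {l l' : List ℕ} (hl : l ∈ tabs)
    (hl' : l' ∈ tabs) : compT l l' ∈ tabs := by
  rw [closedB, Bool.and_eq_true, List.all_eq_true] at h
  have := h.2 l hl
  rw [Bool.and_eq_true, List.all_eq_true] at this
  simpa using this.2 l' hl'

variable {H : Subgroup (Equiv.Perm GolayPt)}

/-- The subgroup of `H` of the elements whose table is in the closed list. -/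
def tabSubgroup (H : Subgroup (Equiv.Perm GolayPt)) (tabs : List (List ℕ))
    (h : closedB tabs = true) : Subgroup H where
  carrier := {g | tableOf g.1 ∈ tabs}
  one_mem' := by
    show tableOf (1 : Equiv.Perm GolayPt) ∈ tabs
    rw [tableOf_one]
    exact closedB_one h
  mul_mem' := by
    intro a b ha hb
    show tableOf (a.1 * b.1) ∈ tabs
    rw [tableOf_mul]
    exact closedB_mul h ha hb
  inv_mem' := by
    intro a ha
    show tableOf (a.1)⁻¹ ∈ tabs
    rw [tableOf_inv]
    exact closedB_inv h ha

theorem mem_tabSubgroup {tabs : List (List ℕ)} {h : closedB tabs = true} {g : H} :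
    g ∈ tabSubgroup H tabs h ↔ tableOf g.1 ∈ tabs := Iff.rfl

theorem card_subtype_mem_list' {α : Type*} (l : List α) (h : l.Nodup) :
    Nat.card {q // q ∈ l} = l.length := by
  classical
  have e : {q // q ∈ l} ≃ {q // q ∈ l.toFinset} :=
    Equiv.subtypeEquivRight (fun q => by simp)
  rw [Nat.card_congr e, Nat.card_eq_fintype_card, Fintype.card_coe, List.toFinset_card_of_nodup h]

theorem card_tabSubgroup {tabs : List (List ℕ)} (h : closedB tabs = true) (hnd : tabs.Nodup)
    (hT : ∀ l ∈ tabs, Tabled H l) : Nat.card (tabSubgroup H tabs h) = tabs.length := by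
  rw [← card_subtype_mem_list' tabs hnd]
  apply Nat.card_congr
  refine Equiv.ofBijective (fun g => ⟨tableOf g.1.1, g.2⟩) ⟨?_, ?_⟩
  · intro g g' e
    have e' : tableOf g.1.1 = tableOf g'.1.1 := congrArg Subtype.val e
    exact Subtype.ext (Subtype.ext (tableOf_injective e'))
  · rintro ⟨l, hl⟩
    obtain ⟨g, hg, hlt⟩ := hT l hl
    have e : tableOf g = l := hlt.eq_tableOf.symm
    refine ⟨⟨⟨g, hg⟩, ?_⟩, ?_⟩
    · show tableOf g ∈ tabs
      rw [e]; exact hl
    · exact Subtype.ext e

/-- `l` is the table of an element of the subgroup `T`. -/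
def InT (T : Subgroup H) (l : List ℕ) : Prop := ∃ g : H, g ∈ T ∧ tableOf g.1 = l

/-- One round of closure inside the list `sT`: products, and conjugates by the tables in `C` that fall in `sT`. -/
def grow (sT C X : List (List ℕ)) : List (List ℕ) :=
  sT.filter (fun t => X.contains t || X.any (fun x => X.any (fun y => compT x y == t)) ||
    X.any (fun x => C.any (fun c => conjT c x == t)))

theorem grow_sound {tabs : List (List ℕ)} {hcl : closedB tabs = true} (T : Subgroup H)
    (hTc : ∀ x ∈ T, ∀ g : H, g * x * g⁻¹ ∈ tabSubgroup H tabs hcl → g * x * g⁻¹ ∈ T)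
    (C : List (List ℕ)) (hC : ∀ c ∈ C, Tabled H c) (X : List (List ℕ)) (hX : ∀ x ∈ X, InT T x) :
    ∀ t ∈ grow tabs C X, InT T t := by
  intro t ht
  rw [grow, List.mem_filter, Bool.or_eq_true, Bool.or_eq_true] at ht
  obtain ⟨htabs, (h | h) | h⟩ := ht
  · exact hX t (by simpa using h)
  · rw [List.any_eq_true] at h
    obtain ⟨x, hx, h⟩ := h
    rw [List.any_eq_true] at h
    obtain ⟨y, hy, h⟩ := h
    have e : compT x y = t := by simpa using h
    obtain ⟨g, hg, hgx⟩ := hX x hx
    obtain ⟨g', hg', hgy⟩ := hX y hy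
    refine ⟨g * g', T.mul_mem hg hg', ?_⟩
    show tableOf (g.1 * g'.1) = t
    rw [tableOf_mul, hgx, hgy, e]
  · rw [List.any_eq_true] at h
    obtain ⟨x, hx, h⟩ := h
    rw [List.any_eq_true] at h
    obtain ⟨c, hc, h⟩ := h
    have e : conjT c x = t := by simpa using h
    obtain ⟨g, hg, hgx⟩ := hX x hx
    obtain ⟨k, hk, hkc⟩ := hC c hc
    have hkc' : tableOf k = c := hkc.eq_tableOf.symm
    have e2 : tableOf ((⟨k, hk⟩ : H) * g * (⟨k, hk⟩ : H)⁻¹).1 = t := by
      show tableOf (k * g.1 * k⁻¹) = t
      rw [tableOf_conj, hkc', hgx, e]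
    refine ⟨(⟨k, hk⟩ : H) * g * (⟨k, hk⟩ : H)⁻¹, hTc g hg _ ?_, e2⟩
    rw [mem_tabSubgroup, e2]
    exact htabs

theorem iterate_grow_sound {tabs : List (List ℕ)} {hcl : closedB tabs = true} (T : Subgroup H)
    (hTc : ∀ x ∈ T, ∀ g : H, g * x * g⁻¹ ∈ tabSubgroup H tabs hcl → g * x * g⁻¹ ∈ T)
    (C : List (List ℕ)) (hC : ∀ c ∈ C, Tabled H c) (n : ℕ) (X : List (List ℕ))
    (hX : ∀ x ∈ X, InT T x) : ∀ t ∈ (grow tabs C)^[n] X, InT T t := by
  induction n generalizing X with
  | zero => exact hX
  | succ n ih =>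
    rw [Function.iterate_succ_apply]
    exact ih _ (grow_sound T hTc C hC X hX)

/-- If, starting from any nonidentity table of the list, the closure reaches the whole list, then a subgroup of the
table subgroup closed under the conjugations that fall into the table subgroup is trivial or everything. -/
theorem eq_bot_or_eq_of_grow {tabs : List (List ℕ)} (hcl : closedB tabs = true)
    (C : List (List ℕ)) (hC : ∀ c ∈ C, Tabled H c) (n : ℕ)
    (hcheck : tabs.all (fun s => s == idT || (grow tabs C)^[n] [s] == tabs) = true)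
    (T : Subgroup H) (hT : T ≤ tabSubgroup H tabs hcl)
    (hTc : ∀ x ∈ T, ∀ g : H, g * x * g⁻¹ ∈ tabSubgroup H tabs hcl → g * x * g⁻¹ ∈ T) :
    T = ⊥ ∨ T = tabSubgroup H tabs hcl := by
  by_cases hbot : T = ⊥
  · left; exact hbot
  right
  obtain ⟨x, hx, hx1⟩ := (Subgroup.ne_bot_iff_exists_ne_one (H := T)).mp hbot |>.imp (fun x hx => hx) |> fun ⟨x, hx⟩ =>
    (⟨x.1, x.2, fun h => hx (Subtype.ext h)⟩ : ∃ x : H, x ∈ T ∧ x ≠ 1)
  have hs : tableOf x.1 ∈ tabs := hT hx
  have hs1 : tableOf x.1 ≠ idT := by
    intro h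
    rw [← tableOf_one] at h
    exact hx1 (Subtype.ext (tableOf_injective h))
  rw [List.all_eq_true] at hcheck
  have h1 := hcheck _ hs
  rw [Bool.or_eq_true] at h1
  rcases h1 with h1 | h1
  · exact absurd (by simpa using h1) hs1
  have h2 : (grow tabs C)^[n] [tableOf x.1] = tabs := by simpa using h1
  have h3 := iterate_grow_sound T hTc C hC n [tableOf x.1] (by
    intro y hy
    rw [List.mem_singleton] at hy
    exact ⟨x, hx, hy.symm⟩)
  rw [h2] at h3
  apply le_antisymm hT
  intro y hy
  obtain ⟨g, hg, hgy⟩ := h3 _ (mem_tabSubgroup.mp hy)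
  have : g = y := Subtype.ext (tableOf_injective hgy)
  rwa [← this]

/-- The table subgroup is self-normalizing, by a check over a list of all tables of `H`. -/
theorem normalizer_le_of_check {tabs : List (List ℕ)} (hcl : closedB tabs = true)
    (all : List (List ℕ)) (hall : ∀ g ∈ H, ∃ l ∈ all, IsTable l g)
    (gens : List (List ℕ)) (hgens : ∀ l ∈ gens, l ∈ tabs ∧ Tabled H l)
    (hcheck : all.all (fun l => tabs.contains l ||
      !(gens.all (fun s => tabs.contains (conjT l s)))) = true) :
    Subgroup.normalizer ((tabSubgroup H tabs hcl : Subgroup H) : Set H) ≤ tabSubgroup H tabs hcl := by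
  intro n hn
  obtain ⟨l, hl, hlt⟩ := hall n.1 n.2
  have hl' : l = tableOf n.1 := hlt.eq_tableOf
  rw [List.all_eq_true] at hcheck
  have h1 := hcheck l hl
  rw [Bool.or_eq_true] at h1
  rcases h1 with h1 | h1
  · rw [mem_tabSubgroup, ← hl']
    simpa using h1
  exfalso
  have h2 : gens.all (fun s => tabs.contains (conjT l s)) = true := by
    rw [List.all_eq_true]
    intro s hs
    obtain ⟨hs1, g, hg, hgs⟩ := hgens s hs
    have hgs' : tableOf g = s := hgs.eq_tableOf.symm
    have hmem : (⟨g, hg⟩ : H) ∈ tabSubgroup H tabs hcl := by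
      rw [mem_tabSubgroup]
      show tableOf g ∈ tabs
      rw [hgs']; exact hs1
    have h3 := (Subgroup.mem_normalizer_iff.mp hn _).mp hmem
    rw [mem_tabSubgroup] at h3
    have h4 : tableOf (n * (⟨g, hg⟩ : H) * n⁻¹).1 = conjT l s := by
      show tableOf (n.1 * g * n.1⁻¹) = conjT l s
      rw [tableOf_conj, hgs', ← hl']
    rw [h4] at h3
    simpa using h3
  rw [h2] at h1
  simp at h1

end Cfsg.Agent.Helper72.TabSub
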