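import Cfsg.Agent.Helper72.FusSimple
import Cfsg.Agent.Helper72.TabSub
import Cfsg.Agent.Helper7.M11Out

/-!
# The 2-fusion system of `M11` is simple: a semidihedral Sylow 2-subgroup given by tables (generated data + proofs)
-/

set_option autoImplicit false

namespace Cfsg.Agent.Helper72.M11Fus

open Cfsg Cfsg.Agent.Helper7 Cfsg.Agent.Helper72.TabSub Cfsg.Agent.Helper72.FusSimple

/-- Table of an element of order 8 centralizing the standard involution. -/
def tabA : List ℕ := [0, 1, 3, 2, 8, 17, 13, 19, 6, 18, 15, 21, 16, 12, 23, 11, 9, 14, 4, 22, 10, 7, 20, 5]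

/-- Table of an involution inverting-and-cubing `tabA`. -/
def tabB : List ℕ := [0, 1, 3, 2, 4, 5, 9, 10, 13, 6, 7, 11, 12, 8, 14, 20, 18, 23, 16, 21, 15, 19, 22, 17]

/-- The 16 tables of a Sylow 2-subgroup (semidihedral of order 16): `a^i b^j`. -/
def s16Tabs : List (List ℕ) := [
  [0, 1, 2, 3, 4, 5, 6, 7, 8, 9, 10, 11, 12, 13, 14, 15, 16, 17, 18, 19, 20, 21, 22, 23],
  [0, 1, 3, 2, 8, 17, 13, 19, 6, 18, 15, 21, 16, 12, 23, 11, 9, 14, 4, 22, 10, 7, 20, 5],
  [0, 1, 2, 3, 6, 14, 12, 22, 13, 4, 11, 7, 9, 16, 5, 21, 18, 23, 8, 20, 15, 19, 10, 17],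
  [0, 1, 3, 2, 13, 23, 16, 20, 12, 8, 21, 19, 18, 9, 17, 7, 4, 5, 6, 10, 11, 22, 15, 14],
  [0, 1, 2, 3, 12, 5, 9, 10, 16, 6, 7, 22, 4, 18, 14, 19, 8, 17, 13, 15, 21, 20, 11, 23],
  [0, 1, 3, 2, 16, 17, 18, 15, 9, 13, 19, 20, 8, 4, 23, 22, 6, 14, 12, 11, 7, 10, 21, 5],
  [0, 1, 2, 3, 9, 14, 4, 11, 18, 12, 22, 10, 6, 8, 5, 20, 13, 23, 16, 21, 19, 15, 7, 17],
  [0, 1, 3, 2, 18, 23, 8, 21, 4, 16, 20, 15, 13, 6, 17, 10, 12, 5, 9, 7, 22, 11, 19, 14],
  [0, 1, 3, 2, 4, 5, 9, 10, 13, 6, 7, 11, 12, 8, 14, 20, 18, 23, 16, 21, 15, 19, 22, 17],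
  [0, 1, 2, 3, 8, 17, 18, 15, 12, 13, 19, 21, 16, 6, 23, 10, 4, 5, 9, 7, 11, 22, 20, 14],
  [0, 1, 3, 2, 6, 14, 4, 11, 16, 12, 22, 7, 9, 13, 5, 15, 8, 17, 18, 19, 21, 20, 10, 23],
  [0, 1, 2, 3, 13, 23, 8, 21, 9, 16, 20, 19, 18, 12, 17, 11, 6, 14, 4, 22, 7, 10, 15, 5],
  [0, 1, 3, 2, 12, 5, 6, 7, 18, 9, 10, 22, 4, 16, 14, 21, 13, 23, 8, 20, 19, 15, 11, 17],
  [0, 1, 2, 3, 16, 17, 13, 19, 4, 18, 15, 20, 8, 9, 23, 7, 12, 5, 6, 10, 22, 11, 21, 14],
  [0, 1, 3, 2, 9, 14, 12, 22, 8, 4, 11, 10, 6, 18, 5, 19, 16, 17, 13, 15, 20, 21, 7, 23],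
  [0, 1, 2, 3, 18, 23, 16, 20, 6, 8, 21, 15, 13, 4, 17, 22, 9, 14, 12, 11, 10, 7, 19, 5]
]

/-- Conjugators controlling the fusion in the Sylow 2-subgroup. -/
def fusC : List (List ℕ) := [
  [0, 1, 12, 4, 18, 11, 13, 20, 9, 8, 15, 21, 16, 3, 22, 17, 6, 5, 2, 23, 10, 7, 19, 14],
  [0, 2, 1, 3, 13, 5, 9, 20, 8, 6, 21, 11, 18, 4, 17, 19, 16, 14, 12, 15, 7, 10, 22, 23],
  [0, 1, 16, 8, 2, 23, 18, 19, 6, 13, 15, 5, 3, 9, 17, 7, 12, 20, 4, 22, 10, 11, 14, 21]
]

theorem s16_closed : closedB s16Tabs = true := by decide +kernel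

theorem s16_nodup : s16Tabs.Nodup := by decide +kernel

theorem s16_mem : s16Tabs.all (fun l => m11Tabs.contains l) = true := by decide +kernel

theorem fusC_mem : fusC.all (fun l => m11Tabs.contains l) = true := by decide +kernel

theorem s16_grow : s16Tabs.all (fun s => s == idT || (grow s16Tabs fusC)^[6] [s] == s16Tabs) = true := by
  decide +kernel

theorem s16_normalizer : m11Tabs.all (fun l => s16Tabs.contains l ||
    !([tabA, tabB].all (fun s => s16Tabs.contains (conjT l s)))) = true := by decide +kernel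

theorem tabled_s16 : ∀ l ∈ s16Tabs, Tabled (fixG M12 [0]) l := by
  intro l hl
  have h := s16_mem
  rw [List.all_eq_true] at h
  exact tabled_m11Tabs l (by simpa using h l hl)

theorem tabled_fusC : ∀ l ∈ fusC, Tabled (fixG M12 [0]) l := by
  intro l hl
  have h := fusC_mem
  rw [List.all_eq_true] at h
  exact tabled_m11Tabs l (by simpa using h l hl)

/-- The Sylow 2-subgroup given by the 16 tables. -/
def syl16 : Subgroup (fixG M12 [0]) := tabSubgroup (fixG M12 [0]) s16Tabs s16_closed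

theorem card_syl16 : Nat.card syl16 = 16 := by
  rw [syl16, card_tabSubgroup s16_closed s16_nodup tabled_s16]
  rfl

theorem factorization_7920 : (7920 : ℕ).factorization 2 = 4 := by
  have h : (7920 : ℕ) = 2 ^ 4 * 495 := by norm_num
  rw [h, Nat.factorization_mul (by norm_num) (by norm_num), Finsupp.add_apply,
    Nat.Prime.factorization_pow Nat.prime_two, Finsupp.single_eq_same,
    Nat.factorization_eq_zero_of_not_dvd (by norm_num)]

theorem syl16_ne_bot : syl16 ≠ ⊥ := by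
  intro h
  have := card_syl16
  rw [h, Subgroup.card_bot] at this
  omega

/-- The 2-fusion system of the stabiliser of the standard dodecad and the point `0` is simple. -/
theorem fixG_simple (H : Subgroup (Equiv.Perm GolayPt)) (hH : H = fixG M12 [0]) (S : Sylow 2 H) :
    (groupFusionSystem (S : Subgroup H)).IsSimple 2 := by
  subst hH
  have : Finite (fixG M12 [0]) := Nat.finite_of_card_ne_zero (by rw [card_fixG_m12_1]; norm_num)
  refine isSimple_of_conj 2 syl16 ?_ syl16_ne_bot ?_ ?_ S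
  · rw [card_syl16, card_fixG_m12_1, factorization_7920]
    norm_num
  · intro T hT hTc
    exact eq_bot_or_eq_of_grow s16_closed fusC tabled_fusC 6 s16_grow T hT hTc
  · intro n hn
    have h1 : n ∈ syl16 := by
      refine normalizer_le_of_check s16_closed m11Tabs m11_sift [tabA, tabB] ?_ s16_normalizer hn
      intro l hl
      have h2 : l ∈ s16Tabs := by
        simp only [List.mem_cons, List.not_mem_nil, or_false] at hl
        rcases hl with rfl | rfl
        · decide +kernel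
        · decide +kernel
      exact ⟨h2, tabled_s16 l h2⟩
    exact ⟨n, h1, fun _ _ => rfl⟩

end Cfsg.Agent.Helper72.M11Fus
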