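import Cfsg.Agent.Helper72.M23MultData

/-!
# Table-level checks for the Schur multiplier of `M23`
-/

set_option autoImplicit false

namespace Cfsg.Agent.Helper72.M23MultCheck

open Cfsg Cfsg.Agent.Helper7 Cfsg.Agent.Helper72.TabSub Cfsg.Agent.Helper72.M24Tab
open Cfsg.Agent.Helper72.M23MultData

theorem eltIdx_eq : eltIdx.map (prodAt m24Levels) = eltT := by decide +kernel
theorem V1idx_eq : V1idx.map (prodAt m24Levels) = V1tabs := by decide +kernel
theorem V2idx_eq : V2idx.map (prodAt m24Levels) = V2tabs := by decide +kernel
theorem Uidx_eq : Uidx.map (prodAt m24Levels) = Utabs := by decide +kernel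
theorem E9idx_eq : E9idx.map (prodAt m24Levels) = E9tabs := by decide +kernel

theorem V1_closed : closedB V1tabs = true := by decide +kernel
theorem V2_closed : closedB V2tabs = true := by decide +kernel
theorem U_closed : closedB Utabs = true := by decide +kernel
theorem E9_closed : closedB E9tabs = true := by decide +kernel

theorem U_nodup : Utabs.Nodup := by decide +kernel
theorem E9_nodup : E9tabs.Nodup := by decide +kernel
theorem U_length : Utabs.length = 64 := by decide +kernel
theorem E9_length : E9tabs.length = 9 := by decide +kernel

theorem elt_fix0 : eltT.all (fun l => [0].all (fun i => Nat.beq (l.getD i 0) i && Nat.blt i 24)) = true := by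
  decide +kernel
theorem U_fix : Utabs.all (fun l => [2, 1, 0].all (fun i => Nat.beq (l.getD i 0) i && Nat.blt i 24)) = true := by
  decide +kernel
theorem E9_fix : E9tabs.all (fun l => [0].all (fun i => Nat.beq (l.getD i 0) i && Nat.blt i 24)) = true := by
  decide +kernel

theorem V1_gen : V1tabs.all (fun l => (List.range 2).any fun i => (List.range 2).any fun j =>
    (List.range 2).any fun k => (List.range 2).any fun m =>
      compT (compT (compT (powT v0T i) (powT t1T j)) (powT t2T k)) (powT t3T m) == l) = true := by
  decide +kernel

theorem V2_gen : V2tabs.all (fun l => (List.range 2).any fun i => (List.range 2).any fun j =>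
    (List.range 2).any fun k => (List.range 2).any fun m =>
      compT (compT (compT (powT e0T i) (powT e1T j)) (powT e2T k)) (powT e3T m) == l) = true := by
  decide +kernel

theorem E9_gen : E9tabs.all (fun l => (List.range 3).any fun i => (List.range 3).any fun j =>
    compT (powT x3T i) (powT y3T j) == l) = true := by
  decide +kernel

theorem U_gen : Utabs.all (fun l => (List.range 2).any fun i => (List.range 2).any fun j =>
    (List.range 2).any fun k => (List.range 2).any fun m =>
      [idT, zaT, zcT, compT zaT zcT].any fun ζ =>
        compT (compT (compT (compT (powT x1T i) (powT x2T j)) (powT y1T k)) (powT y2T m)) ζ == l) =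
      true := by
  decide +kernel

theorem certL_ok : (m24Levels.drop 3).all (fun L => L.T.all (fun l =>
    certL.any (fun c => commT (prodAt (m24Levels.drop 3) c.1) (prodAt (m24Levels.drop 3) c.2) == l))) =
      true := by
  decide +kernel

theorem certK_ok : (m24Levels.drop 4).all (fun L => L.T.all (fun l =>
    certK.any (fun c => commT (prodAt (m24Levels.drop 4) c.1) (prodAt (m24Levels.drop 4) c.2) == l))) =
      true := by
  decide +kernel

end Cfsg.Agent.Helper72.M23MultCheck
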