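import Cfsg.Agent.Helper72.M24Tab

/-!
# Data for the Schur multiplier of `M23` (generated)

Tables of explicit elements of the point stabiliser `fixG M24 [0]`, their positions in the chain
of `M24`, the lists of tables of the subgroups `V₁`, `V₂`, `U`, `E₉`, and certificates of
perfectness for `fixG M24 [2, 1, 0]` and `fixG M24 [3, 2, 1, 0]`.
-/

set_option autoImplicit false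

namespace Cfsg.Agent.Helper72.M23MultData

open Cfsg Cfsg.Agent.Helper7

def v0T : List ℕ := [0, 1, 2, 3, 4, 18, 8, 7, 6, 19, 10, 15, 12, 23, 20, 11, 22, 21, 5, 9, 14, 17, 16, 13]
def t1T : List ℕ := [0, 1, 2, 3, 4, 6, 5, 7, 18, 14, 10, 23, 12, 15, 9, 13, 21, 22, 8, 20, 19, 16, 17, 11]
def t2T : List ℕ := [0, 1, 2, 3, 4, 13, 15, 7, 11, 16, 10, 8, 12, 5, 21, 6, 9, 20, 23, 22, 17, 14, 19, 18]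
def t3T : List ℕ := [0, 1, 2, 3, 4, 16, 21, 7, 17, 13, 10, 20, 12, 9, 15, 14, 5, 8, 22, 23, 11, 6, 18, 19]
def g7T : List ℕ := [0, 2, 3, 4, 7, 21, 14, 12, 20, 16, 1, 11, 10, 6, 9, 15, 5, 23, 17, 22, 19, 13, 18, 8]
def e0T : List ℕ := [0, 1, 2, 3, 4, 14, 9, 7, 19, 6, 10, 22, 12, 21, 5, 16, 15, 23, 20, 8, 18, 13, 11, 17]
def e1T : List ℕ := [0, 1, 2, 3, 12, 14, 6, 10, 15, 9, 7, 11, 4, 20, 5, 8, 19, 23, 21, 16, 13, 18, 22, 17]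
def e2T : List ℕ := [0, 1, 2, 3, 12, 23, 22, 10, 19, 11, 7, 9, 4, 13, 17, 16, 15, 14, 18, 8, 20, 21, 6, 5]
def e3T : List ℕ := [0, 1, 2, 3, 10, 14, 22, 12, 8, 11, 4, 9, 7, 18, 5, 15, 16, 23, 13, 19, 21, 20, 6, 17]
def g15T : List ℕ := [0, 2, 3, 1, 11, 4, 21, 6, 5, 18, 22, 13, 9, 8, 12, 23, 17, 7, 16, 14, 19, 15, 20, 10]
def g3T : List ℕ := [0, 2, 3, 1, 4, 11, 15, 10, 5, 16, 12, 8, 7, 13, 22, 23, 17, 9, 18, 14, 20, 21, 19, 6]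
def x1T : List ℕ := [0, 1, 2, 3, 4, 6, 5, 7, 18, 14, 10, 23, 12, 15, 9, 13, 21, 22, 8, 20, 19, 16, 17, 11]
def x2T : List ℕ := [0, 1, 2, 3, 4, 18, 8, 7, 6, 19, 10, 15, 12, 23, 20, 11, 22, 21, 5, 9, 14, 17, 16, 13]
def y1T : List ℕ := [0, 1, 2, 3, 7, 5, 22, 4, 15, 11, 12, 9, 10, 21, 14, 8, 19, 17, 20, 16, 18, 13, 6, 23]
def y2T : List ℕ := [0, 1, 2, 3, 10, 23, 6, 12, 16, 9, 4, 11, 7, 21, 17, 19, 8, 14, 20, 15, 18, 13, 22, 5]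
def zaT : List ℕ := [0, 1, 2, 3, 4, 17, 22, 7, 16, 11, 10, 9, 12, 20, 23, 19, 8, 5, 21, 15, 13, 18, 6, 14]
def zcT : List ℕ := [0, 1, 2, 3, 4, 14, 9, 7, 19, 6, 10, 22, 12, 21, 5, 16, 15, 23, 20, 8, 18, 13, 11, 17]
def ttT : List ℕ := [0, 1, 3, 2, 4, 5, 19, 12, 11, 16, 10, 8, 7, 13, 23, 22, 9, 17, 21, 6, 20, 18, 15, 14]
def ssT : List ℕ := [0, 1, 2, 4, 10, 14, 21, 7, 5, 11, 3, 15, 12, 16, 8, 9, 18, 20, 13, 19, 22, 23, 17, 6]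
def h1T : List ℕ := [0, 1, 2, 4, 23, 21, 14, 13, 5, 6, 22, 20, 16, 12, 17, 9, 18, 15, 7, 19, 3, 10, 8, 11]
def h2T : List ℕ := [0, 1, 2, 20, 18, 4, 16, 21, 10, 5, 3, 11, 13, 22, 6, 23, 15, 8, 19, 9, 17, 12, 7, 14]
def u22T : List ℕ := [0, 4, 20, 1, 10, 23, 14, 13, 7, 8, 17, 6, 5, 16, 11, 9, 21, 3, 12, 22, 15, 18, 2, 19]
def g5T : List ℕ := [0, 1, 2, 3, 8, 13, 23, 15, 11, 17, 19, 5, 16, 4, 18, 22, 6, 21, 7, 9, 12, 10, 14, 20]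
def g11T : List ℕ := [0, 9, 4, 19, 11, 22, 20, 14, 13, 15, 6, 17, 21, 1, 12, 7, 10, 3, 18, 23, 2, 5, 8, 16]
def g23T : List ℕ := [0, 23, 8, 19, 1, 4, 20, 9, 17, 5, 14, 2, 22, 10, 16, 12, 3, 18, 15, 7, 21, 11, 13, 6]
def x3T : List ℕ := [0, 23, 1, 15, 4, 10, 3, 5, 11, 21, 7, 12, 8, 13, 20, 6, 16, 9, 18, 14, 19, 17, 22, 2]
def y3T : List ℕ := [0, 6, 15, 5, 13, 23, 7, 1, 8, 21, 2, 11, 12, 18, 19, 10, 16, 9, 4, 20, 14, 17, 22, 3]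
def gtwT : List ℕ := [0, 1, 23, 15, 4, 10, 6, 7, 12, 14, 5, 11, 8, 13, 9, 3, 22, 20, 18, 21, 17, 19, 16, 2]

def eltT : List (List ℕ) := [v0T, t1T, t2T, t3T, g7T, e0T, e1T, e2T, e3T, g15T, g3T, x1T, x2T, y1T, y2T, zaT, zcT, ttT, ssT, h1T, h2T, u22T, g5T, g11T, g23T, x3T, y3T, gtwT]
def eltIdx : List (List ℕ) := [
  [0, 0, 0, 0, 0, 10, 2],
  [0, 0, 0, 0, 0, 1, 0],
  [0, 0, 0, 0, 0, 5, 2],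
  [0, 0, 0, 0, 0, 8, 0],
  [0, 1, 20, 13, 12, 2, 0],
  [0, 0, 0, 0, 0, 6, 0],
  [0, 0, 0, 0, 8, 0, 0],
  [0, 0, 0, 0, 8, 9, 2],
  [0, 0, 0, 0, 6, 3, 0],
  [0, 1, 20, 20, 0, 1, 1],
  [0, 1, 20, 20, 2, 0, 2],
  [0, 0, 0, 0, 0, 1, 0],
  [0, 0, 0, 0, 0, 10, 2],
  [0, 0, 0, 0, 3, 5, 1],
  [0, 0, 0, 0, 6, 1, 1],
  [0, 0, 0, 0, 0, 9, 2],
  [0, 0, 0, 0, 0, 6, 0],
  [0, 0, 1, 5, 6, 5, 2],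
  [0, 0, 0, 1, 7, 4, 1],
  [0, 0, 0, 1, 0, 11, 1],
  [0, 0, 0, 17, 7, 7, 2],
  [0, 3, 9, 4, 4, 9, 1],
  [0, 0, 0, 0, 4, 7, 1],
  [0, 8, 18, 1, 3, 12, 0],
  [0, 22, 8, 19, 19, 15, 1],
  [0, 22, 1, 1, 19, 4, 2],
  [0, 5, 17, 17, 17, 1, 0],
  [0, 0, 21, 10, 7, 9, 2]]

def V1tabs : List (List ℕ) := [
  [0, 1, 2, 3, 4, 5, 6, 7, 8, 9, 10, 11, 12, 13, 14, 15, 16, 17, 18, 19, 20, 21, 22, 23],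
  [0, 1, 2, 3, 4, 6, 5, 7, 18, 14, 10, 23, 12, 15, 9, 13, 21, 22, 8, 20, 19, 16, 17, 11],
  [0, 1, 2, 3, 4, 8, 18, 7, 5, 20, 10, 13, 12, 11, 19, 23, 17, 16, 6, 14, 9, 22, 21, 15],
  [0, 1, 2, 3, 4, 9, 14, 7, 20, 5, 10, 17, 12, 16, 6, 21, 13, 11, 19, 18, 8, 15, 23, 22],
  [0, 1, 2, 3, 4, 11, 23, 7, 13, 17, 10, 5, 12, 8, 22, 18, 20, 9, 15, 21, 16, 19, 14, 6],
  [0, 1, 2, 3, 4, 13, 15, 7, 11, 16, 10, 8, 12, 5, 21, 6, 9, 20, 23, 22, 17, 14, 19, 18],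
  [0, 1, 2, 3, 4, 14, 9, 7, 19, 6, 10, 22, 12, 21, 5, 16, 15, 23, 20, 8, 18, 13, 11, 17],
  [0, 1, 2, 3, 4, 15, 13, 7, 23, 21, 10, 18, 12, 6, 16, 5, 14, 19, 11, 17, 22, 9, 20, 8],
  [0, 1, 2, 3, 4, 16, 21, 7, 17, 13, 10, 20, 12, 9, 15, 14, 5, 8, 22, 23, 11, 6, 18, 19],
  [0, 1, 2, 3, 4, 17, 22, 7, 16, 11, 10, 9, 12, 20, 23, 19, 8, 5, 21, 15, 13, 18, 6, 14],
  [0, 1, 2, 3, 4, 18, 8, 7, 6, 19, 10, 15, 12, 23, 20, 11, 22, 21, 5, 9, 14, 17, 16, 13],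
  [0, 1, 2, 3, 4, 19, 20, 7, 14, 18, 10, 21, 12, 22, 8, 17, 23, 15, 9, 5, 6, 11, 13, 16],
  [0, 1, 2, 3, 4, 20, 19, 7, 9, 8, 10, 16, 12, 17, 18, 22, 11, 13, 14, 6, 5, 23, 15, 21],
  [0, 1, 2, 3, 4, 21, 16, 7, 22, 15, 10, 19, 12, 14, 13, 9, 6, 18, 17, 11, 23, 5, 8, 20],
  [0, 1, 2, 3, 4, 22, 17, 7, 21, 23, 10, 14, 12, 19, 11, 20, 18, 6, 16, 13, 15, 8, 5, 9],
  [0, 1, 2, 3, 4, 23, 11, 7, 15, 22, 10, 6, 12, 18, 17, 8, 19, 14, 13, 16, 21, 20, 9, 5]]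
def V1idx : List (List ℕ) := [
  [0, 0, 0, 0, 0, 0, 0],
  [0, 0, 0, 0, 0, 1, 0],
  [0, 0, 0, 0, 0, 2, 2],
  [0, 0, 0, 0, 0, 3, 2],
  [0, 0, 0, 0, 0, 4, 1],
  [0, 0, 0, 0, 0, 5, 2],
  [0, 0, 0, 0, 0, 6, 0],
  [0, 0, 0, 0, 0, 7, 2],
  [0, 0, 0, 0, 0, 8, 0],
  [0, 0, 0, 0, 0, 9, 2],
  [0, 0, 0, 0, 0, 10, 2],
  [0, 0, 0, 0, 0, 11, 1],
  [0, 0, 0, 0, 0, 12, 1],
  [0, 0, 0, 0, 0, 13, 1],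
  [0, 0, 0, 0, 0, 14, 2],
  [0, 0, 0, 0, 0, 15, 0]]

def V2tabs : List (List ℕ) := [
  [0, 1, 2, 3, 4, 5, 6, 7, 8, 9, 10, 11, 12, 13, 14, 15, 16, 17, 18, 19, 20, 21, 22, 23],
  [0, 1, 2, 3, 4, 14, 9, 7, 19, 6, 10, 22, 12, 21, 5, 16, 15, 23, 20, 8, 18, 13, 11, 17],
  [0, 1, 2, 3, 4, 17, 22, 7, 16, 11, 10, 9, 12, 20, 23, 19, 8, 5, 21, 15, 13, 18, 6, 14],
  [0, 1, 2, 3, 4, 23, 11, 7, 15, 22, 10, 6, 12, 18, 17, 8, 19, 14, 13, 16, 21, 20, 9, 5],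
  [0, 1, 2, 3, 7, 5, 22, 4, 15, 11, 12, 9, 10, 21, 14, 8, 19, 17, 20, 16, 18, 13, 6, 23],
  [0, 1, 2, 3, 7, 14, 11, 4, 16, 22, 12, 6, 10, 13, 5, 19, 8, 23, 18, 15, 20, 21, 9, 17],
  [0, 1, 2, 3, 7, 17, 6, 4, 19, 9, 12, 11, 10, 18, 23, 16, 15, 5, 13, 8, 21, 20, 22, 14],
  [0, 1, 2, 3, 7, 23, 9, 4, 8, 6, 12, 22, 10, 20, 17, 15, 16, 14, 21, 19, 13, 18, 11, 5],
  [0, 1, 2, 3, 10, 5, 11, 12, 19, 22, 4, 6, 7, 20, 14, 16, 15, 17, 21, 8, 13, 18, 9, 23],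
  [0, 1, 2, 3, 10, 14, 22, 12, 8, 11, 4, 9, 7, 18, 5, 15, 16, 23, 13, 19, 21, 20, 6, 17],
  [0, 1, 2, 3, 10, 17, 9, 12, 15, 6, 4, 22, 7, 13, 23, 8, 19, 5, 18, 16, 20, 21, 11, 14],
  [0, 1, 2, 3, 10, 23, 6, 12, 16, 9, 4, 11, 7, 21, 17, 19, 8, 14, 20, 15, 18, 13, 22, 5],
  [0, 1, 2, 3, 12, 5, 9, 10, 16, 6, 7, 22, 4, 18, 14, 19, 8, 17, 13, 15, 21, 20, 11, 23],
  [0, 1, 2, 3, 12, 14, 6, 10, 15, 9, 7, 11, 4, 20, 5, 8, 19, 23, 21, 16, 13, 18, 22, 17],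
  [0, 1, 2, 3, 12, 17, 11, 10, 8, 22, 7, 6, 4, 21, 23, 15, 16, 5, 20, 19, 18, 13, 9, 14],
  [0, 1, 2, 3, 12, 23, 22, 10, 19, 11, 7, 9, 4, 13, 17, 16, 15, 14, 18, 8, 20, 21, 6, 5]]
def V2idx : List (List ℕ) := [
  [0, 0, 0, 0, 0, 0, 0],
  [0, 0, 0, 0, 0, 6, 0],
  [0, 0, 0, 0, 0, 9, 2],
  [0, 0, 0, 0, 0, 15, 0],
  [0, 0, 0, 0, 3, 5, 1],
  [0, 0, 0, 0, 3, 12, 0],
  [0, 0, 0, 0, 3, 10, 1],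
  [0, 0, 0, 0, 3, 13, 0],
  [0, 0, 0, 0, 6, 14, 0],
  [0, 0, 0, 0, 6, 3, 0],
  [0, 0, 0, 0, 6, 4, 2],
  [0, 0, 0, 0, 6, 1, 1],
  [0, 0, 0, 0, 8, 6, 0],
  [0, 0, 0, 0, 8, 0, 0],
  [0, 0, 0, 0, 8, 15, 0],
  [0, 0, 0, 0, 8, 9, 2]]

def Utabs : List (List ℕ) := [
  [0, 1, 2, 3, 4, 5, 6, 7, 8, 9, 10, 11, 12, 13, 14, 15, 16, 17, 18, 19, 20, 21, 22, 23],
  [0, 1, 2, 3, 4, 6, 5, 7, 18, 14, 10, 23, 12, 15, 9, 13, 21, 22, 8, 20, 19, 16, 17, 11],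
  [0, 1, 2, 3, 4, 8, 18, 7, 5, 20, 10, 13, 12, 11, 19, 23, 17, 16, 6, 14, 9, 22, 21, 15],
  [0, 1, 2, 3, 4, 9, 14, 7, 20, 5, 10, 17, 12, 16, 6, 21, 13, 11, 19, 18, 8, 15, 23, 22],
  [0, 1, 2, 3, 4, 11, 23, 7, 13, 17, 10, 5, 12, 8, 22, 18, 20, 9, 15, 21, 16, 19, 14, 6],
  [0, 1, 2, 3, 4, 13, 15, 7, 11, 16, 10, 8, 12, 5, 21, 6, 9, 20, 23, 22, 17, 14, 19, 18],
  [0, 1, 2, 3, 4, 14, 9, 7, 19, 6, 10, 22, 12, 21, 5, 16, 15, 23, 20, 8, 18, 13, 11, 17],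
  [0, 1, 2, 3, 4, 15, 13, 7, 23, 21, 10, 18, 12, 6, 16, 5, 14, 19, 11, 17, 22, 9, 20, 8],
  [0, 1, 2, 3, 4, 16, 21, 7, 17, 13, 10, 20, 12, 9, 15, 14, 5, 8, 22, 23, 11, 6, 18, 19],
  [0, 1, 2, 3, 4, 17, 22, 7, 16, 11, 10, 9, 12, 20, 23, 19, 8, 5, 21, 15, 13, 18, 6, 14],
  [0, 1, 2, 3, 4, 18, 8, 7, 6, 19, 10, 15, 12, 23, 20, 11, 22, 21, 5, 9, 14, 17, 16, 13],
  [0, 1, 2, 3, 4, 19, 20, 7, 14, 18, 10, 21, 12, 22, 8, 17, 23, 15, 9, 5, 6, 11, 13, 16],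
  [0, 1, 2, 3, 4, 20, 19, 7, 9, 8, 10, 16, 12, 17, 18, 22, 11, 13, 14, 6, 5, 23, 15, 21],
  [0, 1, 2, 3, 4, 21, 16, 7, 22, 15, 10, 19, 12, 14, 13, 9, 6, 18, 17, 11, 23, 5, 8, 20],
  [0, 1, 2, 3, 4, 22, 17, 7, 21, 23, 10, 14, 12, 19, 11, 20, 18, 6, 16, 13, 15, 8, 5, 9],
  [0, 1, 2, 3, 4, 23, 11, 7, 15, 22, 10, 6, 12, 18, 17, 8, 19, 14, 13, 16, 21, 20, 9, 5],
  [0, 1, 2, 3, 7, 5, 22, 4, 15, 11, 12, 9, 10, 21, 14, 8, 19, 17, 20, 16, 18, 13, 6, 23],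
  [0, 1, 2, 3, 7, 6, 17, 4, 13, 23, 12, 14, 10, 16, 9, 18, 20, 22, 19, 21, 8, 15, 5, 11],
  [0, 1, 2, 3, 7, 8, 21, 4, 23, 13, 12, 20, 10, 22, 19, 5, 14, 16, 9, 17, 6, 11, 18, 15],
  [0, 1, 2, 3, 7, 9, 23, 4, 21, 17, 12, 5, 10, 15, 6, 20, 18, 11, 8, 13, 19, 16, 14, 22],
  [0, 1, 2, 3, 7, 11, 14, 4, 18, 5, 12, 17, 10, 19, 22, 13, 21, 9, 16, 20, 15, 8, 23, 6],
  [0, 1, 2, 3, 7, 13, 19, 4, 6, 8, 12, 16, 10, 14, 21, 11, 22, 20, 17, 9, 23, 5, 15, 18],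
  [0, 1, 2, 3, 7, 14, 11, 4, 16, 22, 12, 6, 10, 13, 5, 19, 8, 23, 18, 15, 20, 21, 9, 17],
  [0, 1, 2, 3, 7, 15, 20, 4, 5, 18, 12, 21, 10, 9, 16, 23, 17, 19, 22, 14, 11, 6, 13, 8],
  [0, 1, 2, 3, 7, 16, 18, 4, 14, 20, 12, 13, 10, 6, 15, 17, 23, 8, 11, 5, 22, 9, 21, 19],
  [0, 1, 2, 3, 7, 17, 6, 4, 19, 9, 12, 11, 10, 18, 23, 16, 15, 5, 13, 8, 21, 20, 22, 14],
  [0, 1, 2, 3, 7, 18, 16, 4, 11, 15, 12, 19, 10, 17, 20, 6, 9, 21, 14, 22, 5, 23, 8, 13],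
  [0, 1, 2, 3, 7, 19, 13, 4, 17, 21, 12, 18, 10, 11, 8, 14, 5, 15, 6, 23, 9, 22, 20, 16],
  [0, 1, 2, 3, 7, 20, 15, 4, 22, 16, 12, 8, 10, 23, 18, 9, 6, 13, 5, 11, 14, 17, 19, 21],
  [0, 1, 2, 3, 7, 21, 8, 4, 9, 19, 12, 15, 10, 5, 13, 22, 11, 18, 23, 6, 17, 14, 16, 20],
  [0, 1, 2, 3, 7, 22, 5, 4, 20, 14, 12, 23, 10, 8, 11, 21, 13, 6, 15, 18, 16, 19, 17, 9],
  [0, 1, 2, 3, 7, 23, 9, 4, 8, 6, 12, 22, 10, 20, 17, 15, 16, 14, 21, 19, 13, 18, 11, 5],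
  [0, 1, 2, 3, 10, 5, 11, 12, 19, 22, 4, 6, 7, 20, 14, 16, 15, 17, 21, 8, 13, 18, 9, 23],
  [0, 1, 2, 3, 10, 6, 23, 12, 20, 17, 4, 5, 7, 19, 9, 21, 13, 22, 16, 18, 15, 8, 14, 11],
  [0, 1, 2, 3, 10, 8, 13, 12, 14, 21, 4, 18, 7, 9, 19, 17, 23, 16, 22, 5, 11, 6, 20, 15],
  [0, 1, 2, 3, 10, 9, 17, 12, 18, 23, 4, 14, 7, 8, 6, 13, 21, 11, 15, 20, 16, 19, 5, 22],
  [0, 1, 2, 3, 10, 11, 5, 12, 21, 14, 4, 23, 7, 16, 22, 20, 18, 9, 19, 13, 8, 15, 17, 6],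
  [0, 1, 2, 3, 10, 13, 8, 12, 22, 19, 4, 15, 7, 17, 21, 9, 6, 20, 14, 11, 5, 23, 16, 18],
  [0, 1, 2, 3, 10, 14, 22, 12, 8, 11, 4, 9, 7, 18, 5, 15, 16, 23, 13, 19, 21, 20, 6, 17],
  [0, 1, 2, 3, 10, 15, 18, 12, 17, 20, 4, 13, 7, 22, 16, 14, 5, 19, 9, 23, 6, 11, 21, 8],
  [0, 1, 2, 3, 10, 16, 20, 12, 23, 18, 4, 21, 7, 11, 15, 5, 14, 8, 6, 17, 9, 22, 13, 19],
  [0, 1, 2, 3, 10, 17, 9, 12, 15, 6, 4, 22, 7, 13, 23, 8, 19, 5, 18, 16, 20, 21, 11, 14],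
  [0, 1, 2, 3, 10, 18, 15, 12, 9, 16, 4, 8, 7, 14, 20, 22, 11, 21, 17, 6, 23, 5, 19, 13],
  [0, 1, 2, 3, 10, 19, 21, 12, 5, 13, 4, 20, 7, 6, 8, 23, 17, 15, 11, 14, 22, 9, 18, 16],
  [0, 1, 2, 3, 10, 20, 16, 12, 6, 15, 4, 19, 7, 5, 18, 11, 22, 13, 23, 9, 17, 14, 8, 21],
  [0, 1, 2, 3, 10, 21, 19, 12, 11, 8, 4, 16, 7, 23, 13, 6, 9, 18, 5, 22, 14, 17, 15, 20],
  [0, 1, 2, 3, 10, 22, 14, 12, 13, 5, 4, 17, 7, 15, 11, 18, 20, 6, 8, 21, 19, 16, 23, 9],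
  [0, 1, 2, 3, 10, 23, 6, 12, 16, 9, 4, 11, 7, 21, 17, 19, 8, 14, 20, 15, 18, 13, 22, 5],
  [0, 1, 2, 3, 12, 5, 9, 10, 16, 6, 7, 22, 4, 18, 14, 19, 8, 17, 13, 15, 21, 20, 11, 23],
  [0, 1, 2, 3, 12, 6, 14, 10, 21, 5, 7, 17, 4, 8, 9, 20, 18, 22, 15, 13, 16, 19, 23, 11],
  [0, 1, 2, 3, 12, 8, 20, 10, 17, 18, 7, 21, 4, 6, 19, 14, 5, 16, 11, 23, 22, 9, 13, 15],
  [0, 1, 2, 3, 12, 9, 5, 10, 13, 14, 7, 23, 4, 19, 6, 18, 20, 11, 16, 21, 15, 8, 17, 22],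
  [0, 1, 2, 3, 12, 11, 17, 10, 20, 23, 7, 14, 4, 15, 22, 21, 13, 9, 8, 18, 19, 16, 5, 6],
  [0, 1, 2, 3, 12, 13, 16, 10, 9, 15, 7, 19, 4, 23, 21, 22, 11, 20, 5, 6, 14, 17, 8, 18],
  [0, 1, 2, 3, 12, 14, 6, 10, 15, 9, 7, 11, 4, 20, 5, 8, 19, 23, 21, 16, 13, 18, 22, 17],
  [0, 1, 2, 3, 12, 15, 21, 10, 14, 13, 7, 20, 4, 11, 16, 17, 23, 19, 6, 5, 9, 22, 18, 8],
  [0, 1, 2, 3, 12, 16, 13, 10, 5, 21, 7, 18, 4, 22, 15, 23, 17, 8, 9, 14, 6, 11, 20, 19],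
  [0, 1, 2, 3, 12, 17, 11, 10, 8, 22, 7, 6, 4, 21, 23, 15, 16, 5, 20, 19, 18, 13, 9, 14],
  [0, 1, 2, 3, 12, 18, 19, 10, 22, 8, 7, 16, 4, 5, 20, 9, 6, 21, 23, 11, 17, 14, 15, 13],
  [0, 1, 2, 3, 12, 19, 18, 10, 23, 20, 7, 13, 4, 9, 8, 5, 14, 15, 22, 17, 11, 6, 21, 16],
  [0, 1, 2, 3, 12, 20, 8, 10, 11, 19, 7, 15, 4, 14, 18, 6, 9, 13, 17, 22, 23, 5, 16, 21],
  [0, 1, 2, 3, 12, 21, 15, 10, 6, 16, 7, 8, 4, 17, 13, 11, 22, 18, 14, 9, 5, 23, 19, 20],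
  [0, 1, 2, 3, 12, 22, 23, 10, 18, 17, 7, 5, 4, 16, 11, 13, 21, 6, 19, 20, 8, 15, 14, 9],
  [0, 1, 2, 3, 12, 23, 22, 10, 19, 11, 7, 9, 4, 13, 17, 16, 15, 14, 18, 8, 20, 21, 6, 5]]
def Uidx : List (List ℕ) := [
  [0, 0, 0, 0, 0, 0, 0],
  [0, 0, 0, 0, 0, 1, 0],
  [0, 0, 0, 0, 0, 2, 2],
  [0, 0, 0, 0, 0, 3, 2],
  [0, 0, 0, 0, 0, 4, 1],
  [0, 0, 0, 0, 0, 5, 2],
  [0, 0, 0, 0, 0, 6, 0],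
  [0, 0, 0, 0, 0, 7, 2],
  [0, 0, 0, 0, 0, 8, 0],
  [0, 0, 0, 0, 0, 9, 2],
  [0, 0, 0, 0, 0, 10, 2],
  [0, 0, 0, 0, 0, 11, 1],
  [0, 0, 0, 0, 0, 12, 1],
  [0, 0, 0, 0, 0, 13, 1],
  [0, 0, 0, 0, 0, 14, 2],
  [0, 0, 0, 0, 0, 15, 0],
  [0, 0, 0, 0, 3, 5, 1],
  [0, 0, 0, 0, 3, 9, 1],
  [0, 0, 0, 0, 3, 11, 0],
  [0, 0, 0, 0, 3, 0, 2],
  [0, 0, 0, 0, 3, 15, 2],
  [0, 0, 0, 0, 3, 3, 1],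
  [0, 0, 0, 0, 3, 12, 0],
  [0, 0, 0, 0, 3, 2, 1],
  [0, 0, 0, 0, 3, 8, 2],
  [0, 0, 0, 0, 3, 10, 1],
  [0, 0, 0, 0, 3, 1, 2],
  [0, 0, 0, 0, 3, 7, 1],
  [0, 0, 0, 0, 3, 14, 1],
  [0, 0, 0, 0, 3, 4, 0],
  [0, 0, 0, 0, 3, 6, 2],
  [0, 0, 0, 0, 3, 13, 0],
  [0, 0, 0, 0, 6, 14, 0],
  [0, 0, 0, 0, 6, 13, 2],
  [0, 0, 0, 0, 6, 8, 1],
  [0, 0, 0, 0, 6, 12, 2],
  [0, 0, 0, 0, 6, 10, 0],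
  [0, 0, 0, 0, 6, 0, 1],
  [0, 0, 0, 0, 6, 3, 0],
  [0, 0, 0, 0, 6, 2, 0],
  [0, 0, 0, 0, 6, 7, 0],
  [0, 0, 0, 0, 6, 4, 2],
  [0, 0, 0, 0, 6, 9, 0],
  [0, 0, 0, 0, 6, 11, 2],
  [0, 0, 0, 0, 6, 6, 1],
  [0, 0, 0, 0, 6, 15, 1],
  [0, 0, 0, 0, 6, 5, 0],
  [0, 0, 0, 0, 6, 1, 1],
  [0, 0, 0, 0, 8, 6, 0],
  [0, 0, 0, 0, 8, 1, 0],
  [0, 0, 0, 0, 8, 7, 2],
  [0, 0, 0, 0, 8, 3, 2],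
  [0, 0, 0, 0, 8, 4, 1],
  [0, 0, 0, 0, 8, 12, 1],
  [0, 0, 0, 0, 8, 0, 0],
  [0, 0, 0, 0, 8, 2, 2],
  [0, 0, 0, 0, 8, 11, 1],
  [0, 0, 0, 0, 8, 15, 0],
  [0, 0, 0, 0, 8, 13, 1],
  [0, 0, 0, 0, 8, 8, 0],
  [0, 0, 0, 0, 8, 5, 2],
  [0, 0, 0, 0, 8, 10, 2],
  [0, 0, 0, 0, 8, 14, 2],
  [0, 0, 0, 0, 8, 9, 2]]

def E9tabs : List (List ℕ) := [
  [0, 1, 2, 3, 4, 5, 6, 7, 8, 9, 10, 11, 12, 13, 14, 15, 16, 17, 18, 19, 20, 21, 22, 23],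
  [0, 2, 23, 6, 4, 7, 15, 10, 12, 17, 5, 8, 11, 13, 19, 3, 16, 21, 18, 20, 14, 9, 22, 1],
  [0, 3, 6, 10, 13, 2, 5, 23, 11, 17, 1, 12, 8, 18, 14, 7, 16, 21, 4, 19, 20, 9, 22, 15],
  [0, 5, 7, 2, 18, 15, 23, 3, 11, 9, 6, 12, 8, 4, 19, 1, 16, 17, 13, 20, 14, 21, 22, 10],
  [0, 6, 15, 5, 13, 23, 7, 1, 8, 21, 2, 11, 12, 18, 19, 10, 16, 9, 4, 20, 14, 17, 22, 3],
  [0, 7, 10, 23, 18, 3, 1, 6, 8, 17, 15, 11, 12, 4, 20, 2, 16, 21, 13, 14, 19, 9, 22, 5],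
  [0, 10, 5, 1, 18, 6, 2, 15, 12, 21, 3, 8, 11, 4, 14, 23, 16, 9, 13, 19, 20, 17, 22, 7],
  [0, 15, 3, 7, 13, 1, 10, 2, 12, 9, 23, 8, 11, 18, 20, 5, 16, 17, 4, 14, 19, 21, 22, 6],
  [0, 23, 1, 15, 4, 10, 3, 5, 11, 21, 7, 12, 8, 13, 20, 6, 16, 9, 18, 14, 19, 17, 22, 2]]
def E9idx : List (List ℕ) := [
  [0, 0, 0, 0, 0, 0, 0],
  [0, 1, 3, 15, 8, 0, 2],
  [0, 2, 0, 3, 15, 5, 2],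
  [0, 4, 11, 9, 14, 11, 2],
  [0, 5, 17, 17, 17, 1, 0],
  [0, 6, 10, 0, 9, 11, 1],
  [0, 9, 8, 13, 13, 8, 0],
  [0, 14, 13, 1, 5, 13, 0],
  [0, 22, 1, 1, 19, 4, 2]]

def certL : List (List ℕ × List ℕ) := [
  ([], []),
  ([19, 2, 2, 0], [0, 16, 15, 2]),
  ([19, 2, 2, 0], [3, 4, 0, 1]),
  ([17, 6, 10, 2], [8, 2, 8, 2]),
  ([19, 2, 2, 0], [2, 13, 3, 1]),
  ([15, 8, 7, 0], [1, 15, 14, 1]),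
  ([19, 2, 2, 0], [3, 17, 9, 1]),
  ([19, 2, 2, 0], [8, 12, 9, 1]),
  ([5, 7, 8, 0], [2, 4, 8, 1]),
  ([18, 7, 11, 2], [1, 10, 8, 1]),
  ([15, 17, 14, 0], [1, 1, 10, 1]),
  ([19, 2, 2, 0], [0, 10, 11, 2]),
  ([20, 0, 15, 2], [3, 2, 5, 0]),
  ([6, 9, 10, 0], [3, 15, 6, 2]),
  ([6, 6, 0, 2], [0, 16, 7, 1]),
  ([20, 19, 2, 0], [0, 4, 10, 1]),
  ([17, 6, 10, 2], [2, 16, 4, 2]),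
  ([10, 0, 12, 2], [4, 0, 2, 2]),
  ([20, 0, 15, 2], [0, 16, 0, 0]),
  ([20, 19, 2, 0], [3, 4, 13, 2]),
  ([15, 8, 7, 0], [0, 5, 10, 0]),
  ([], []),
  ([17, 6, 10, 2], [3, 12, 15, 0]),
  ([19, 2, 2, 0], [1, 4, 7, 0]),
  ([15, 17, 14, 0], [0, 3, 13, 1]),
  ([19, 2, 2, 0], [1, 15, 11, 1]),
  ([3, 1, 14, 1], [0, 5, 15, 0]),
  ([20, 0, 15, 2], [6, 9, 0, 2]),
  ([16, 4, 12, 1], [1, 18, 6, 0]),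
  ([6, 7, 1, 1], [0, 1, 7, 0]),
  ([19, 2, 2, 0], [1, 9, 5, 1]),
  ([6, 9, 10, 0], [7, 12, 3, 2]),
  ([6, 9, 10, 0], [6, 13, 5, 1]),
  ([20, 0, 15, 2], [4, 7, 1, 2]),
  ([3, 4, 4, 0], [4, 16, 7, 0]),
  ([15, 17, 14, 0], [0, 4, 14, 0]),
  ([15, 8, 7, 0], [9, 13, 8, 2]),
  ([15, 8, 7, 0], [3, 3, 3, 0]),
  ([17, 9, 7, 1], [3, 2, 10, 2]),
  ([19, 2, 2, 0], [6, 2, 0, 2]),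
  ([19, 2, 2, 0], [4, 16, 0, 1]),
  ([], []),
  ([6, 9, 10, 0], [7, 4, 8, 2]),
  ([15, 8, 13, 0], [3, 17, 11, 2]),
  ([15, 8, 13, 0], [2, 15, 4, 2]),
  ([20, 19, 2, 0], [3, 9, 1, 1]),
  ([15, 8, 13, 0], [0, 9, 1, 0]),
  ([15, 8, 7, 0], [0, 7, 13, 0]),
  ([6, 9, 10, 0], [10, 9, 1, 1]),
  ([16, 4, 12, 1], [3, 3, 13, 1]),
  ([15, 8, 7, 0], [3, 2, 6, 1]),
  ([3, 4, 4, 0], [0, 0, 12, 2]),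
  ([17, 6, 10, 2], [0, 5, 15, 0]),
  ([19, 2, 2, 0], [0, 2, 5, 2]),
  ([15, 8, 7, 0], [1, 3, 0, 1]),
  ([3, 1, 14, 1], [6, 10, 6, 1]),
  ([20, 0, 15, 2], [0, 3, 10, 2]),
  ([], []),
  ([15, 8, 7, 0], [5, 4, 4, 1]),
  ([15, 8, 7, 0], [1, 6, 12, 0])]

def certK : List (List ℕ × List ℕ) := [
  ([], []),
  ([0, 1, 1], [13, 0, 1]),
  ([10, 10, 1], [0, 5, 0]),
  ([13, 15, 1], [1, 15, 2]),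
  ([10, 10, 1], [6, 13, 0]),
  ([14, 2, 0], [3, 12, 2]),
  ([10, 10, 1], [0, 4, 0]),
  ([0, 1, 1], [18, 9, 2]),
  ([10, 10, 1], [0, 6, 0]),
  ([10, 10, 1], [5, 14, 2]),
  ([11, 12, 0], [1, 15, 0]),
  ([0, 1, 1], [14, 2, 2]),
  ([0, 1, 1], [9, 4, 0]),
  ([1, 13, 0], [1, 0, 2]),
  ([10, 10, 1], [3, 11, 0]),
  ([5, 6, 2], [3, 4, 0]),
  ([14, 2, 0], [1, 11, 2]),
  ([13, 15, 1], [2, 12, 1]),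
  ([13, 15, 1], [0, 14, 1]),
  ([1, 13, 0], [1, 6, 2]),
  ([], []),
  ([0, 1, 1], [0, 1, 2]),
  ([1, 13, 0], [5, 10, 2]),
  ([13, 15, 1], [5, 4, 1]),
  ([0, 1, 1], [19, 0, 0]),
  ([10, 10, 1], [6, 8, 2]),
  ([10, 10, 1], [3, 13, 0]),
  ([1, 13, 0], [5, 13, 1]),
  ([0, 1, 1], [0, 0, 2]),
  ([17, 14, 2], [1, 8, 2]),
  ([10, 10, 1], [3, 2, 2]),
  ([0, 1, 1], [16, 3, 2]),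
  ([10, 10, 1], [2, 12, 1]),
  ([10, 10, 1], [4, 2, 2]),
  ([13, 15, 1], [0, 5, 0]),
  ([10, 10, 1], [5, 7, 0]),
  ([], []),
  ([17, 14, 2], [2, 4, 2]),
  ([0, 1, 1], [2, 1, 2])]

end Cfsg.Agent.Helper72.M23MultData
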