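import Cfsg.Agent.Helper72.M23MultCheck
import Cfsg.Agent.Helper72.CentExtDown
import Cfsg.Agent.Helper7.M22Simple
import Cfsg.Agent.Helper7.M23Simple

/-!
# Elements of `M23` used for the computation of its Schur multiplier, and their relations
-/

set_option autoImplicit false
set_option linter.unusedSimpArgs false

namespace Cfsg.Agent.Helper72.M23Mult

open Cfsg Cfsg.Agent.Helper7 Cfsg.Agent.Helper72.TabSub Cfsg.Agent.Helper72.M24Tab
open Cfsg.Agent.Helper72.M23MultData Cfsg.Agent.Helper72.M23MultCheck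
open scoped commutatorElement

theorem tabled_of_map {ix tabs : List (List ℕ)} (h : ix.map (prodAt m24Levels) = tabs) :
    ∀ l ∈ tabs, Tabled M24 l := by
  intro l hl
  rw [← h, List.mem_map] at hl
  obtain ⟨i, _, rfl⟩ := hl
  exact tabled_prodAt m24Levels tabled_m24Levels i

theorem eltT_tabled : ∀ l ∈ eltT, Tabled M24 l := tabled_of_map eltIdx_eq

theorem eltT_fix0 : ∀ l ∈ eltT,
    [0].all (fun i => Nat.beq (l.getD i 0) i && Nat.blt i 24) = true :=
  List.all_eq_true.mp elt_fix0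

theorem v0T_mem : v0T ∈ eltT := by simp [eltT]
theorem t1T_mem : t1T ∈ eltT := by simp [eltT]
theorem t2T_mem : t2T ∈ eltT := by simp [eltT]
theorem t3T_mem : t3T ∈ eltT := by simp [eltT]
theorem g7T_mem : g7T ∈ eltT := by simp [eltT]
theorem e0T_mem : e0T ∈ eltT := by simp [eltT]
theorem e1T_mem : e1T ∈ eltT := by simp [eltT]
theorem e2T_mem : e2T ∈ eltT := by simp [eltT]
theorem e3T_mem : e3T ∈ eltT := by simp [eltT]
theorem g15T_mem : g15T ∈ eltT := by simp [eltT]
theorem g3T_mem : g3T ∈ eltT := by simp [eltT]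
theorem x1T_mem : x1T ∈ eltT := by simp [eltT]
theorem x2T_mem : x2T ∈ eltT := by simp [eltT]
theorem y1T_mem : y1T ∈ eltT := by simp [eltT]
theorem y2T_mem : y2T ∈ eltT := by simp [eltT]
theorem zaT_mem : zaT ∈ eltT := by simp [eltT]
theorem zcT_mem : zcT ∈ eltT := by simp [eltT]
theorem ttT_mem : ttT ∈ eltT := by simp [eltT]
theorem ssT_mem : ssT ∈ eltT := by simp [eltT]
theorem h1T_mem : h1T ∈ eltT := by simp [eltT]
theorem h2T_mem : h2T ∈ eltT := by simp [eltT]
theorem u22T_mem : u22T ∈ eltT := by simp [eltT]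
theorem g5T_mem : g5T ∈ eltT := by simp [eltT]
theorem g11T_mem : g11T ∈ eltT := by simp [eltT]
theorem g23T_mem : g23T ∈ eltT := by simp [eltT]
theorem x3T_mem : x3T ∈ eltT := by simp [eltT]
theorem y3T_mem : y3T ∈ eltT := by simp [eltT]
theorem gtwT_mem : gtwT ∈ eltT := by simp [eltT]

noncomputable def v0 : Equiv.Perm GolayPt := ofTab v0T (eltT_tabled _ v0T_mem)
noncomputable def t1 : Equiv.Perm GolayPt := ofTab t1T (eltT_tabled _ t1T_mem)
noncomputable def t2 : Equiv.Perm GolayPt := ofTab t2T (eltT_tabled _ t2T_mem)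
noncomputable def t3 : Equiv.Perm GolayPt := ofTab t3T (eltT_tabled _ t3T_mem)
noncomputable def g7 : Equiv.Perm GolayPt := ofTab g7T (eltT_tabled _ g7T_mem)
noncomputable def e0 : Equiv.Perm GolayPt := ofTab e0T (eltT_tabled _ e0T_mem)
noncomputable def e1 : Equiv.Perm GolayPt := ofTab e1T (eltT_tabled _ e1T_mem)
noncomputable def e2 : Equiv.Perm GolayPt := ofTab e2T (eltT_tabled _ e2T_mem)
noncomputable def e3 : Equiv.Perm GolayPt := ofTab e3T (eltT_tabled _ e3T_mem)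
noncomputable def g15 : Equiv.Perm GolayPt := ofTab g15T (eltT_tabled _ g15T_mem)
noncomputable def g3 : Equiv.Perm GolayPt := ofTab g3T (eltT_tabled _ g3T_mem)
noncomputable def x1 : Equiv.Perm GolayPt := ofTab x1T (eltT_tabled _ x1T_mem)
noncomputable def x2 : Equiv.Perm GolayPt := ofTab x2T (eltT_tabled _ x2T_mem)
noncomputable def y1 : Equiv.Perm GolayPt := ofTab y1T (eltT_tabled _ y1T_mem)
noncomputable def y2 : Equiv.Perm GolayPt := ofTab y2T (eltT_tabled _ y2T_mem)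
noncomputable def za : Equiv.Perm GolayPt := ofTab zaT (eltT_tabled _ zaT_mem)
noncomputable def zc : Equiv.Perm GolayPt := ofTab zcT (eltT_tabled _ zcT_mem)
noncomputable def tt : Equiv.Perm GolayPt := ofTab ttT (eltT_tabled _ ttT_mem)
noncomputable def ss : Equiv.Perm GolayPt := ofTab ssT (eltT_tabled _ ssT_mem)
noncomputable def h1 : Equiv.Perm GolayPt := ofTab h1T (eltT_tabled _ h1T_mem)
noncomputable def h2 : Equiv.Perm GolayPt := ofTab h2T (eltT_tabled _ h2T_mem)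
noncomputable def u22 : Equiv.Perm GolayPt := ofTab u22T (eltT_tabled _ u22T_mem)
noncomputable def g5 : Equiv.Perm GolayPt := ofTab g5T (eltT_tabled _ g5T_mem)
noncomputable def g11 : Equiv.Perm GolayPt := ofTab g11T (eltT_tabled _ g11T_mem)
noncomputable def g23 : Equiv.Perm GolayPt := ofTab g23T (eltT_tabled _ g23T_mem)
noncomputable def x3 : Equiv.Perm GolayPt := ofTab x3T (eltT_tabled _ x3T_mem)
noncomputable def y3 : Equiv.Perm GolayPt := ofTab y3T (eltT_tabled _ y3T_mem)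
noncomputable def gtw : Equiv.Perm GolayPt := ofTab gtwT (eltT_tabled _ gtwT_mem)

theorem tableOf_v0 : tableOf v0 = v0T := tableOf_ofTab _ _
theorem tableOf_t1 : tableOf t1 = t1T := tableOf_ofTab _ _
theorem tableOf_t2 : tableOf t2 = t2T := tableOf_ofTab _ _
theorem tableOf_t3 : tableOf t3 = t3T := tableOf_ofTab _ _
theorem tableOf_g7 : tableOf g7 = g7T := tableOf_ofTab _ _
theorem tableOf_e0 : tableOf e0 = e0T := tableOf_ofTab _ _
theorem tableOf_e1 : tableOf e1 = e1T := tableOf_ofTab _ _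
theorem tableOf_e2 : tableOf e2 = e2T := tableOf_ofTab _ _
theorem tableOf_e3 : tableOf e3 = e3T := tableOf_ofTab _ _
theorem tableOf_g15 : tableOf g15 = g15T := tableOf_ofTab _ _
theorem tableOf_g3 : tableOf g3 = g3T := tableOf_ofTab _ _
theorem tableOf_x1 : tableOf x1 = x1T := tableOf_ofTab _ _
theorem tableOf_x2 : tableOf x2 = x2T := tableOf_ofTab _ _
theorem tableOf_y1 : tableOf y1 = y1T := tableOf_ofTab _ _
theorem tableOf_y2 : tableOf y2 = y2T := tableOf_ofTab _ _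
theorem tableOf_za : tableOf za = zaT := tableOf_ofTab _ _
theorem tableOf_zc : tableOf zc = zcT := tableOf_ofTab _ _
theorem tableOf_tt : tableOf tt = ttT := tableOf_ofTab _ _
theorem tableOf_ss : tableOf ss = ssT := tableOf_ofTab _ _
theorem tableOf_h1 : tableOf h1 = h1T := tableOf_ofTab _ _
theorem tableOf_h2 : tableOf h2 = h2T := tableOf_ofTab _ _
theorem tableOf_u22 : tableOf u22 = u22T := tableOf_ofTab _ _
theorem tableOf_g5 : tableOf g5 = g5T := tableOf_ofTab _ _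
theorem tableOf_g11 : tableOf g11 = g11T := tableOf_ofTab _ _
theorem tableOf_g23 : tableOf g23 = g23T := tableOf_ofTab _ _
theorem tableOf_x3 : tableOf x3 = x3T := tableOf_ofTab _ _
theorem tableOf_y3 : tableOf y3 = y3T := tableOf_ofTab _ _
theorem tableOf_gtw : tableOf gtw = gtwT := tableOf_ofTab _ _

theorem v0_mem : v0 ∈ fixG M24 [0] := ofTab_mem_fixG _ _ [0] (eltT_fix0 _ v0T_mem)
theorem t1_mem : t1 ∈ fixG M24 [0] := ofTab_mem_fixG _ _ [0] (eltT_fix0 _ t1T_mem)
theorem t2_mem : t2 ∈ fixG M24 [0] := ofTab_mem_fixG _ _ [0] (eltT_fix0 _ t2T_mem)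
theorem t3_mem : t3 ∈ fixG M24 [0] := ofTab_mem_fixG _ _ [0] (eltT_fix0 _ t3T_mem)
theorem g7_mem : g7 ∈ fixG M24 [0] := ofTab_mem_fixG _ _ [0] (eltT_fix0 _ g7T_mem)
theorem e0_mem : e0 ∈ fixG M24 [0] := ofTab_mem_fixG _ _ [0] (eltT_fix0 _ e0T_mem)
theorem e1_mem : e1 ∈ fixG M24 [0] := ofTab_mem_fixG _ _ [0] (eltT_fix0 _ e1T_mem)
theorem e2_mem : e2 ∈ fixG M24 [0] := ofTab_mem_fixG _ _ [0] (eltT_fix0 _ e2T_mem)
theorem e3_mem : e3 ∈ fixG M24 [0] := ofTab_mem_fixG _ _ [0] (eltT_fix0 _ e3T_mem)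
theorem g15_mem : g15 ∈ fixG M24 [0] := ofTab_mem_fixG _ _ [0] (eltT_fix0 _ g15T_mem)
theorem g3_mem : g3 ∈ fixG M24 [0] := ofTab_mem_fixG _ _ [0] (eltT_fix0 _ g3T_mem)
theorem x1_mem : x1 ∈ fixG M24 [0] := ofTab_mem_fixG _ _ [0] (eltT_fix0 _ x1T_mem)
theorem x2_mem : x2 ∈ fixG M24 [0] := ofTab_mem_fixG _ _ [0] (eltT_fix0 _ x2T_mem)
theorem y1_mem : y1 ∈ fixG M24 [0] := ofTab_mem_fixG _ _ [0] (eltT_fix0 _ y1T_mem)
theorem y2_mem : y2 ∈ fixG M24 [0] := ofTab_mem_fixG _ _ [0] (eltT_fix0 _ y2T_mem)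
theorem za_mem : za ∈ fixG M24 [0] := ofTab_mem_fixG _ _ [0] (eltT_fix0 _ zaT_mem)
theorem zc_mem : zc ∈ fixG M24 [0] := ofTab_mem_fixG _ _ [0] (eltT_fix0 _ zcT_mem)
theorem tt_mem : tt ∈ fixG M24 [0] := ofTab_mem_fixG _ _ [0] (eltT_fix0 _ ttT_mem)
theorem ss_mem : ss ∈ fixG M24 [0] := ofTab_mem_fixG _ _ [0] (eltT_fix0 _ ssT_mem)
theorem h1_mem : h1 ∈ fixG M24 [0] := ofTab_mem_fixG _ _ [0] (eltT_fix0 _ h1T_mem)
theorem h2_mem : h2 ∈ fixG M24 [0] := ofTab_mem_fixG _ _ [0] (eltT_fix0 _ h2T_mem)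
theorem u22_mem : u22 ∈ fixG M24 [0] := ofTab_mem_fixG _ _ [0] (eltT_fix0 _ u22T_mem)
theorem g5_mem : g5 ∈ fixG M24 [0] := ofTab_mem_fixG _ _ [0] (eltT_fix0 _ g5T_mem)
theorem g11_mem : g11 ∈ fixG M24 [0] := ofTab_mem_fixG _ _ [0] (eltT_fix0 _ g11T_mem)
theorem g23_mem : g23 ∈ fixG M24 [0] := ofTab_mem_fixG _ _ [0] (eltT_fix0 _ g23T_mem)
theorem x3_mem : x3 ∈ fixG M24 [0] := ofTab_mem_fixG _ _ [0] (eltT_fix0 _ x3T_mem)
theorem y3_mem : y3 ∈ fixG M24 [0] := ofTab_mem_fixG _ _ [0] (eltT_fix0 _ y3T_mem)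
theorem gtw_mem : gtw ∈ fixG M24 [0] := ofTab_mem_fixG _ _ [0] (eltT_fix0 _ gtwT_mem)

theorem c_t1t2 : t1 * t2 = t2 * t1 :=
  eq_of_tableOf (by simp only [tableOf_mul, tableOf_inv, tableOf_one, tableOf_pow, tableOf_comm, tableOf_t1, tableOf_t2]; decide +kernel)
theorem c_t2t3 : t2 * t3 = t3 * t2 :=
  eq_of_tableOf (by simp only [tableOf_mul, tableOf_inv, tableOf_one, tableOf_pow, tableOf_comm, tableOf_t2, tableOf_t3]; decide +kernel)
theorem c_t3t1 : t3 * t1 = t1 * t3 :=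
  eq_of_tableOf (by simp only [tableOf_mul, tableOf_inv, tableOf_one, tableOf_pow, tableOf_comm, tableOf_t1, tableOf_t3]; decide +kernel)
theorem c_v0t1 : v0 * t1 = t1 * v0 :=
  eq_of_tableOf (by simp only [tableOf_mul, tableOf_inv, tableOf_one, tableOf_pow, tableOf_comm, tableOf_v0, tableOf_t1]; decide +kernel)
theorem c_v0t2 : v0 * t2 = t2 * v0 :=
  eq_of_tableOf (by simp only [tableOf_mul, tableOf_inv, tableOf_one, tableOf_pow, tableOf_comm, tableOf_v0, tableOf_t2]; decide +kernel)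
theorem c_v0t3 : v0 * t3 = t3 * v0 :=
  eq_of_tableOf (by simp only [tableOf_mul, tableOf_inv, tableOf_one, tableOf_pow, tableOf_comm, tableOf_v0, tableOf_t3]; decide +kernel)
theorem a_g7t1 : g7 * t1 = t2 * g7 :=
  eq_of_tableOf (by simp only [tableOf_mul, tableOf_inv, tableOf_one, tableOf_pow, tableOf_comm, tableOf_g7, tableOf_t1, tableOf_t2]; decide +kernel)
theorem a_g7t2 : g7 * t2 = t3 * g7 :=
  eq_of_tableOf (by simp only [tableOf_mul, tableOf_inv, tableOf_one, tableOf_pow, tableOf_comm, tableOf_g7, tableOf_t2, tableOf_t3]; decide +kernel)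
theorem a_g7t3 : g7 * t3 = t1 * t3 * g7 :=
  eq_of_tableOf (by simp only [tableOf_mul, tableOf_inv, tableOf_one, tableOf_pow, tableOf_comm, tableOf_g7, tableOf_t1, tableOf_t3]; decide +kernel)
theorem a_g7v0 : g7 * v0 = v0 * g7 :=
  eq_of_tableOf (by simp only [tableOf_mul, tableOf_inv, tableOf_one, tableOf_pow, tableOf_comm, tableOf_g7, tableOf_v0]; decide +kernel)
theorem c_e0e1 : e0 * e1 = e1 * e0 :=
  eq_of_tableOf (by simp only [tableOf_mul, tableOf_inv, tableOf_one, tableOf_pow, tableOf_comm, tableOf_e0, tableOf_e1]; decide +kernel)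
theorem c_e0e2 : e0 * e2 = e2 * e0 :=
  eq_of_tableOf (by simp only [tableOf_mul, tableOf_inv, tableOf_one, tableOf_pow, tableOf_comm, tableOf_e0, tableOf_e2]; decide +kernel)
theorem c_e0e3 : e0 * e3 = e3 * e0 :=
  eq_of_tableOf (by simp only [tableOf_mul, tableOf_inv, tableOf_one, tableOf_pow, tableOf_comm, tableOf_e0, tableOf_e3]; decide +kernel)
theorem c_e1e2 : e1 * e2 = e2 * e1 :=
  eq_of_tableOf (by simp only [tableOf_mul, tableOf_inv, tableOf_one, tableOf_pow, tableOf_comm, tableOf_e1, tableOf_e2]; decide +kernel)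
theorem c_e1e3 : e1 * e3 = e3 * e1 :=
  eq_of_tableOf (by simp only [tableOf_mul, tableOf_inv, tableOf_one, tableOf_pow, tableOf_comm, tableOf_e1, tableOf_e3]; decide +kernel)
theorem c_e2e3 : e2 * e3 = e3 * e2 :=
  eq_of_tableOf (by simp only [tableOf_mul, tableOf_inv, tableOf_one, tableOf_pow, tableOf_comm, tableOf_e2, tableOf_e3]; decide +kernel)
theorem a_g15e0 : g15 * e0 = e1 * g15 :=
  eq_of_tableOf (by simp only [tableOf_mul, tableOf_inv, tableOf_one, tableOf_pow, tableOf_comm, tableOf_g15, tableOf_e0, tableOf_e1]; decide +kernel)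
theorem a_g15e1 : g15 * e1 = e2 * g15 :=
  eq_of_tableOf (by simp only [tableOf_mul, tableOf_inv, tableOf_one, tableOf_pow, tableOf_comm, tableOf_g15, tableOf_e1, tableOf_e2]; decide +kernel)
theorem a_g15e2 : g15 * e2 = e3 * g15 :=
  eq_of_tableOf (by simp only [tableOf_mul, tableOf_inv, tableOf_one, tableOf_pow, tableOf_comm, tableOf_g15, tableOf_e2, tableOf_e3]; decide +kernel)
theorem a_g15e3 : g15 * e3 = e0 * e1 * g15 :=
  eq_of_tableOf (by simp only [tableOf_mul, tableOf_inv, tableOf_one, tableOf_pow, tableOf_comm, tableOf_g15, tableOf_e0, tableOf_e1, tableOf_e3]; decide +kernel)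
theorem k_11 : ⁅x1, y1⁆ = za :=
  eq_of_tableOf (by simp only [tableOf_mul, tableOf_inv, tableOf_one, tableOf_pow, tableOf_comm, tableOf_x1, tableOf_y1, tableOf_za]; decide +kernel)
theorem k_12 : ⁅x1, y2⁆ = za * zc :=
  eq_of_tableOf (by simp only [tableOf_mul, tableOf_inv, tableOf_one, tableOf_pow, tableOf_comm, tableOf_x1, tableOf_y2, tableOf_za, tableOf_zc]; decide +kernel)
theorem k_21 : ⁅x2, y1⁆ = zc :=
  eq_of_tableOf (by simp only [tableOf_mul, tableOf_inv, tableOf_one, tableOf_pow, tableOf_comm, tableOf_x2, tableOf_y1, tableOf_zc]; decide +kernel)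
theorem k_22 : ⁅x2, y2⁆ = za :=
  eq_of_tableOf (by simp only [tableOf_mul, tableOf_inv, tableOf_one, tableOf_pow, tableOf_comm, tableOf_x2, tableOf_y2, tableOf_za]; decide +kernel)
theorem s_x1 : x1 * x1 = 1 :=
  eq_of_tableOf (by simp only [tableOf_mul, tableOf_inv, tableOf_one, tableOf_pow, tableOf_comm, tableOf_x1]; decide +kernel)
theorem s_x2 : x2 * x2 = 1 :=
  eq_of_tableOf (by simp only [tableOf_mul, tableOf_inv, tableOf_one, tableOf_pow, tableOf_comm, tableOf_x2]; decide +kernel)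
theorem s_za : za * za = 1 :=
  eq_of_tableOf (by simp only [tableOf_mul, tableOf_inv, tableOf_one, tableOf_pow, tableOf_comm, tableOf_za]; decide +kernel)
theorem s_zc : zc * zc = 1 :=
  eq_of_tableOf (by simp only [tableOf_mul, tableOf_inv, tableOf_one, tableOf_pow, tableOf_comm, tableOf_zc]; decide +kernel)
theorem c_zazc : za * zc = zc * za :=
  eq_of_tableOf (by simp only [tableOf_mul, tableOf_inv, tableOf_one, tableOf_pow, tableOf_comm, tableOf_za, tableOf_zc]; decide +kernel)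
theorem c_g3za : g3 * za = za * g3 :=
  eq_of_tableOf (by simp only [tableOf_mul, tableOf_inv, tableOf_one, tableOf_pow, tableOf_comm, tableOf_g3, tableOf_za]; decide +kernel)
theorem c_g3zc : g3 * zc = zc * g3 :=
  eq_of_tableOf (by simp only [tableOf_mul, tableOf_inv, tableOf_one, tableOf_pow, tableOf_comm, tableOf_g3, tableOf_zc]; decide +kernel)
theorem p_g3 : g3 * g3 * g3 = 1 :=
  eq_of_tableOf (by simp only [tableOf_mul, tableOf_inv, tableOf_one, tableOf_pow, tableOf_comm, tableOf_g3]; decide +kernel)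
theorem a_g3x1 : g3 * x1 * g3⁻¹ = x2 * 1 :=
  eq_of_tableOf (by simp only [tableOf_mul, tableOf_inv, tableOf_one, tableOf_pow, tableOf_comm, tableOf_g3, tableOf_x1, tableOf_x2]; decide +kernel)
theorem a_g3x2 : g3 * x2 * g3⁻¹ = x1 * x2 * (za * zc) :=
  eq_of_tableOf (by simp only [tableOf_mul, tableOf_inv, tableOf_one, tableOf_pow, tableOf_comm, tableOf_g3, tableOf_x1, tableOf_x2, tableOf_za, tableOf_zc]; decide +kernel)
theorem a_g3y1 : g3 * y1 * g3⁻¹ = y2 * 1 :=
  eq_of_tableOf (by simp only [tableOf_mul, tableOf_inv, tableOf_one, tableOf_pow, tableOf_comm, tableOf_g3, tableOf_y1, tableOf_y2]; decide +kernel)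
theorem a_g3y2 : g3 * y2 * g3⁻¹ = y1 * y2 * zc :=
  eq_of_tableOf (by simp only [tableOf_mul, tableOf_inv, tableOf_one, tableOf_pow, tableOf_comm, tableOf_g3, tableOf_y1, tableOf_y2, tableOf_zc]; decide +kernel)
theorem n_za : za ≠ 1 :=
  ne_of_tableOf (by simp only [tableOf_mul, tableOf_inv, tableOf_one, tableOf_pow, tableOf_comm, tableOf_za]; decide +kernel)
theorem n_zc : zc ≠ 1 :=
  ne_of_tableOf (by simp only [tableOf_mul, tableOf_inv, tableOf_one, tableOf_pow, tableOf_comm, tableOf_zc]; decide +kernel)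
theorem n_zazc : za * zc ≠ 1 :=
  ne_of_tableOf (by simp only [tableOf_mul, tableOf_inv, tableOf_one, tableOf_pow, tableOf_comm, tableOf_za, tableOf_zc]; decide +kernel)
theorem s_tt : tt * tt = 1 :=
  eq_of_tableOf (by simp only [tableOf_mul, tableOf_inv, tableOf_one, tableOf_pow, tableOf_comm, tableOf_tt]; decide +kernel)
theorem r_tower : tt * ss * tt = h1 * tt * h2 :=
  eq_of_tableOf (by simp only [tableOf_mul, tableOf_inv, tableOf_one, tableOf_pow, tableOf_comm, tableOf_tt, tableOf_ss, tableOf_h1, tableOf_h2]; decide +kernel)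
theorem n_ttss : tt * ss ≠ ss * tt :=
  ne_of_tableOf (by simp only [tableOf_mul, tableOf_inv, tableOf_one, tableOf_pow, tableOf_comm, tableOf_tt, tableOf_ss]; decide +kernel)
theorem s_t1 : t1 * t1 = 1 :=
  eq_of_tableOf (by simp only [tableOf_mul, tableOf_inv, tableOf_one, tableOf_pow, tableOf_comm, tableOf_t1]; decide +kernel)
theorem q_h : g7 ^ 5 * t1 * (g7 ^ 5)⁻¹ = t1 * (g7 * t1 * g7⁻¹) :=
  eq_of_tableOf (by simp only [tableOf_mul, tableOf_inv, tableOf_one, tableOf_pow, tableOf_comm, tableOf_g7, tableOf_t1]; decide +kernel)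
theorem q_u : tt = u22 * t1 * u22⁻¹ :=
  eq_of_tableOf (by simp only [tableOf_mul, tableOf_inv, tableOf_one, tableOf_pow, tableOf_comm, tableOf_tt, tableOf_u22, tableOf_t1]; decide +kernel)
theorem c_x3y3 : x3 * y3 = y3 * x3 :=
  eq_of_tableOf (by simp only [tableOf_mul, tableOf_inv, tableOf_one, tableOf_pow, tableOf_comm, tableOf_x3, tableOf_y3]; decide +kernel)
theorem a_gtwx3 : gtw * x3 * gtw⁻¹ = x3⁻¹ :=
  eq_of_tableOf (by simp only [tableOf_mul, tableOf_inv, tableOf_one, tableOf_pow, tableOf_comm, tableOf_gtw, tableOf_x3]; decide +kernel)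
theorem a_gtwy3 : gtw * y3 * gtw⁻¹ = y3 :=
  eq_of_tableOf (by simp only [tableOf_mul, tableOf_inv, tableOf_one, tableOf_pow, tableOf_comm, tableOf_gtw, tableOf_y3]; decide +kernel)
theorem p_x3 : x3 * x3 * x3 = 1 :=
  eq_of_tableOf (by simp only [tableOf_mul, tableOf_inv, tableOf_one, tableOf_pow, tableOf_comm, tableOf_x3]; decide +kernel)
theorem p_g5 : g5 ^ 5 = 1 :=
  eq_of_tableOf (by simp only [tableOf_mul, tableOf_inv, tableOf_one, tableOf_pow, tableOf_comm, tableOf_g5]; decide +kernel)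
theorem n_g5 : g5 ≠ 1 :=
  ne_of_tableOf (by simp only [tableOf_mul, tableOf_inv, tableOf_one, tableOf_pow, tableOf_comm, tableOf_g5]; decide +kernel)
theorem p_g7 : g7 ^ 7 = 1 :=
  eq_of_tableOf (by simp only [tableOf_mul, tableOf_inv, tableOf_one, tableOf_pow, tableOf_comm, tableOf_g7]; decide +kernel)
theorem n_g7 : g7 ≠ 1 :=
  ne_of_tableOf (by simp only [tableOf_mul, tableOf_inv, tableOf_one, tableOf_pow, tableOf_comm, tableOf_g7]; decide +kernel)
theorem p_g11 : g11 ^ 11 = 1 :=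
  eq_of_tableOf (by simp only [tableOf_mul, tableOf_inv, tableOf_one, tableOf_pow, tableOf_comm, tableOf_g11]; decide +kernel)
theorem n_g11 : g11 ≠ 1 :=
  ne_of_tableOf (by simp only [tableOf_mul, tableOf_inv, tableOf_one, tableOf_pow, tableOf_comm, tableOf_g11]; decide +kernel)
theorem p_g23 : g23 ^ 23 = 1 :=
  eq_of_tableOf (by simp only [tableOf_mul, tableOf_inv, tableOf_one, tableOf_pow, tableOf_comm, tableOf_g23]; decide +kernel)
theorem n_g23 : g23 ≠ 1 :=
  ne_of_tableOf (by simp only [tableOf_mul, tableOf_inv, tableOf_one, tableOf_pow, tableOf_comm, tableOf_g23]; decide +kernel)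

end Cfsg.Agent.Helper72.M23Mult
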