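import Cfsg.Agent.Helper72.M23MultSub

/-!
# The Schur multiplier of `M23` is trivial

Every finite stem extension of the point stabiliser `fixG M24 [0]` of `M24` has trivial kernel.
-/

set_option autoImplicit false

namespace Cfsg.Agent.Helper72.M23Mult

open Cfsg Cfsg.Agent.Helper7 Cfsg.Agent.Helper72.TabSub Cfsg.Agent.Helper72.M24Tab
open Cfsg.Agent.Helper72.M23MultData Cfsg.Agent.Helper72.M23MultCheck
open Cfsg.Agent.Helper72.CentExt
open scoped commutatorElement

universe u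

/-! ### the small subgroups -/

def V1 : Subgroup (Equiv.Perm GolayPt) := tabSubP V1tabs V1_closed
def V2 : Subgroup (Equiv.Perm GolayPt) := tabSubP V2tabs V2_closed
def U : Subgroup (Equiv.Perm GolayPt) := tabSubP Utabs U_closed
def E9 : Subgroup (Equiv.Perm GolayPt) := tabSubP E9tabs E9_closed
noncomputable def Z : Subgroup (Equiv.Perm GolayPt) := fourSubgroup za zc s_za s_zc c_zazc

theorem V1_le_closure : ∀ x ∈ V1, x ∈ Subgroup.closure ({v0, t1, t2, t3} : Set (Equiv.Perm GolayPt)) := by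
  intro x hx
  apply mem_closure_four v0 t1 t2 t3 2 V1tabs _ x hx
  rw [tableOf_v0, tableOf_t1, tableOf_t2, tableOf_t3]
  exact V1_gen

theorem V2_le_closure : ∀ x ∈ V2, x ∈ Subgroup.closure ({e0, e1, e2, e3} : Set (Equiv.Perm GolayPt)) := by
  intro x hx
  apply mem_closure_four e0 e1 e2 e3 2 V2tabs _ x hx
  rw [tableOf_e0, tableOf_e1, tableOf_e2, tableOf_e3]
  exact V2_gen

theorem E9_le_closure : ∀ x ∈ E9, x ∈ Subgroup.closure ({x3, y3} : Set (Equiv.Perm GolayPt)) := by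
  intro x hx
  apply mem_closure_two x3 y3 3 E9tabs _ x hx
  rw [tableOf_x3, tableOf_y3]
  exact E9_gen

theorem mem_V1_of {g : Equiv.Perm GolayPt} (h : V1tabs.contains (tableOf g) = true) : g ∈ V1 :=
  List.contains_iff_mem.mp h

theorem mem_V2_of {g : Equiv.Perm GolayPt} (h : V2tabs.contains (tableOf g) = true) : g ∈ V2 :=
  List.contains_iff_mem.mp h

theorem Z_le_V1 : Z ≤ V1 := by
  rintro w (rfl | rfl | rfl | rfl)
  · exact one_mem _
  · exact mem_V1_of (by rw [tableOf_za]; decide +kernel)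
  · exact mem_V1_of (by rw [tableOf_zc]; decide +kernel)
  · exact mem_V1_of (by rw [tableOf_mul, tableOf_za, tableOf_zc]; decide +kernel)

theorem Z_le_V2 : Z ≤ V2 := by
  rintro w (rfl | rfl | rfl | rfl)
  · exact one_mem _
  · exact mem_V2_of (by rw [tableOf_za]; decide +kernel)
  · exact mem_V2_of (by rw [tableOf_zc]; decide +kernel)
  · exact mem_V2_of (by rw [tableOf_mul, tableOf_za, tableOf_zc]; decide +kernel)

theorem conj_mem_V1 : g7 * t1 * g7⁻¹ ∈ V1 := by
  apply mem_V1_of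
  rw [tableOf_mul, tableOf_mul, tableOf_inv, tableOf_g7, tableOf_t1]
  decide +kernel

theorem za_mem_Z : za ∈ Z := Or.inr (Or.inl rfl)
theorem zc_mem_Z : zc ∈ Z := Or.inr (Or.inr (Or.inl rfl))
theorem zazc_mem_Z : za * zc ∈ Z := Or.inr (Or.inr (Or.inr rfl))

theorem U_forms : ∀ w ∈ U, ∃ (i j k l : ℕ) (ζ : Equiv.Perm GolayPt), ζ ∈ Z ∧
    w = x1 ^ i * x2 ^ j * y1 ^ k * y2 ^ l * ζ := by
  intro w hw
  have h := List.all_eq_true.mp U_gen _ (mem_tabSubP.mp hw)
  simp only [List.any_eq_true, List.mem_range, beq_iff_eq] at h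
  obtain ⟨i, _, j, _, k, _, m, _, ζT, hζ, e⟩ := h
  have hζ' : ∃ ζ ∈ Z, tableOf ζ = ζT := by
    simp only [List.mem_cons, List.not_mem_nil, or_false] at hζ
    rcases hζ with rfl | rfl | rfl | rfl
    · exact ⟨1, one_mem _, tableOf_one⟩
    · exact ⟨za, za_mem_Z, tableOf_za⟩
    · exact ⟨zc, zc_mem_Z, tableOf_zc⟩
    · exact ⟨za * zc, zazc_mem_Z, by rw [tableOf_mul, tableOf_za, tableOf_zc]⟩
  obtain ⟨ζ, hζZ, hζt⟩ := hζ'
  refine ⟨i, j, k, m, ζ, hζZ, ?_⟩
  apply eq_of_tableOf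
  rw [tableOf_mul, tableOf_mul, tableOf_mul, tableOf_mul, tableOf_pow, tableOf_pow, tableOf_pow,
    tableOf_pow, tableOf_x1, tableOf_x2, tableOf_y1, tableOf_y2, hζt]
  exact e.symm

theorem U_le_L3 : U ≤ fixG M24 [2, 1, 0] := by
  apply tabSubP_le
  intro l hl
  exact (tabled_of_map Uidx_eq l hl).fixG
    (by
      have := List.all_eq_true.mp U_fix l hl
      rw [List.all_eq_true] at this ⊢
      intro i hi
      have h := this i hi
      rw [Bool.and_eq_true] at h
      exact h.1)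
    (by decide)

theorem card_U : Nat.card U = 64 := by
  rw [U, card_tabSubP U_closed U_nodup (tabled_of_map Uidx_eq), U_length]

theorem E9_le_M : E9 ≤ fixG M24 [0] := by
  apply tabSubP_le
  intro l hl
  exact (tabled_of_map E9idx_eq l hl).fixG
    (by
      have := List.all_eq_true.mp E9_fix l hl
      rw [List.all_eq_true] at this ⊢
      intro i hi
      have h := this i hi
      rw [Bool.and_eq_true] at h
      exact h.1)
    (by decide)

theorem card_E9 : Nat.card E9 = 9 := by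
  rw [E9, card_tabSubP E9_closed E9_nodup (tabled_of_map E9idx_eq), E9_length]

/-! ### the 2-part -/

section

variable {Γ : Type u} [Group Γ] (σ : Γ →* Equiv.Perm GolayPt) (hc : σ.ker ≤ Subgroup.center Γ)
  (hr : σ.range = fixG M24 [0])

include hc hr in
theorem V1_abelian : ∀ p ∈ V1.comap σ, ∀ q ∈ V1.comap σ, p * q = q * p := by
  have mr : ∀ g ∈ fixG M24 [0], g ∈ σ.range := fun g hg => hr ▸ hg
  exact abelian_eightFix σ hc (mr _ g7_mem) (mr _ v0_mem) (mr _ t1_mem) (mr _ t2_mem)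
    (mr _ t3_mem) c_t1t2 c_t2t3 c_t3t1 c_v0t1 c_v0t2 c_v0t3 a_g7t1 a_g7t2 a_g7t3 a_g7v0 V1
    V1_le_closure

include hc hr in
theorem V2_abelian : ∀ p ∈ V2.comap σ, ∀ q ∈ V2.comap σ, p * q = q * p := by
  have mr : ∀ g ∈ fixG M24 [0], g ∈ σ.range := fun g hg => hr ▸ hg
  exact abelian_singer σ hc (mr _ g15_mem) (mr _ e0_mem) (mr _ e1_mem) (mr _ e2_mem)
    (mr _ e3_mem) c_e0e1 c_e0e2 c_e0e3 c_e1e2 c_e1e3 c_e2e3 a_g15e0 a_g15e1 a_g15e2 a_g15e3 V2
    V2_le_closure

include hc hr in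
theorem U_lemma : ∀ w ∈ dl σ U, σ w = 1 → w = 1 := by
  have mr : ∀ g ∈ fixG M24 [0], g ∈ σ.range := fun g hg => hr ▸ hg
  apply u_lemma_down σ hc V1 V2 Z (V1_abelian σ hc hr) (V2_abelian σ hc hr) Z_le_V1 Z_le_V2 U
    (mr _ x1_mem) (mr _ x2_mem) (mr _ y1_mem) (mr _ y2_mem) (mr _ g3_mem)
    (mem_V1_of (by rw [tableOf_x1]; decide +kernel))
    (mem_V1_of (by rw [tableOf_x2]; decide +kernel))
    (mem_V2_of (by rw [tableOf_y1]; decide +kernel))
    (mem_V2_of (by rw [tableOf_y2]; decide +kernel))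
    U_forms
    (by rw [k_11]; exact za_mem_Z) (by rw [k_12]; exact zazc_mem_Z)
    (by rw [k_21]; exact zc_mem_Z) (by rw [k_22]; exact za_mem_Z)
    s_x1 s_x2
  · rintro ζ (rfl | rfl | rfl | rfl)
    · exact ⟨by rw [mul_one, one_mul], mul_one 1⟩
    · exact ⟨c_g3za, s_za⟩
    · exact ⟨c_g3zc, s_zc⟩
    · refine ⟨?_, ?_⟩
      · rw [← mul_assoc, c_g3za, mul_assoc, c_g3zc, mul_assoc]
      · calc za * zc * (za * zc) = za * (zc * za) * zc := by group
          _ = za * (za * zc) * zc := by rw [c_zazc]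
          _ = (za * za) * (zc * zc) := by group
          _ = 1 := by rw [s_za, s_zc, mul_one]
  · exact p_g3
  · exact ⟨1, one_mem _, a_g3x1⟩
  · exact ⟨za * zc, zazc_mem_Z, a_g3x2⟩
  · exact ⟨1, one_mem _, a_g3y1⟩
  · exact ⟨zc, zc_mem_Z, a_g3y2⟩
  · rw [k_11]; exact n_za
  · rw [k_21]; exact n_zc
  · rw [k_11, k_21]; exact n_zazc

include hc hr in
theorem exists_sq [Finite Γ] (hst : σ.ker ≤ commutator Γ) :
    ∀ z ∈ σ.ker, ∃ e ∈ σ.ker, z ^ (23 * 315) = e ^ 2 := by
  have mr : ∀ g ∈ fixG M24 [0], g ∈ σ.range := fun g hg => hr ▸ hg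
  have hp : ⁅σ.range, σ.range⁆ = σ.range := by rw [hr]; exact perfect_M23
  have h22r : fixG M24 [1, 0] ≤ σ.range := by rw [hr]; exact le_21
  obtain ⟨t', ht'G, hσt', hT⟩ := tower σ hc (fixG M24 [1, 0]) (fixG M24 [2, 1, 0])
    (fixG M24 [3, 2, 1, 0]) h22r le_32 le_43 perfect_M22 perfect_L3 perfect_K4 tt ss h1 h2
    tt_mem22 s_tt tt_not_mem3 tt_normalizes ss_mem3 h1_mem3 h2_mem3 r_tower dc22 dc3
  apply exists_sq_of_tower σ hc 23 315 (fixG M24 [1, 0]) (fixG M24 [2, 1, 0]) U t' hT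
  · -- transfer from `M23` to `M22`
    intro z hz
    have h := pow_relIndex_mem_dl σ hc (fixG M24 [1, 0]) le_rfl hp hz
      (by rw [dl_range]; exact hst hz)
    have hidx : (fixG M24 [1, 0]).relIndex σ.range = 23 := by
      rw [hr]
      exact relIndex_eq_of_card _ _ le_21 card_fixG_m24_2 card_fixG_m24_1 (by norm_num)
        (by norm_num)
    rwa [hidx] at h
  · -- transfer from `L₃(4)` to its Sylow 2-subgroup
    intro b hb hbL
    have h := pow_relIndex_mem_dl σ hc U (le_32.trans h22r) perfect_L3 hb hbL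
    have hidx : U.relIndex (fixG M24 [2, 1, 0]) = 315 :=
      relIndex_eq_of_card _ _ U_le_L3 card_U card_fixG_m24_3 (by norm_num) (by norm_num)
    rwa [hidx] at h
  · exact U_lemma σ hc hr
  · -- the square of the lift of `tt`
    apply sq_lift_down σ hc V1 (V1_abelian σ hc hr) (w := t1) (g := g7) (h := g7 ^ 5) (u := u22)
      (mr _ t1_mem) (mr _ g7_mem) (mr _ (pow_mem g7_mem 5)) (mr _ u22_mem)
      (mem_V1_of (by rw [tableOf_t1]; decide +kernel))
      conj_mem_V1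
      s_t1 q_h t'
    rw [hσt', q_u]

end

/-! ### the odd part -/

section

variable {Γ : Type u} [Group Γ] [Finite Γ] (σ : Γ →* Equiv.Perm GolayPt)
  (hc : σ.ker ≤ Subgroup.center Γ) (hr : σ.range = fixG M24 [0]) (hst : σ.ker ≤ commutator Γ)

include hc hr hst in
theorem pow_128 : ∀ z ∈ σ.ker, z ^ 128 = 1 := by
  have mr : ∀ g ∈ fixG M24 [0], g ∈ σ.range := fun g hg => hr ▸ hg
  have hp : ⁅σ.range, σ.range⁆ = σ.range := by rw [hr]; exact perfect_M23
  intro z hz
  have h3 : z ^ 1133440 = 1 := by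
    have h := pow_relIndex_eq_one σ hc hst hp E9
      (abelian_twist σ hc (mr _ gtw_mem) (mr _ x3_mem) (mr _ y3_mem) c_x3y3 a_gtwx3 a_gtwy3 p_x3
        E9 E9_le_closure) hz
    have hidx : E9.relIndex σ.range = 1133440 := by
      rw [hr]
      exact relIndex_eq_of_card _ _ E9_le_M card_E9 card_fixG_m24_1 (by norm_num) (by norm_num)
    rwa [hidx] at h
  have cyc : ∀ (g : Equiv.Perm GolayPt) (p k : ℕ), g ∈ fixG M24 [0] → p.Prime → g ^ p = 1 →
      g ≠ 1 → p * k = 10200960 → z ^ k = 1 := by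
    intro g p k hg hp' hgp hg1 hpk
    have h := pow_relIndex_eq_one σ hc hst hp (Subgroup.zpowers g) (abelian_zpowers σ hc (mr _ hg))
      hz
    have hidx : (Subgroup.zpowers g).relIndex σ.range = k := by
      rw [hr]
      exact relIndex_zpowers _ g hg p hp' hgp hg1 card_fixG_m24_1 hpk
    rwa [hidx] at h
  have h5 : z ^ 2040192 = 1 := cyc g5 5 _ g5_mem (by norm_num) p_g5 n_g5 (by norm_num)
  have h7 : z ^ 1457280 = 1 := cyc g7 7 _ g7_mem (by norm_num) p_g7 n_g7 (by norm_num)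
  have h11 : z ^ 927360 = 1 := cyc g11 11 _ g11_mem (by norm_num) p_g11 n_g11 (by norm_num)
  have h23 : z ^ 443520 = 1 := cyc g23 23 _ g23_mem (by norm_num) p_g23 n_g23 (by norm_num)
  have a1 : z ^ 226688 = 1 := by
    have := (pow_gcd_eq_one (a := z) (m := 1133440) (n := 2040192)).mpr ⟨h3, h5⟩
    simpa using this
  have a2 : z ^ 32384 = 1 := by
    have := (pow_gcd_eq_one (a := z) (m := 226688) (n := 1457280)).mpr ⟨a1, h7⟩
    simpa using this
  have a3 : z ^ 2944 = 1 := by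
    have := (pow_gcd_eq_one (a := z) (m := 32384) (n := 927360)).mpr ⟨a2, h11⟩
    simpa using this
  have := (pow_gcd_eq_one (a := z) (m := 2944) (n := 443520)).mpr ⟨a3, h23⟩
  simpa using this

include hc hr hst in
theorem ker_eq_bot_aux : σ.ker = ⊥ := by
  rw [eq_bot_iff]
  intro z hz
  rw [Subgroup.mem_bot]
  have h128 := pow_128 σ hc hr hst
  obtain ⟨f, hf, e⟩ := pow_pow_eq_pow_two_pow σ.ker (23 * 315) (exists_sq σ hc hr hst) 7 z hz
  have h1 : z ^ ((23 * 315) ^ 7) = 1 := by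
    rw [e]
    exact h128 f hf
  have := (pow_gcd_eq_one (a := z) (m := (23 * 315) ^ 7) (n := 128)).mpr ⟨h1, h128 z hz⟩
  have hg : Nat.gcd ((23 * 315) ^ 7) 128 = 1 := by norm_num
  rw [hg, pow_one] at this
  exact this

end

/-- Every finite stem extension of the point stabiliser of `M24` is an isomorphism. -/
theorem ker_eq_bot {Γ : Type u} [Group Γ] [Finite Γ] (τ : Γ →* ↥(fixG M24 [0]))
    (hτ : Cfsg.IsStemExtension τ) : τ.ker = ⊥ := by
  have hker : ((fixG M24 [0]).subtype.comp τ).ker = τ.ker := by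
    ext x
    rw [MonoidHom.mem_ker, MonoidHom.mem_ker, MonoidHom.comp_apply]
    constructor
    · intro h
      exact Subtype.ext h
    · intro h
      rw [h]; rfl
  have hr : ((fixG M24 [0]).subtype.comp τ).range = fixG M24 [0] := by
    ext x
    constructor
    · rintro ⟨γ, rfl⟩
      exact (τ γ).2
    · intro hx
      obtain ⟨γ, hγ⟩ := hτ.1 ⟨x, hx⟩
      exact ⟨γ, by rw [MonoidHom.comp_apply, hγ]; rfl⟩
  rw [← hker]
  apply ker_eq_bot_aux _ _ hr
  · rw [hker]; exact hτ.2.2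
  · rw [hker]; exact hτ.2.1

end Cfsg.Agent.Helper72.M23Mult
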