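import Cfsg.Agent.Helper72.M23MultElts

/-!
# Subgroups of `M23` used for the computation of its Schur multiplier
-/

set_option autoImplicit false

namespace Cfsg.Agent.Helper72.M23Mult

open Cfsg Cfsg.Agent.Helper7 Cfsg.Agent.Helper72.TabSub Cfsg.Agent.Helper72.M24Tab
open Cfsg.Agent.Helper72.M23MultData Cfsg.Agent.Helper72.M23MultCheck
open Cfsg.Agent.Helper72.CentExt
open scoped commutatorElement

/-! ### the chain -/

theorem base1 : baseRev m24Levels 1 ++ [] = [0] := by decide +kernel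
theorem base2 : baseRev m24Levels 2 ++ [] = [1, 0] := by decide +kernel
theorem base3 : baseRev m24Levels 3 ++ [] = [2, 1, 0] := by decide +kernel
theorem base4 : baseRev m24Levels 4 ++ [] = [3, 2, 1, 0] := by decide +kernel

theorem hBd (n : ℕ) : Bounds M24 (baseRev m24Levels n ++ []) (m24Levels.drop n) :=
  bounds_drop n m24_bounds

theorem hokd (n : ℕ) : chainOK (baseRev m24Levels n ++ []) (m24Levels.drop n) = true :=
  chainOK_drop n m24_chainOK

theorem hTd (n : ℕ) : ∀ L ∈ m24Levels.drop n, ∀ l ∈ L.T, Tabled M24 l :=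
  fun L hL l hl => tabled_m24Levels L (List.mem_of_mem_drop hL) l hl

theorem m24Levels_length : m24Levels.length = 7 := by
  rw [m24Levels, List.length_map]; rfl

theorem drop_eq (n : ℕ) (h1 : n < m24Levels.length) (h2 : n + 1 < m24Levels.length) :
    m24Levels.drop n = m24Levels[n] :: m24Levels[n + 1] :: m24Levels.drop (n + 2) := by
  rw [List.drop_eq_getElem_cons h1, List.drop_eq_getElem_cons h2]

/-! ### perfect subgroups -/

theorem perfect_L3 : ⁅fixG M24 [2, 1, 0], fixG M24 [2, 1, 0]⁆ = fixG M24 [2, 1, 0] := by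
  have h := perfect_of_cert (H := M24) (F := baseRev m24Levels 3 ++ []) (Ls := m24Levels.drop 3)
    (by rw [base3]; decide) (hTd 3) (hokd 3) (hBd 3) certL certL_ok
  rwa [base3] at h

theorem perfect_K4 :
    ⁅fixG M24 [3, 2, 1, 0], fixG M24 [3, 2, 1, 0]⁆ = fixG M24 [3, 2, 1, 0] := by
  have h := perfect_of_cert (H := M24) (F := baseRev m24Levels 4 ++ []) (Ls := m24Levels.drop 4)
    (by rw [base4]; decide) (hTd 4) (hokd 4) (hBd 4) certK certK_ok
  rwa [base4] at h

theorem tt_mem22 : tt ∈ fixG M24 [1, 0] :=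
  ofTab_mem_fixG _ _ [1, 0] (by decide +kernel)

theorem ss_mem3 : ss ∈ fixG M24 [2, 1, 0] :=
  ofTab_mem_fixG _ _ [2, 1, 0] (by decide +kernel)

theorem h1_mem3 : h1 ∈ fixG M24 [2, 1, 0] :=
  ofTab_mem_fixG _ _ [2, 1, 0] (by decide +kernel)

theorem h2_mem3 : h2 ∈ fixG M24 [2, 1, 0] :=
  ofTab_mem_fixG _ _ [2, 1, 0] (by decide +kernel)

theorem le_32 : fixG M24 [2, 1, 0] ≤ fixG M24 [1, 0] := fixG_anti (by simp)
theorem le_43 : fixG M24 [3, 2, 1, 0] ≤ fixG M24 [2, 1, 0] := fixG_anti (by simp)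
theorem le_21 : fixG M24 [1, 0] ≤ fixG M24 [0] := fixG_anti (by simp)

theorem perfect_M22 : ⁅fixG M24 [1, 0], fixG M24 [1, 0]⁆ = fixG M24 [1, 0] := by
  have := m22_simple
  exact perfect_of_simple _ tt ss tt_mem22 (le_32 ss_mem3) n_ttss

theorem perfect_M23 : ⁅fixG M24 [0], fixG M24 [0]⁆ = fixG M24 [0] := by
  have := m23_simple
  exact perfect_of_simple _ tt ss tt_mem ss_mem n_ttss

/-! ### double cosets -/

theorem tt_pt2 : tt (pt 2) = pt 3 := by
  rw [apply_pt_of_tableOf tt (by norm_num), tableOf_tt]; rfl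

theorem tt_pt3 : tt (pt 3) = pt 2 := by
  rw [apply_pt_of_tableOf tt (by norm_num), tableOf_tt]; rfl

theorem ss_pt3 : ss (pt 3) = pt 4 := by
  rw [apply_pt_of_tableOf ss (by norm_num), tableOf_ss]; rfl

theorem dc22 : ∀ g ∈ fixG M24 [1, 0], g ∈ fixG M24 [2, 1, 0] ∨
    ∃ a ∈ fixG M24 [2, 1, 0], ∃ c ∈ fixG M24 [2, 1, 0], g = a * tt * c := by
  have hd := drop_eq 2 (by rw [m24Levels_length]; norm_num) (by rw [m24Levels_length]; norm_num)
  have hB := hBd 2
  have hok := hokd 2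
  rw [base2, hd] at hB hok
  exact doubleCoset_of_levels (H := M24) (F := [1, 0])
    (fun l hl => tabled_m24Levels _ (List.getElem_mem _) l hl) hok hB (by decide +kernel) tt
    tt_mem22 tt_pt2

theorem dc3 : ∀ g ∈ fixG M24 [2, 1, 0], g ∈ fixG M24 [3, 2, 1, 0] ∨
    ∃ a ∈ fixG M24 [3, 2, 1, 0], ∃ c ∈ fixG M24 [3, 2, 1, 0], g = a * ss * c := by
  have hd := drop_eq 3 (by rw [m24Levels_length]; norm_num) (by rw [m24Levels_length]; norm_num)
  have hB := hBd 3
  have hok := hokd 3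
  rw [base3, hd] at hB hok
  exact doubleCoset_of_levels (H := M24) (F := [2, 1, 0])
    (fun l hl => tabled_m24Levels _ (List.getElem_mem _) l hl) hok hB (by decide +kernel) ss
    ss_mem3 ss_pt3

theorem tt_not_mem3 : tt ∉ fixG M24 [2, 1, 0] := by
  intro h
  have h1 := h.2 2 (by simp)
  rw [tt_pt2] at h1
  have := pt_injOn (by norm_num) (by norm_num) h1
  omega

theorem tt_normalizes : ∀ k ∈ fixG M24 [3, 2, 1, 0], tt * k * tt⁻¹ ∈ fixG M24 [3, 2, 1, 0] :=
  conj_mem_fixG tt tt_mem22 tt_pt2 tt_pt3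

end Cfsg.Agent.Helper72.M23Mult
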