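import Cfsg.Agent.Helper72.M24MultData

/-!
# Table-level checks for the Schur multiplier of `M24`
-/

set_option autoImplicit false

namespace Cfsg.Agent.Helper72.M24MultCheck

open Cfsg Cfsg.Agent.Helper7 Cfsg.Agent.Helper72.TabSub Cfsg.Agent.Helper72.M24Tab
open Cfsg.Agent.Helper72.M24MultData

theorem eltIdx_eq : eltIdx.map (prodAt m24Levels) = eltT := by decide +kernel
theorem Q27idx_eq : Q27idx.map (prodAt m24Levels) = Q27tabs := by decide +kernel
theorem Q27_closed : closedB Q27tabs = true := by decide +kernel
theorem Q27_nodup : Q27tabs.Nodup := by decide +kernel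
theorem Q27_length : Q27tabs.length = 27 := by decide +kernel

theorem Q27_gen : Q27tabs.all (fun l => (List.range 3).any fun i => (List.range 3).any fun j =>
    (List.range 3).any fun k =>
      compT (compT (powT xxT i) (powT yyT j)) (powT (commT xxT yyT) k) == l) = true := by
  decide +kernel

end Cfsg.Agent.Helper72.M24MultCheck
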