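import Cfsg.Agent.Helper72.M24MultCheck
import Cfsg.Agent.Helper72.M23MultMain
import Cfsg.Agent.Helper7.M24Simple

/-!
# The Schur multiplier of `M24` is trivial

Every finite stem extension of `M24` has trivial kernel.
-/

set_option autoImplicit false
set_option linter.unusedSimpArgs false

namespace Cfsg.Agent.Helper72.M24Mult

open Cfsg Cfsg.Agent.Helper7 Cfsg.Agent.Helper72.TabSub Cfsg.Agent.Helper72.M24Tab
open Cfsg.Agent.Helper72.M24MultData Cfsg.Agent.Helper72.M24MultCheck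
open Cfsg.Agent.Helper72.CentExt Cfsg.Agent.Helper72.M23Mult
open scoped commutatorElement

universe u

theorem eltT_tabled : ∀ l ∈ eltT, Tabled M24 l := M23Mult.tabled_of_map eltIdx_eq

theorem tqT_mem : tqT ∈ eltT := by simp [eltT]
theorem sqT_mem : sqT ∈ eltT := by simp [eltT]
theorem h1qT_mem : h1qT ∈ eltT := by simp [eltT]
theorem h2qT_mem : h2qT ∈ eltT := by simp [eltT]
theorem u24T_mem : u24T ∈ eltT := by simp [eltT]
theorem xxT_mem : xxT ∈ eltT := by simp [eltT]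
theorem yyT_mem : yyT ∈ eltT := by simp [eltT]
theorem giT_mem : giT ∈ eltT := by simp [eltT]

noncomputable def tq : Equiv.Perm GolayPt := ofTab tqT (eltT_tabled _ tqT_mem)
noncomputable def sq : Equiv.Perm GolayPt := ofTab sqT (eltT_tabled _ sqT_mem)
noncomputable def h1q : Equiv.Perm GolayPt := ofTab h1qT (eltT_tabled _ h1qT_mem)
noncomputable def h2q : Equiv.Perm GolayPt := ofTab h2qT (eltT_tabled _ h2qT_mem)
noncomputable def u24 : Equiv.Perm GolayPt := ofTab u24T (eltT_tabled _ u24T_mem)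
noncomputable def xx : Equiv.Perm GolayPt := ofTab xxT (eltT_tabled _ xxT_mem)
noncomputable def yy : Equiv.Perm GolayPt := ofTab yyT (eltT_tabled _ yyT_mem)
noncomputable def gi : Equiv.Perm GolayPt := ofTab giT (eltT_tabled _ giT_mem)

theorem tableOf_tq : tableOf tq = tqT := tableOf_ofTab _ _
theorem tableOf_sq : tableOf sq = sqT := tableOf_ofTab _ _
theorem tableOf_h1q : tableOf h1q = h1qT := tableOf_ofTab _ _
theorem tableOf_h2q : tableOf h2q = h2qT := tableOf_ofTab _ _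
theorem tableOf_u24 : tableOf u24 = u24T := tableOf_ofTab _ _
theorem tableOf_xx : tableOf xx = xxT := tableOf_ofTab _ _
theorem tableOf_yy : tableOf yy = yyT := tableOf_ofTab _ _
theorem tableOf_gi : tableOf gi = giT := tableOf_ofTab _ _

theorem tq_mem : tq ∈ M24 := ofTab_mem _ _
theorem u24_mem : u24 ∈ M24 := ofTab_mem _ _
theorem xx_mem : xx ∈ M24 := ofTab_mem _ _
theorem yy_mem : yy ∈ M24 := ofTab_mem _ _
theorem gi_mem : gi ∈ M24 := ofTab_mem _ _
theorem sq_mem1 : sq ∈ fixG M24 [0] := ofTab_mem_fixG _ _ [0] (by decide +kernel)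
theorem h1q_mem1 : h1q ∈ fixG M24 [0] := ofTab_mem_fixG _ _ [0] (by decide +kernel)
theorem h2q_mem1 : h2q ∈ fixG M24 [0] := ofTab_mem_fixG _ _ [0] (by decide +kernel)

theorem s_tq : tq * tq = 1 :=
  eq_of_tableOf (by simp only [tableOf_mul, tableOf_one, tableOf_tq]; decide +kernel)

theorem r_towerq : tq * sq * tq = h1q * tq * h2q :=
  eq_of_tableOf (by
    simp only [tableOf_mul, tableOf_tq, tableOf_sq, tableOf_h1q, tableOf_h2q]; decide +kernel)

theorem n_tqsq : tq * sq ≠ sq * tq :=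
  ne_of_tableOf (by simp only [tableOf_mul, tableOf_tq, tableOf_sq]; decide +kernel)

theorem q_uq : tq = u24 * t1 * u24⁻¹ :=
  eq_of_tableOf (by
    simp only [tableOf_mul, tableOf_inv, tableOf_tq, tableOf_u24, tableOf_t1]; decide +kernel)

theorem k_zx : ⁅xx, yy⁆ * xx = xx * ⁅xx, yy⁆ :=
  eq_of_tableOf (by simp only [tableOf_mul, tableOf_comm, tableOf_xx, tableOf_yy]; decide +kernel)

theorem k_zy : ⁅xx, yy⁆ * yy = yy * ⁅xx, yy⁆ :=
  eq_of_tableOf (by simp only [tableOf_mul, tableOf_comm, tableOf_xx, tableOf_yy]; decide +kernel)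

theorem p_xx : xx * xx * xx = 1 :=
  eq_of_tableOf (by simp only [tableOf_mul, tableOf_one, tableOf_xx]; decide +kernel)

theorem p_yy : yy * yy * yy = 1 :=
  eq_of_tableOf (by simp only [tableOf_mul, tableOf_one, tableOf_yy]; decide +kernel)

theorem n_zz : ⁅xx, yy⁆ ≠ 1 :=
  ne_of_tableOf (by simp only [tableOf_comm, tableOf_one, tableOf_xx, tableOf_yy]; decide +kernel)

theorem a_gixx : gi * xx * gi⁻¹ = xx⁻¹ :=
  eq_of_tableOf (by simp only [tableOf_mul, tableOf_inv, tableOf_gi, tableOf_xx]; decide +kernel)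

theorem a_giyy : gi * yy * gi⁻¹ = yy⁻¹ :=
  eq_of_tableOf (by simp only [tableOf_mul, tableOf_inv, tableOf_gi, tableOf_yy]; decide +kernel)

theorem a_gizz : gi * ⁅xx, yy⁆ * gi⁻¹ = ⁅xx, yy⁆ :=
  eq_of_tableOf (by
    simp only [tableOf_mul, tableOf_inv, tableOf_comm, tableOf_gi, tableOf_xx, tableOf_yy]
    decide +kernel)

/-! ### subgroups -/

theorem base0 : baseRev m24Levels 0 ++ [] = [] := by decide +kernel

theorem le_10 : fixG M24 [0] ≤ fixG M24 [] := fixG_anti (by simp)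

theorem tq_mem0 : tq ∈ fixG M24 [] := ⟨tq_mem, fun i hi => by simp at hi⟩

theorem perfect_M24 : ⁅fixG M24 [], fixG M24 []⁆ = fixG M24 [] := by
  rw [fixG_nil]
  have := m24_simple
  exact perfect_of_simple _ tq sq tq_mem sq_mem1.1 n_tqsq

theorem tq_pt0 : tq (pt 0) = pt 1 := by
  rw [apply_pt_of_tableOf tq (by norm_num), tableOf_tq]; rfl

theorem tq_pt1 : tq (pt 1) = pt 0 := by
  rw [apply_pt_of_tableOf tq (by norm_num), tableOf_tq]; rfl

theorem sq_pt1 : sq (pt 1) = pt 2 := by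
  rw [apply_pt_of_tableOf sq (by norm_num), tableOf_sq]; rfl

theorem dc0 : ∀ g ∈ fixG M24 [], g ∈ fixG M24 [0] ∨
    ∃ a ∈ fixG M24 [0], ∃ c ∈ fixG M24 [0], g = a * tq * c := by
  have hd := drop_eq 0 (by rw [m24Levels_length]; norm_num) (by rw [m24Levels_length]; norm_num)
  have hB := hBd 0
  have hok := hokd 0
  rw [base0, hd] at hB hok
  exact doubleCoset_of_levels (H := M24) (F := [])
    (fun l hl => tabled_m24Levels _ (List.getElem_mem _) l hl) hok hB (by decide +kernel) tq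
    tq_mem0 tq_pt0

theorem dc1 : ∀ g ∈ fixG M24 [0], g ∈ fixG M24 [1, 0] ∨
    ∃ a ∈ fixG M24 [1, 0], ∃ c ∈ fixG M24 [1, 0], g = a * sq * c := by
  have hd := drop_eq 1 (by rw [m24Levels_length]; norm_num) (by rw [m24Levels_length]; norm_num)
  have hB := hBd 1
  have hok := hokd 1
  rw [base1, hd] at hB hok
  exact doubleCoset_of_levels (H := M24) (F := [0])
    (fun l hl => tabled_m24Levels _ (List.getElem_mem _) l hl) hok hB (by decide +kernel) sq
    sq_mem1 sq_pt1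

theorem tq_not_mem1 : tq ∉ fixG M24 [0] := by
  intro h
  have h1 := h.2 0 (by simp)
  rw [tq_pt0] at h1
  have := pt_injOn (by norm_num) (by norm_num) h1
  omega

theorem tq_normalizes : ∀ k ∈ fixG M24 [1, 0], tq * k * tq⁻¹ ∈ fixG M24 [1, 0] :=
  conj_mem_fixG tq tq_mem0 tq_pt0 tq_pt1

/-! ### the Sylow 3-subgroup -/

def Q27 : Subgroup (Equiv.Perm GolayPt) := tabSubP Q27tabs Q27_closed

theorem Q27_le_closure :
    ∀ w ∈ Q27, w ∈ Subgroup.closure ({xx, yy} : Set (Equiv.Perm GolayPt)) := by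
  intro w hw
  have h := List.all_eq_true.mp Q27_gen _ (mem_tabSubP.mp hw)
  simp only [List.any_eq_true, List.mem_range, beq_iff_eq] at h
  obtain ⟨i, _, j, _, k, _, e⟩ := h
  have : w = xx ^ i * yy ^ j * ⁅xx, yy⁆ ^ k := by
    apply eq_of_tableOf
    rw [tableOf_mul, tableOf_mul, tableOf_pow, tableOf_pow, tableOf_pow, tableOf_comm, tableOf_xx,
      tableOf_yy]
    exact e.symm
  rw [this]
  have hx : xx ∈ Subgroup.closure ({xx, yy} : Set (Equiv.Perm GolayPt)) :=
    Subgroup.subset_closure (by simp)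
  have hy : yy ∈ Subgroup.closure ({xx, yy} : Set (Equiv.Perm GolayPt)) :=
    Subgroup.subset_closure (by simp)
  have hz : ⁅xx, yy⁆ ∈ Subgroup.closure ({xx, yy} : Set (Equiv.Perm GolayPt)) := by
    rw [commutatorElement_def]
    exact mul_mem (mul_mem (mul_mem hx hy) (inv_mem hx)) (inv_mem hy)
  exact mul_mem (mul_mem (pow_mem hx i) (pow_mem hy j)) (pow_mem hz k)

theorem Q27_le_M24 : Q27 ≤ M24 := tabSubP_le Q27_closed (M23Mult.tabled_of_map Q27idx_eq)

theorem card_Q27 : Nat.card Q27 = 27 := by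
  rw [Q27, card_tabSubP Q27_closed Q27_nodup (M23Mult.tabled_of_map Q27idx_eq), Q27_length]

/-! ### the main argument -/

/-- Finite version of `eq_one_of_mem_dl`. -/
theorem eq_one_of_mem_dl_finite {Γ : Type u} [Group Γ] [Finite Γ] {P : Type*} [Group P]
    (σ : Γ →* P) (hc : σ.ker ≤ Subgroup.center Γ) {H : Subgroup P} (hH : H ≤ σ.range)
    (pH : ⁅H, H⁆ = H)
    (hstem : ∀ (Γ' : Type u) [Group Γ'] [Finite Γ'] (τ : Γ' →* ↥H),
      Cfsg.IsStemExtension τ → τ.ker = ⊥)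
    {b : Γ} (hb : b ∈ σ.ker) (hbH : b ∈ dl σ H) : b = 1 := by
  have h := hstem ↥(dl σ H) (restrictDl σ H) (isStemExtension_restrictDl σ hc hH pH)
  have hb' : (⟨b, hbH⟩ : ↥(dl σ H)) ∈ (restrictDl σ H).ker := by
    rw [MonoidHom.mem_ker]
    apply Subtype.ext
    rw [restrictDl_apply]
    exact MonoidHom.mem_ker.mp hb
  rw [h, Subgroup.mem_bot] at hb'
  exact congrArg Subtype.val hb'

section

variable {Γ : Type u} [Group Γ] [Finite Γ] (σ : Γ →* Equiv.Perm GolayPt)
  (hc : σ.ker ≤ Subgroup.center Γ) (hr : σ.range = M24) (hst : σ.ker ≤ commutator Γ)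

omit [Finite Γ] in
include hc hr in
theorem V1_abelian' : ∀ p ∈ V1.comap σ, ∀ q ∈ V1.comap σ, p * q = q * p := by
  have mr : ∀ g ∈ fixG M24 [0], g ∈ σ.range := fun g hg => hr ▸ hg.1
  exact abelian_eightFix σ hc (mr _ g7_mem) (mr _ v0_mem) (mr _ t1_mem) (mr _ t2_mem)
    (mr _ t3_mem) c_t1t2 c_t2t3 c_t3t1 c_v0t1 c_v0t2 c_v0t3 a_g7t1 a_g7t2 a_g7t3 a_g7v0 V1
    V1_le_closure

include hc hr hst in
theorem ker_eq_bot_aux : σ.ker = ⊥ := by
  have mr : ∀ g ∈ M24, g ∈ σ.range := fun g hg => hr ▸ hg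
  have mr1 : ∀ g ∈ fixG M24 [0], g ∈ σ.range := fun g hg => hr ▸ hg.1
  have h0 : fixG M24 [] = σ.range := by rw [fixG_nil, hr]
  have hp : ⁅σ.range, σ.range⁆ = σ.range := by rw [← h0]; exact perfect_M24
  have h0r : fixG M24 [] ≤ σ.range := h0.le
  have h1r : fixG M24 [0] ≤ σ.range := le_10.trans h0r
  obtain ⟨t', ht'G, hσt', hT⟩ := tower σ hc (fixG M24 []) (fixG M24 [0]) (fixG M24 [1, 0]) h0r
    le_10 le_21 perfect_M24 perfect_M23 perfect_M22 tq sq h1q h2q tq_mem0 s_tq tq_not_mem1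
    tq_normalizes sq_mem1 h1q_mem1 h2q_mem1 r_towerq dc0 dc1
  -- the kernel meets `dl σ M23` trivially
  have hM23 : ∀ b ∈ σ.ker, b ∈ dl σ (fixG M24 [0]) → b = 1 := fun b hb hbH =>
    eq_one_of_mem_dl_finite σ hc h1r perfect_M23
      (fun Γ' _ _ τ hτ => M23Mult.ker_eq_bot τ hτ) hb hbH
  -- every kernel element is a power of `c = t' * t'`
  have hker_dl : ∀ z ∈ σ.ker, z ∈ dl σ (fixG M24 []) := fun z hz => by
    rw [h0, dl_range]; exact hst hz
  obtain ⟨c, hcdef⟩ : ∃ c, c = t' * t' := ⟨_, rfl⟩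
  rw [← hcdef] at hT
  have hcyc : ∀ z ∈ σ.ker, ∃ i : ℤ, z = c ^ i := by
    intro z hz
    obtain ⟨b, hb, hbH, i, e⟩ := hT z hz (hker_dl z hz)
    rw [hM23 b hb hbH, one_mul] at e
    exact ⟨i, e⟩
  -- `c` is the square of a kernel element
  obtain ⟨e, he, hsq⟩ : ∃ e ∈ σ.ker, t' * t' = e * e := by
    apply sq_lift_down σ hc V1 (V1_abelian' σ hc hr) (w := t1) (g := g7) (h := g7 ^ 5) (u := u24)
      (mr1 _ t1_mem) (mr1 _ g7_mem) (mr1 _ (pow_mem g7_mem 5)) (mr _ u24_mem)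
      (mem_V1_of (by rw [tableOf_t1]; decide +kernel)) conj_mem_V1 s_t1 q_h t'
    rw [hσt', q_uq]
  rw [← hcdef] at hsq
  obtain ⟨j, hj⟩ := hcyc e he
  have hc1 : c ^ (j + j - 1) = 1 := by
    rw [zpow_sub, zpow_add, zpow_one, ← hj, ← hsq, mul_inv_cancel]
  have hodd : ∀ z ∈ σ.ker, z ^ (j + j - 1) = 1 := by
    intro z hz
    obtain ⟨i, rfl⟩ := hcyc z hz
    rw [← zpow_mul, mul_comm, zpow_mul, hc1, one_zpow]
  -- transfer to `M23`
  have h24 : ∀ z ∈ σ.ker, z ^ 24 = 1 := by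
    intro z hz
    have h := pow_relIndex_mem_dl σ hc (fixG M24 [0]) le_rfl hp hz
      (by rw [dl_range]; exact hst hz)
    have hidx : (fixG M24 [0]).relIndex σ.range = 24 := by
      rw [hr]
      exact relIndex_eq_of_card _ _ (fixG_le M24 [0]) card_fixG_m24_1 card_M24 (by norm_num)
        (by norm_num)
    rw [hidx] at h
    exact hM23 _ (pow_mem hz 24) h
  -- transfer to the Sylow 3-subgroup
  have h3 : ∀ z ∈ σ.ker, z ^ 9067520 = 1 := by
    intro z hz
    have h := pow_relIndex_mem_dl σ hc Q27 le_rfl hp hz (by rw [dl_range]; exact hst hz)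
    have hidx : Q27.relIndex σ.range = 9067520 := by
      rw [hr]
      exact relIndex_eq_of_card _ _ Q27_le_M24 card_Q27 card_M24 (by norm_num) (by norm_num)
    rw [hidx] at h
    exact extraspecial_down σ hc Q27 (mr _ gi_mem) (mr _ xx_mem) (mr _ yy_mem) Q27_le_closure
      k_zx k_zy p_xx p_yy n_zz a_gixx a_giyy a_gizz _ h (MonoidHom.mem_ker.mp (pow_mem hz _))
  rw [eq_bot_iff]
  intro z hz
  rw [Subgroup.mem_bot, ← orderOf_eq_one_iff]
  have d1 : orderOf z ∣ 24 := orderOf_dvd_of_pow_eq_one (h24 z hz)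
  have d2 : orderOf z ∣ 9067520 := orderOf_dvd_of_pow_eq_one (h3 z hz)
  have d3 : (orderOf z : ℤ) ∣ j + j - 1 := orderOf_dvd_iff_zpow_eq_one.mpr (hodd z hz)
  have d4 : orderOf z ∣ 8 := by
    have := Nat.dvd_gcd d1 d2
    norm_num at this
    exact this
  have h2 : ¬ (2 ∣ orderOf z) := by
    intro h
    have : (2 : ℤ) ∣ j + j - 1 := dvd_trans (Int.natCast_dvd_natCast.mpr h) d3
    omega
  have hmem : orderOf z ∈ Nat.divisors 8 := Nat.mem_divisors.mpr ⟨d4, by norm_num⟩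
  have hdiv : Nat.divisors 8 = {1, 2, 4, 8} := by decide
  rw [hdiv] at hmem
  simp only [Finset.mem_insert, Finset.mem_singleton] at hmem
  rcases hmem with h | h | h | h
  · exact h
  · rw [h] at h2; exact absurd (by norm_num) h2
  · rw [h] at h2; exact absurd (by norm_num) h2
  · rw [h] at h2; exact absurd (by norm_num) h2

end

/-- Every finite stem extension of `M24` is an isomorphism. -/
theorem ker_eq_bot {Γ : Type u} [Group Γ] [Finite Γ] (τ : Γ →* ↥M24)
    (hτ : Cfsg.IsStemExtension τ) : τ.ker = ⊥ := by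
  have hker : ((M24 : Subgroup (Equiv.Perm GolayPt)).subtype.comp τ).ker = τ.ker := by
    ext x
    rw [MonoidHom.mem_ker, MonoidHom.mem_ker, MonoidHom.comp_apply]
    constructor
    · intro h
      exact Subtype.ext h
    · intro h
      rw [h]; rfl
  have hr : ((M24 : Subgroup (Equiv.Perm GolayPt)).subtype.comp τ).range = M24 := by
    ext x
    constructor
    · rintro ⟨γ, rfl⟩
      exact (τ γ).2
    · intro hx
      obtain ⟨γ, hγ⟩ := hτ.1 ⟨x, hx⟩
      exact ⟨γ, by rw [MonoidHom.comp_apply, hγ]; rfl⟩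
  rw [← hker]
  apply ker_eq_bot_aux _ _ hr
  · rw [hker]; exact hτ.2.2
  · rw [hker]; exact hτ.2.1

end Cfsg.Agent.Helper72.M24Mult
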