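import Cfsg.Agent.Helper72.TabSub
import Cfsg.Agent.Helper7.M24Stab
import Cfsg.Agent.Helper7.QStab

/-!
# Table-level helpers for subgroups of the permutations of the 24 points

* `ofTab`: a permutation with a given table.
* `tabSubP`: the subgroup of all permutations whose table lies in a closed list.
* `perfect_of_cert`: a chain group is perfect when all transversal elements are commutators.
* `perfect_of_simple`: nonabelian simple subgroups are perfect.
* `doubleCoset_of_levels`: `G₀ = H ∪ H t H` for a chain group acting 2-transitively.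
* `relIndex_eq_of_card`.
-/

set_option autoImplicit false

namespace Cfsg.Agent.Helper72.M24Tab

open Cfsg Cfsg.Agent.Helper7 Cfsg.Agent.Helper72.TabSub
open scoped commutatorElement

/-! ### permutations from tables -/

/-- A permutation in `H` with table `l`. -/
noncomputable def ofTab {H : Subgroup (Equiv.Perm GolayPt)} (l : List ℕ) (h : Tabled H l) :
    Equiv.Perm GolayPt := h.choose

theorem ofTab_mem {H : Subgroup (Equiv.Perm GolayPt)} (l : List ℕ) (h : Tabled H l) :
    ofTab l h ∈ H := h.choose_spec.1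

@[simp] theorem tableOf_ofTab {H : Subgroup (Equiv.Perm GolayPt)} (l : List ℕ) (h : Tabled H l) :
    tableOf (ofTab l h) = l := (h.choose_spec.2.eq_tableOf).symm

theorem tableOf_pow (g : Equiv.Perm GolayPt) (n : ℕ) : tableOf (g ^ n) = powT (tableOf g) n :=
  (((isTable_tableOf g).pow n).eq_tableOf).symm

/-- Table of a commutator. -/
def commT (a b : List ℕ) : List ℕ := compT (compT (compT a b) (invT a)) (invT b)

theorem tableOf_comm (g h : Equiv.Perm GolayPt) : tableOf ⁅g, h⁆ = commT (tableOf g) (tableOf h) := by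
  rw [commutatorElement_def, tableOf_mul, tableOf_mul, tableOf_mul, tableOf_inv, tableOf_inv]
  rfl

theorem apply_pt_of_tableOf (g : Equiv.Perm GolayPt) {i : ℕ} (hi : i < 24) :
    g (pt i) = pt ((tableOf g).getD i 0) := by
  rw [(isTable_tableOf g).apply, idx_pt hi]

theorem mem_fixG_of_table {H : Subgroup (Equiv.Perm GolayPt)} {g : Equiv.Perm GolayPt} (hg : g ∈ H)
    (F : List ℕ) (hF : F.all (fun i => Nat.beq ((tableOf g).getD i 0) i && Nat.blt i 24) = true) :
    g ∈ fixG H F := by
  refine ⟨hg, fun i hi => ?_⟩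
  rw [List.all_eq_true] at hF
  have h := hF i hi
  rw [Bool.and_eq_true] at h
  have h1 := Nat.eq_of_beq_eq_true h.1
  have h2 : i < 24 := by simpa [Nat.blt_eq] using h.2
  rw [apply_pt_of_tableOf g h2, h1]

/-! ### subgroups given by closed lists of tables -/

/-- The subgroup of all permutations whose table lies in the closed list. -/
def tabSubP (tabs : List (List ℕ)) (h : closedB tabs = true) : Subgroup (Equiv.Perm GolayPt) where
  carrier := {g | tableOf g ∈ tabs}
  one_mem' := by
    show tableOf (1 : Equiv.Perm GolayPt) ∈ tabs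
    rw [tableOf_one]
    exact closedB_one h
  mul_mem' := by
    intro a b ha hb
    show tableOf (a * b) ∈ tabs
    rw [tableOf_mul]
    exact closedB_mul h ha hb
  inv_mem' := by
    intro a ha
    show tableOf a⁻¹ ∈ tabs
    rw [tableOf_inv]
    exact closedB_inv h ha

theorem mem_tabSubP {tabs : List (List ℕ)} {h : closedB tabs = true} {g : Equiv.Perm GolayPt} :
    g ∈ tabSubP tabs h ↔ tableOf g ∈ tabs := Iff.rfl

theorem tabSubP_le {tabs : List (List ℕ)} (h : closedB tabs = true)
    {H : Subgroup (Equiv.Perm GolayPt)} (hT : ∀ l ∈ tabs, Tabled H l) : tabSubP tabs h ≤ H := by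
  intro g hg
  obtain ⟨g', hg', hl⟩ := hT _ (mem_tabSubP.mp hg)
  have : g' = g := hl.inj (isTable_tableOf g)
  rw [← this]; exact hg'

theorem card_tabSubP {tabs : List (List ℕ)} (h : closedB tabs = true) (hnd : tabs.Nodup)
    {H : Subgroup (Equiv.Perm GolayPt)} (hT : ∀ l ∈ tabs, Tabled H l) :
    Nat.card (tabSubP tabs h) = tabs.length := by
  rw [← card_subtype_mem_list' tabs hnd]
  apply Nat.card_congr
  refine Equiv.ofBijective (fun g => ⟨tableOf g.1, g.2⟩) ⟨?_, ?_⟩
  · intro g g' e
    have e' : tableOf g.1 = tableOf g'.1 := congrArg Subtype.val e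
    exact Subtype.ext (tableOf_injective e')
  · rintro ⟨l, hl⟩
    obtain ⟨g, _, hlt⟩ := hT l hl
    have e : tableOf g = l := hlt.eq_tableOf.symm
    exact ⟨⟨g, by show tableOf g ∈ tabs; rw [e]; exact hl⟩, Subtype.ext e⟩

/-! ### perfectness -/

theorem tabled_fixG_of_chainOK {H : Subgroup (Equiv.Perm GolayPt)} {F : List ℕ} {Ls : List Level}
    (hF24 : ∀ i ∈ F, i < 24) (hT : ∀ L ∈ Ls, ∀ l ∈ L.T, Tabled H l) (hok : chainOK F Ls = true) :
    ∀ L ∈ Ls, ∀ l ∈ L.T, Tabled (fixG H F) l := by
  induction Ls generalizing F with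
  | nil => intro L hL; simp at hL
  | cons L₀ Ls ih =>
    rw [chainOK, Bool.and_eq_true, Bool.and_eq_true, Bool.and_eq_true] at hok
    obtain ⟨⟨⟨h1, _⟩, h3⟩, h4⟩ := hok
    have hb : L₀.b < 24 := by simpa [Nat.blt_eq] using h3
    intro L hL l hl
    rw [List.mem_cons] at hL
    rcases hL with rfl | hL
    · rw [Level.ok, Bool.and_eq_true, List.all_eq_true] at h1
      exact (hT L (List.mem_cons_self ..) l hl).fixG (h1.1 l hl) hF24
    · have hF24' : ∀ i ∈ L₀.b :: F, i < 24 := by
        intro i hi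
        rw [List.mem_cons] at hi
        rcases hi with rfl | hi
        · exact hb
        · exact hF24 i hi
      have := ih hF24' (fun L' hL' => hT L' (List.mem_cons_of_mem _ hL')) h4 L hL l hl
      refine this.mono ?_
      intro g hg
      exact ⟨hg.1, fun i hi => hg.2 i (List.mem_cons_of_mem _ hi)⟩

/-- A chain group all of whose transversal elements are commutators is perfect. -/
theorem perfect_of_cert {H : Subgroup (Equiv.Perm GolayPt)} {F : List ℕ} {Ls : List Level}
    (hF24 : ∀ i ∈ F, i < 24) (hT : ∀ L ∈ Ls, ∀ l ∈ L.T, Tabled H l) (hok : chainOK F Ls = true)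
    (hB : Bounds H F Ls) (cert : List (List ℕ × List ℕ))
    (hcert : Ls.all (fun L => L.T.all (fun l =>
      cert.any (fun c => commT (prodAt Ls c.1) (prodAt Ls c.2) == l))) = true) :
    ⁅fixG H F, fixG H F⁆ = fixG H F := by
  apply le_antisymm
  · rw [Subgroup.commutator_le]
    intro p hp q hq
    rw [commutatorElement_def]
    exact mul_mem (mul_mem (mul_mem hp hq) (inv_mem hp)) (inv_mem hq)
  · have hTF := tabled_fixG_of_chainOK hF24 hT hok
    apply chain_le hT hok hB
    intro L hL l hl
    rw [List.all_eq_true] at hcert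
    have h1 := hcert L hL
    rw [List.all_eq_true] at h1
    have h2 := h1 l hl
    rw [List.any_eq_true] at h2
    obtain ⟨c, _, hc⟩ := h2
    have hc' : commT (prodAt Ls c.1) (prodAt Ls c.2) = l := by simpa using hc
    obtain ⟨a, ha, hat⟩ := tabled_prodAt Ls hTF c.1
    obtain ⟨b, hb, hbt⟩ := tabled_prodAt Ls hTF c.2
    refine ⟨⁅a, b⁆, Subgroup.commutator_mem_commutator ha hb, ?_⟩
    have e : tableOf ⁅a, b⁆ = l := by
      rw [tableOf_comm, ← hat.eq_tableOf, ← hbt.eq_tableOf, hc']
    rw [← e]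
    exact isTable_tableOf _

/-- A simple subgroup with two non-commuting elements is perfect. -/
theorem perfect_of_simple (X : Subgroup (Equiv.Perm GolayPt)) [IsSimpleGroup X]
    (a b : Equiv.Perm GolayPt) (ha : a ∈ X) (hb : b ∈ X) (hab : a * b ≠ b * a) : ⁅X, X⁆ = X := by
  have hn : (commutator X).Normal := inferInstance
  rcases hn.eq_bot_or_eq_top with h | h
  · exfalso
    have h1 : ⁅(⟨a, ha⟩ : X), (⟨b, hb⟩ : X)⁆ ∈ commutator X :=
      Subgroup.commutator_mem_commutator (Subgroup.mem_top _) (Subgroup.mem_top _)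
    rw [h, Subgroup.mem_bot, commutatorElement_eq_one_iff_mul_comm] at h1
    exact hab (congrArg Subtype.val h1)
  · rw [← Subgroup.map_subtype_commutator, h, ← MonoidHom.range_eq_map, Subgroup.range_subtype]

/-! ### double cosets -/

/-- `G₀ = H ∪ H t H` when the point stabiliser `H` is transitive on the remaining points of the
orbit. -/
theorem doubleCoset_of_levels {H : Subgroup (Equiv.Perm GolayPt)} {F : List ℕ} {L L' : Level}
    {Ls : List Level} (hT : ∀ l ∈ L'.T, Tabled H l)
    (hok : chainOK F (L :: L' :: Ls) = true) (hB : Bounds H F (L :: L' :: Ls))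
    (horb : L.orb.all (fun q => Nat.beq q L.b || L'.orb.contains q) = true)
    (t : Equiv.Perm GolayPt) (ht : t ∈ fixG H F) (htb : t (pt L.b) = pt L'.b) :
    ∀ g ∈ fixG H F, g ∈ fixG H (L.b :: F) ∨
      ∃ a ∈ fixG H (L.b :: F), ∃ c ∈ fixG H (L.b :: F), g = a * t * c := by
  rw [chainOK, Bool.and_eq_true, Bool.and_eq_true, Bool.and_eq_true] at hok
  obtain ⟨⟨⟨_, _⟩, _⟩, h4⟩ := hok
  rw [chainOK, Bool.and_eq_true, Bool.and_eq_true, Bool.and_eq_true] at h4
  obtain ⟨⟨⟨k1, _⟩, k3⟩, _⟩ := h4
  have hb' : L'.b < 24 := by simpa [Nat.blt_eq] using k3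
  intro g hg
  have hq := hB.1 g hg
  rw [List.all_eq_true] at horb
  have h1 := horb _ hq
  rw [Bool.or_eq_true] at h1
  have mem_of_fix : ∀ c : Equiv.Perm GolayPt, c ∈ fixG H F → c (pt L.b) = pt L.b →
      c ∈ fixG H (L.b :: F) := by
    intro c hc hcb
    refine ⟨hc.1, fun i hi => ?_⟩
    rw [List.mem_cons] at hi
    rcases hi with rfl | hi
    · exact hcb
    · exact hc.2 i hi
  rcases h1 with h1 | h1
  · left
    have e := Nat.eq_of_beq_eq_true h1
    apply mem_of_fix g hg
    have h2 := pt_idx (g (pt L.b))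
    rw [e] at h2
    exact h2.symm
  · right
    have hq' : idx (g (pt L.b)) ∈ L'.orb := by simpa using h1
    obtain ⟨l, _, a, ha, _, haq⟩ := Level.cover hT k1 hb' _ hq'
    rw [pt_idx] at haq
    have haF : a ∈ fixG H F := ⟨ha.1, fun i hi => ha.2 i (List.mem_cons_of_mem _ hi)⟩
    refine ⟨a, ha, (a * t)⁻¹ * g, ?_, by group⟩
    apply mem_of_fix _ (mul_mem (inv_mem (mul_mem haF ht)) hg)
    rw [Equiv.Perm.mul_apply, Equiv.Perm.inv_eq_iff_eq, Equiv.Perm.mul_apply, htb, haq]

/-! ### relative index -/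

theorem relIndex_eq_of_card {G : Type*} [Group G] (U X : Subgroup G) (hUX : U ≤ X) {m n k : ℕ}
    (hU : Nat.card U = m) (hX : Nat.card X = n) (hmk : m * k = n) (hm : 0 < m) :
    U.relIndex X = k := by
  have h1 := Subgroup.card_mul_index (U.subgroupOf X)
  rw [Nat.card_congr (Subgroup.subgroupOfEquivOfLe hUX).toEquiv, hU, hX, ← hmk] at h1
  exact Nat.eq_of_mul_eq_mul_left hm h1

/-! ### more helpers -/

theorem eq_of_tableOf {a b : Equiv.Perm GolayPt} (h : tableOf a = tableOf b) : a = b :=
  tableOf_injective h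

theorem ne_of_tableOf {a b : Equiv.Perm GolayPt} (h : tableOf a ≠ tableOf b) : a ≠ b :=
  fun e => h (congrArg tableOf e)

theorem ofTab_mem_fixG {H : Subgroup (Equiv.Perm GolayPt)} (l : List ℕ) (h : Tabled H l)
    (F : List ℕ) (hF : F.all (fun i => Nat.beq (l.getD i 0) i && Nat.blt i 24) = true) :
    ofTab l h ∈ fixG H F := by
  apply mem_fixG_of_table (ofTab_mem l h) F
  rw [tableOf_ofTab]
  exact hF

theorem fixG_anti {H : Subgroup (Equiv.Perm GolayPt)} {F F' : List ℕ} (h : ∀ i ∈ F, i ∈ F') :
    fixG H F' ≤ fixG H F :=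
  fun _ hg => ⟨hg.1, fun i hi => hg.2 i (h i hi)⟩

/-- An element swapping the two new base points normalizes the two-point stabiliser. -/
theorem conj_mem_fixG {H : Subgroup (Equiv.Perm GolayPt)} {F : List ℕ} {b b' : ℕ}
    (t : Equiv.Perm GolayPt) (ht : t ∈ fixG H F) (h1 : t (pt b) = pt b') (h2 : t (pt b') = pt b) :
    ∀ k ∈ fixG H (b' :: b :: F), t * k * t⁻¹ ∈ fixG H (b' :: b :: F) := by
  intro k hk
  refine ⟨mul_mem (mul_mem ht.1 hk.1) (inv_mem ht.1), fun i hi => ?_⟩
  have i1 : t⁻¹ (pt b') = pt b := by rw [Equiv.Perm.inv_eq_iff_eq, h1]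
  have i2 : t⁻¹ (pt b) = pt b' := by rw [Equiv.Perm.inv_eq_iff_eq, h2]
  rw [Equiv.Perm.mul_apply, Equiv.Perm.mul_apply]
  rw [List.mem_cons, List.mem_cons] at hi
  rcases hi with rfl | rfl | hi
  · rw [i1, hk.2 b (by simp), h1]
  · rw [i2, hk.2 b' (by simp), h2]
  · have i3 : t⁻¹ (pt i) = pt i := by rw [Equiv.Perm.inv_eq_iff_eq, ht.2 i hi]
    rw [i3, hk.2 i (by simp [hi]), ht.2 i hi]

/-- Elements whose table is a product of powers of four given tables lie in the closure. -/
theorem mem_closure_four (a b c d : Equiv.Perm GolayPt) (n : ℕ) (tabs : List (List ℕ))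
    (hchk : tabs.all (fun l => (List.range n).any fun i => (List.range n).any fun j =>
      (List.range n).any fun k => (List.range n).any fun m =>
        compT (compT (compT (powT (tableOf a) i) (powT (tableOf b) j)) (powT (tableOf c) k))
          (powT (tableOf d) m) == l) = true) :
    ∀ x : Equiv.Perm GolayPt, tableOf x ∈ tabs →
      x ∈ Subgroup.closure ({a, b, c, d} : Set (Equiv.Perm GolayPt)) := by
  intro x hx
  rw [List.all_eq_true] at hchk
  have h := hchk _ hx
  simp only [List.any_eq_true, List.mem_range, beq_iff_eq] at h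
  obtain ⟨i, _, j, _, k, _, m, _, e⟩ := h
  have : x = a ^ i * b ^ j * c ^ k * d ^ m := by
    apply eq_of_tableOf
    rw [tableOf_mul, tableOf_mul, tableOf_mul, tableOf_pow, tableOf_pow, tableOf_pow, tableOf_pow]
    exact e.symm
  rw [this]
  have ha : a ∈ Subgroup.closure ({a, b, c, d} : Set (Equiv.Perm GolayPt)) :=
    Subgroup.subset_closure (by simp)
  have hb : b ∈ Subgroup.closure ({a, b, c, d} : Set (Equiv.Perm GolayPt)) :=
    Subgroup.subset_closure (by simp)
  have hc : c ∈ Subgroup.closure ({a, b, c, d} : Set (Equiv.Perm GolayPt)) :=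
    Subgroup.subset_closure (by simp)
  have hd : d ∈ Subgroup.closure ({a, b, c, d} : Set (Equiv.Perm GolayPt)) :=
    Subgroup.subset_closure (by simp)
  exact mul_mem (mul_mem (mul_mem (pow_mem ha i) (pow_mem hb j)) (pow_mem hc k)) (pow_mem hd m)

/-- Elements whose table is a product of powers of two given tables lie in the closure. -/
theorem mem_closure_two (a b : Equiv.Perm GolayPt) (n : ℕ) (tabs : List (List ℕ))
    (hchk : tabs.all (fun l => (List.range n).any fun i => (List.range n).any fun j =>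
        compT (powT (tableOf a) i) (powT (tableOf b) j) == l) = true) :
    ∀ x : Equiv.Perm GolayPt, tableOf x ∈ tabs →
      x ∈ Subgroup.closure ({a, b} : Set (Equiv.Perm GolayPt)) := by
  intro x hx
  rw [List.all_eq_true] at hchk
  have h := hchk _ hx
  simp only [List.any_eq_true, List.mem_range, beq_iff_eq] at h
  obtain ⟨i, _, j, _, e⟩ := h
  have : x = a ^ i * b ^ j := by
    apply eq_of_tableOf
    rw [tableOf_mul, tableOf_pow, tableOf_pow]
    exact e.symm
  rw [this]
  have ha : a ∈ Subgroup.closure ({a, b} : Set (Equiv.Perm GolayPt)) :=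
    Subgroup.subset_closure (by simp)
  have hb : b ∈ Subgroup.closure ({a, b} : Set (Equiv.Perm GolayPt)) :=
    Subgroup.subset_closure (by simp)
  exact mul_mem (pow_mem ha i) (pow_mem hb j)

/-- Relative index of a cyclic subgroup of prime order. -/
theorem relIndex_zpowers {G : Type*} [Group G] (X : Subgroup G) (g : G) (hg : g ∈ X) (p : ℕ)
    (hp : p.Prime) (hgp : g ^ p = 1) (hg1 : g ≠ 1) {n k : ℕ} (hX : Nat.card X = n)
    (hpk : p * k = n) : (Subgroup.zpowers g).relIndex X = k := by
  have : Fact p.Prime := ⟨hp⟩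
  have ho : orderOf g = p := orderOf_eq_prime hgp hg1
  apply relIndex_eq_of_card (Subgroup.zpowers g) X (by rw [Subgroup.zpowers_le]; exact hg)
    (by rw [Nat.card_zpowers, ho]) hX hpk hp.pos

end Cfsg.Agent.Helper72.M24Tab
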