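import Mathlib

/-!
# S2140 (helper1), piece (P1): Burnside with a constant number of fixed points on `U ∖ 1`.
-/

set_option autoImplicit false
set_option linter.unusedSectionVars false

namespace Cfsg.Agent.Helper72.MinDeg

/-- (P1) Burnside with constant fixed-point number on `U ∖ 1`. -/
theorem card_add_mul_fixed {G Ω : Type*} [Group G] [Fintype Ω] [MulAction G Ω] (U : Subgroup G)
    [Finite U] (f : ℕ)
    (hf : ∀ u ∈ U, u ≠ 1 → Nat.card (MulAction.fixedBy Ω u) = f) :
    Fintype.card Ω + (Nat.card U - 1) * f =
      Nat.card (MulAction.orbitRel.Quotient U Ω) * Nat.card U := by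
  classical
  have : Fintype U := Fintype.ofFinite U
  have hB := MulAction.sum_card_fixedBy_eq_card_orbits_mul_card_group U Ω
  rw [Nat.card_eq_fintype_card, Nat.card_eq_fintype_card, ← hB,
    ← Finset.add_sum_erase Finset.univ _ (Finset.mem_univ (1 : U))]
  congr 1
  · apply Fintype.card_congr
    refine (Equiv.subtypeUnivEquiv ?_).symm
    intro ω
    simp
  · have hconst : ∀ u ∈ (Finset.univ : Finset U).erase 1,
        Fintype.card (MulAction.fixedBy Ω u) = f := by
      intro u hu
      have hu1 : u ≠ 1 := (Finset.mem_erase.mp hu).1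
      have hu1' : (u : G) ≠ 1 := fun hh => hu1 (Subtype.ext hh)
      rw [← hf (u : G) u.2 hu1', Nat.card_eq_fintype_card]
      apply Fintype.card_congr
      refine Equiv.subtypeEquivRight ?_
      intro ω
      simp [MulAction.mem_fixedBy, Subgroup.smul_def]
    rw [Finset.sum_const_nat hconst, Finset.card_erase_of_mem (Finset.mem_univ _),
      Finset.card_univ]

end Cfsg.Agent.Helper72.MinDeg
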