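import Mathlib

/-!
# Piece (V4) of S4017 (helper15's plan, board #5926/#5958): a four-group acting on an abelian group
with all three involutions fixed-point-free forces the group to be trivial
-/

set_option autoImplicit false

namespace Cfsg.Agent.Helper72.Mix

/-- If `s` normalizes the abelian subgroup `A`, `s * s = 1` and `1` is the only element of `A`
commuting with `s`, then `s` inverts `A`. -/
theorem inverts_of_fpf {G : Type*} [Group G] (A : Subgroup G)
    (hcomm : ∀ v ∈ A, ∀ w ∈ A, v * w = w * v) (s : G) (hs2 : s * s = 1)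
    (hsA : ∀ w ∈ A, s * w * s⁻¹ ∈ A) (h1 : ∀ w ∈ A, s * w = w * s → w = 1) :
    ∀ w ∈ A, s * w * s⁻¹ = w⁻¹ := by
  intro w hw
  have hsinv : s⁻¹ = s := inv_eq_of_mul_eq_one_left hs2
  have hw' : s * w * s⁻¹ ∈ A := hsA w hw
  have hprod : w * (s * w * s⁻¹) ∈ A := A.mul_mem hw hw'
  have hc : s * (w * (s * w * s⁻¹)) = (w * (s * w * s⁻¹)) * s := by
    have e1 : s * (w * (s * w * s⁻¹)) = (s * w * s⁻¹) * w * s := by
      rw [hsinv]
      calc s * (w * (s * w * s)) = s * w * s * w * s := by group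
        _ = s * w * s * w * s := rfl
    rw [e1, hcomm _ hw' _ hw]
  have := h1 _ hprod hc
  exact (eq_inv_of_mul_eq_one_right this)

/-- (V4) -/
theorem v4_trivial {G : Type*} [Group G] (A : Subgroup G) [Finite A] (hodd : Odd (Nat.card A))
    (hcomm : ∀ v ∈ A, ∀ w ∈ A, v * w = w * v) (s u : G) (hs2 : s * s = 1) (hu2 : u * u = 1)
    (hsA : ∀ w ∈ A, s * w * s⁻¹ ∈ A) (huA : ∀ w ∈ A, u * w * u⁻¹ ∈ A)
    (h1 : ∀ w ∈ A, s * w = w * s → w = 1) (h2 : ∀ w ∈ A, u * w = w * u → w = 1)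
    (h3 : ∀ w ∈ A, (s * u) * w = w * (s * u) → w = 1) : A = ⊥ := by
  have hs := inverts_of_fpf A hcomm s hs2 hsA h1
  have hu := inverts_of_fpf A hcomm u hu2 huA h2
  rw [Subgroup.eq_bot_iff_forall]
  intro w hw
  apply h3 w hw
  have e1 : u * w * u⁻¹ = w⁻¹ := hu w hw
  have e2 : s * w⁻¹ * s⁻¹ = w := by
    have := hs w⁻¹ (A.inv_mem hw)
    rw [this, inv_inv]
  have e3 : (s * u) * w * (s * u)⁻¹ = w := by
    calc (s * u) * w * (s * u)⁻¹ = s * (u * w * u⁻¹) * s⁻¹ := by group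
      _ = w := by rw [e1, e2]
  calc (s * u) * w = ((s * u) * w * (s * u)⁻¹) * (s * u) := by group
    _ = w * (s * u) := by rw [e3]

end Cfsg.Agent.Helper72.Mix
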