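import Mathlib
import Cfsg.Agent.Helper99.O9.Defs
import Cfsg.Agent.Helper99.O9.C7Defs

set_option autoImplicit false
set_option linter.unusedSectionVars false
set_option linter.unusedVariables false

/-!
# (ARO2) of helper99's S2517 (C7) sub-farm: closure of the exponent lists, half-dimension 2 (pure ℕ)
-/

namespace Cfsg.Agent.Helper72.O9

open Cfsg.Agent.Helper99.O9

/-- (ARO2) all by `Nat.lcm_dvd` and explicit divisibilities -/
theorem arO2 (q p : ℕ) (hq : Odd q) (hq3 : 3 ≤ q) (hp : p.Prime) (hp2 : p ≠ 2) (k μ e N' : ℕ)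
    (hk : 1 ≤ k) (hμ : 1 ≤ μ) (hkμ : k * μ ≤ 2) (he : e = q ^ k + 1 ∨ e = q ^ k - 1)
    (hN' : N' ∈ LrO (2 - k * μ) q p) :
    ∃ N ∈ LrO 2 q p, Nat.lcm (e * p ^ Nat.clog p μ) N' ∣ N := by
  obtain ⟨a, rfl⟩ : ∃ a, q = a + 1 := ⟨q - 1, by omega⟩
  have s1 : a + 1 - 1 = a := by omega
  have s2 : (a + 1) ^ 2 - 1 = a * (a + 2) := Nat.sub_eq_of_eq_add (by ring)
  have hp3 : 2 ≤ p := hp.two_le
  have c1 : Nat.clog p 1 = 0 := Nat.clog_one_right p
  have c2 : Nat.clog p 2 = 1 := Nat.clog_eq_one (le_refl 2) hp3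
  have hL2 : LrO 2 (a + 1) p = [a * (a + 2), (a + 1) ^ 2 + 1, p * a, p * (a + 1 + 1)] := by
    rw [LrO_two, s1, s2]
  have hcases : (k = 1 ∧ μ = 1) ∨ (k = 1 ∧ μ = 2) ∨ (k = 2 ∧ μ = 1) := by
    have hk3 : k ≤ 2 := by nlinarith
    have hμ3 : μ ≤ 2 := by nlinarith
    interval_cases k <;> interval_cases μ <;> omega
  rw [hL2]
  rcases hcases with ⟨rfl, rfl⟩ | ⟨rfl, rfl⟩ | ⟨rfl, rfl⟩
  · -- k = 1, μ = 1 : N = q^2 - 1
    have h0 : 2 - 1 * 1 = 1 := by norm_num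
    rw [h0, LrO_one, s1] at hN'
    rw [c1, pow_zero, mul_one]
    rw [pow_one, s1] at he
    refine ⟨a * (a + 2), by simp, Nat.lcm_dvd ?_ ?_⟩
    · rcases he with he | he
      · rw [he]
        exact ⟨a, by ring⟩
      · rw [he]
        exact ⟨a + 2, by ring⟩
    · simp only [List.mem_cons, List.not_mem_nil, or_false] at hN'
      rcases hN' with h | h
      · rw [h]
        exact ⟨a + 2, by ring⟩
      · rw [h]
        exact ⟨a, by ring⟩
  · -- k = 1, μ = 2 : N = p * e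
    have h0 : 2 - 1 * 2 = 0 := by norm_num
    rw [h0, LrO_zero] at hN'
    have hN1 : N' = 1 := by simpa using hN'
    subst hN1
    rw [c2, pow_one]
    rw [pow_one, s1] at he
    rcases he with he | he
    · rw [he]
      exact ⟨p * (a + 1 + 1), by simp, Nat.lcm_dvd ⟨1, by ring⟩ (one_dvd _)⟩
    · rw [he]
      exact ⟨p * a, by simp, Nat.lcm_dvd ⟨1, by ring⟩ (one_dvd _)⟩
  · -- k = 2, μ = 1 : N = e
    have h0 : 2 - 2 * 1 = 0 := by norm_num
    rw [h0, LrO_zero] at hN'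
    have hN1 : N' = 1 := by simpa using hN'
    subst hN1
    rw [c1, pow_zero, mul_one]
    rw [s2] at he
    rcases he with he | he
    · rw [he]
      exact ⟨(a + 1) ^ 2 + 1, by simp, Nat.lcm_dvd (dvd_refl _) (one_dvd _)⟩
    · rw [he]
      exact ⟨a * (a + 2), by simp, Nat.lcm_dvd (dvd_refl _) (one_dvd _)⟩

end Cfsg.Agent.Helper72.O9
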