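import Mathlib
import Cfsg.Agent.Helper99.O9.Defs

set_option autoImplicit false
set_option linter.unusedSectionVars false
set_option linter.unusedVariables false

/-!
# (NEGS) of helper99's S2517 farm: `-(g₁ ⊕ g₂) = (-g₁) ⊕ (-g₂)` as pairs
-/

namespace Cfsg.Agent.Helper72.O9

open Matrix QuadraticMap Cfsg.Agent.Helper44 Cfsg.Agent.Helper44.QType Cfsg.Agent.Helper99.O9

universe u

variable {F : Type u} [Field F] [Fintype F]

/-- two pairs on the same index type with the same form and the same matrix are isometric -/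
theorem NEGS_sim_of_eq {ι : Type} [Fintype ι] [DecidableEq ι] (Q : QuadraticForm F (ι → F))
    (g g' : ↥(Cfsg.isometryGroup F ⇑Q))
    (h : ((g : GL ι F) : Matrix ι ι F) = ((g' : GL ι F) : Matrix ι ι F)) :
    (OPair.mk ι Q g).Sim (OPair.mk ι Q g') := by
  rw [OPair.sim_def]
  refine ⟨LinearEquiv.refl F (ι → F), fun w => rfl, ?_⟩
  apply Subtype.ext
  apply Units.ext
  apply Matrix.mulVec_injective
  funext v
  have h1 := isoTransport_mulVec (⇑Q) (⇑Q) (LinearEquiv.refl F (ι → F)) (fun w => rfl) g v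
  simp only [LinearEquiv.refl_apply, LinearEquiv.refl_symm] at h1
  rw [← h]
  exact h1

theorem NEGS_mat {ι₁ ι₂ : Type} [Fintype ι₁] [DecidableEq ι₁] [Fintype ι₂] [DecidableEq ι₂]
    (A : Matrix ι₁ ι₁ F) (B : Matrix ι₂ ι₂ F) :
    (-1 : Matrix (ι₁ ⊕ ι₂) (ι₁ ⊕ ι₂) F) * Matrix.fromBlocks A 0 0 B
      = Matrix.fromBlocks (-1 * A) 0 0 (-1 * B) := by
  rw [neg_one_mul, neg_one_mul, neg_one_mul, Matrix.fromBlocks_neg]
  simp only [neg_zero]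

/-- (NEGS) -/
theorem neg_sum_sim (P₁ P₂ : OPair F) : (P₁.sum P₂).neg.Sim (P₁.neg.sum P₂.neg) := by
  apply NEGS_sim_of_eq (orthSumForm P₁.Q P₂.Q)
  show ((Cfsg.Agent.Helper99.O9.negOne (orthSumForm P₁.Q P₂.Q) : GL (P₁.ι ⊕ P₂.ι) F) : Matrix (P₁.ι ⊕ P₂.ι) (P₁.ι ⊕ P₂.ι) F)
      * Matrix.fromBlocks ((P₁.g : GL P₁.ι F) : Matrix P₁.ι P₁.ι F) 0 0
          ((P₂.g : GL P₂.ι F) : Matrix P₂.ι P₂.ι F)
    = Matrix.fromBlocks
        (((Cfsg.Agent.Helper99.O9.negOne P₁.Q : GL P₁.ι F) : Matrix P₁.ι P₁.ι F) * ((P₁.g : GL P₁.ι F) : Matrix P₁.ι P₁.ι F))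
        0 0
        (((Cfsg.Agent.Helper99.O9.negOne P₂.Q : GL P₂.ι F) : Matrix P₂.ι P₂.ι F) * ((P₂.g : GL P₂.ι F) : Matrix P₂.ι P₂.ι F))
  rw [Cfsg.Agent.Helper99.O9.negOne_coe, Cfsg.Agent.Helper99.O9.negOne_coe, Cfsg.Agent.Helper99.O9.negOne_coe]
  exact NEGS_mat _ _

end Cfsg.Agent.Helper72.O9
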