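import Mathlib
import Cfsg.Agent.Helper99.O9.Defs

set_option autoImplicit false
set_option linter.unusedSectionVars false
set_option linter.unusedVariables false

/-!
# (SUMU) of helper99's S2517 farm: the orthogonal sum of two unipotent pairs is unipotent
-/

namespace Cfsg.Agent.Helper72.O9

open Matrix QuadraticMap Cfsg.Agent.Helper44 Cfsg.Agent.Helper44.QType Cfsg.Agent.Helper99.O9

universe u

variable {F : Type u} [Field F] [Fintype F]

/-- powers of a block diagonal matrix -/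
theorem SUMU_fromBlocks_pow {ι₁ ι₂ : Type} [Fintype ι₁] [DecidableEq ι₁] [Fintype ι₂]
    [DecidableEq ι₂] (A : Matrix ι₁ ι₁ F) (B : Matrix ι₂ ι₂ F) (n : ℕ) :
    (Matrix.fromBlocks A 0 0 B) ^ n = Matrix.fromBlocks (A ^ n) 0 0 (B ^ n) := by
  have h := map_pow (blockDiagHom ι₁ ι₂ F) (A, B) n
  exact h.symm

theorem SUMU_aux {ι₁ ι₂ : Type} [Fintype ι₁] [DecidableEq ι₁] [Fintype ι₂] [DecidableEq ι₂]
    (A : Matrix ι₁ ι₁ F) (B : Matrix ι₂ ι₂ F) (n₁ n₂ : ℕ) (hA : (A - 1) ^ n₁ = 0)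
    (hB : (B - 1) ^ n₂ = 0) :
    (Matrix.fromBlocks A 0 0 B - 1) ^ (n₁ + n₂) = 0 := by
  have hM : Matrix.fromBlocks A 0 0 B - 1 = Matrix.fromBlocks (A - 1) 0 0 (B - 1) := by
    rw [sub_eq_add_neg, sub_eq_add_neg, sub_eq_add_neg, ← Matrix.fromBlocks_one (l := ι₁) (m := ι₂) (α := F),
      Matrix.fromBlocks_neg, Matrix.fromBlocks_add]
    simp only [neg_zero, add_zero]
  rw [hM, SUMU_fromBlocks_pow, pow_add, hA, zero_mul, pow_add, hB, mul_zero,
    Matrix.fromBlocks_zero]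

/-- (SUMU) -/
theorem sum_unip {P₁ P₂ : OPair F} (h₁ : P₁.Unip) (h₂ : P₂.Unip) : (P₁.sum P₂).Unip := by
  rw [OPair.unip_def] at h₁ h₂ ⊢
  have hd : (P₁.sum P₂).dim = P₁.dim + P₂.dim := by
    rw [OPair.dim_def, OPair.dim_def, OPair.dim_def]
    exact Fintype.card_sum
  rw [hd]
  exact SUMU_aux P₁.M P₂.M _ _ h₁ h₂

end Cfsg.Agent.Helper72.O9
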