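import Mathlib

/-!
# Core of S2277 (helper72)

`V` a finite abelian group, `P ≤ MulAut V` a `p`-group (`p ≥ 3`, `p ∤ |V|`) acting irreducibly,
generated by `C` and by `D`, such that `V = C_V(c) C_V(d)` for all `c ∈ C`, `d ∈ D`.  Then `P = 1`.
-/

set_option autoImplicit false

namespace Cfsg.Agent.Helper72.PComp

open Subgroup

variable {V : Type*} [CommGroup V]

/-- irreducibility of a group of automorphisms -/
def Irr (P : Subgroup (MulAut V)) : Prop :=
  ∀ W : Subgroup V, (∀ u ∈ P, ∀ w ∈ W, u w ∈ W) → W = ⊥ ∨ W = ⊤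

/-- the fixed points of an automorphism, as a subgroup -/
def fixSub (z : MulAut V) : Subgroup V where
  carrier := {v | z v = v}
  one_mem' := map_one z
  mul_mem' := by
    intro a b ha hb
    show z (a * b) = a * b
    rw [map_mul, ha, hb]
  inv_mem' := by
    intro a ha
    show z a⁻¹ = a⁻¹
    rw [map_inv, ha]

theorem mem_fixSub {z : MulAut V} {v : V} : v ∈ fixSub z ↔ z v = v := Iff.rfl

theorem fix_eq_one_of_central {P : Subgroup (MulAut V)} (hirr : Irr P) {z : MulAut V}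
    (hzc : ∀ u ∈ P, u * z = z * u) (hz1 : z ≠ 1) {v : V} (hv : z v = v) : v = 1 := by
  have hW : ∀ u ∈ P, ∀ w ∈ fixSub z, u w ∈ fixSub z := by
    intro u hu w hw
    rw [mem_fixSub] at hw ⊢
    have h1 : (z * u) w = (u * z) w := by rw [hzc u hu]
    simp only [MulAut.mul_apply] at h1
    rw [h1, hw]
  rcases hirr (fixSub z) hW with h | h
  · have h2 : v ∈ fixSub z := hv
    rw [h] at h2
    exact Subgroup.mem_bot.1 h2
  · exfalso
    apply hz1
    ext w
    have h2 : w ∈ fixSub z := by rw [h]; trivial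
    rw [MulAut.one_apply]
    exact h2

theorem prod_pow_eq_one {P : Subgroup (MulAut V)} (hirr : Irr P) {g : MulAut V}
    (hgc : ∀ u ∈ P, u * g = g * u) (hg1 : g ≠ 1) {p : ℕ} (hgp : g ^ p = 1) (v : V) :
    ∏ k ∈ Finset.range p, (g ^ k) v = 1 := by
  apply fix_eq_one_of_central hirr hgc hg1
  rw [map_prod]
  have h1 : ∀ k, g ((g ^ k) v) = (g ^ (k + 1)) v := by
    intro k
    rw [pow_succ', MulAut.mul_apply]
  simp only [h1]
  have h2 := Finset.prod_range_succ' (fun k => (g ^ k) v) p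
  have h3 := Finset.prod_range_succ (fun k => (g ^ k) v) p
  rw [h3] at h2
  simp only [hgp, pow_zero, MulAut.one_apply] at h2
  exact (mul_right_cancel h2).symm

/-- iterating an eigen-relation -/
theorem pow_apply_of_eigen {c y : MulAut V} (hcy : c * y = y * c) {u : V} (hu : c u = y u) (k : ℕ) :
    (c ^ k) u = (y ^ k) u := by
  induction k with
  | zero => simp
  | succ k ih =>
    rw [pow_succ', MulAut.mul_apply, ih]
    have h1 : c ((y ^ k) u) = (y ^ k) (c u) := by
      have h2 : c * y ^ k = y ^ k * c := (Commute.pow_right (show Commute c y from hcy) k).eq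
      have h3 : (c * y ^ k) u = (y ^ k * c) u := by rw [h2]
      simpa only [MulAut.mul_apply] using h3
    rw [h1, hu, pow_succ, MulAut.mul_apply]

/-- independence of the `p` eigenspaces of `c` with eigenvalues `z^{-i}` -/
theorem eigen_indep [Finite V] {P : Subgroup (MulAut V)} (hirr : Irr P) {p : ℕ} [Fact p.Prime]
    (hcop : (Nat.card V).Coprime p) {c z : MulAut V} (hcP : c ∈ P) (hzP : z ∈ P)
    (hzc : ∀ u ∈ P, u * z = z * u) (hzo : orderOf z = p)
    (u : ℕ → V) (hu : ∀ i ∈ Finset.range p, c (u i) = ((z ^ i)⁻¹) (u i))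
    (hprod : ∏ i ∈ Finset.range p, u i = 1) : ∀ j ∈ Finset.range p, u j = 1 := by
  intro j hj
  have hzp : z ^ p = 1 := by rw [← hzo]; exact pow_orderOf_eq_one z
  -- centrality of powers
  have hpowc : ∀ n : ℕ, ∀ w ∈ P, w * z ^ n = z ^ n * w := by
    intro n w hw
    exact (Commute.pow_right (show Commute w z from hzc w hw) n).eq
  have hinvc : ∀ n : ℕ, ∀ w ∈ P, w * (z ^ n)⁻¹ = (z ^ n)⁻¹ * w := by
    intro n w hw
    exact (Commute.inv_right (show Commute w (z ^ n) from hpowc n w hw)).eq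
  -- the double product
  have hT : ∏ k ∈ Finset.range p, ((z ^ j) ^ k) ((c ^ k) (∏ i ∈ Finset.range p, u i)) = 1 := by
    rw [hprod]
    simp
  have hT2 : ∏ k ∈ Finset.range p, ((z ^ j) ^ k) ((c ^ k) (∏ i ∈ Finset.range p, u i)) =
      ∏ i ∈ Finset.range p, ∏ k ∈ Finset.range p, ((z ^ j * (z ^ i)⁻¹) ^ k) (u i) := by
    rw [Finset.prod_comm]
    apply Finset.prod_congr rfl
    intro k _
    rw [map_prod, map_prod]
    apply Finset.prod_congr rfl
    intro i hi
    rw [pow_apply_of_eigen (hinvc i c hcP) (hu i hi) k]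
    have hcomm : Commute (z ^ j) ((z ^ i)⁻¹) :=
      Commute.inv_right (Commute.pow_pow (Commute.refl z) j i)
    rw [hcomm.mul_pow, MulAut.mul_apply]
  rw [hT2] at hT
  rw [Finset.prod_eq_single j] at hT
  · -- the `j`-term is `u j ^ p`
    have h1 : z ^ j * (z ^ j)⁻¹ = 1 := mul_inv_cancel _
    simp only [h1, one_pow, MulAut.one_apply, Finset.prod_const, Finset.card_range] at hT
    have h2 : orderOf (u j) ∣ p := orderOf_dvd_of_pow_eq_one hT
    have h3 : orderOf (u j) ∣ Nat.card V := orderOf_dvd_natCard (u j)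
    have h4 : orderOf (u j) = 1 := Nat.eq_one_of_dvd_coprimes hcop h3 h2
    exact orderOf_eq_one_iff.1 h4
  · intro i hi hij
    have hgP : z ^ j * (z ^ i)⁻¹ ∈ P := P.mul_mem (P.pow_mem hzP j) (P.inv_mem (P.pow_mem hzP i))
    have hgc : ∀ w ∈ P, w * (z ^ j * (z ^ i)⁻¹) = (z ^ j * (z ^ i)⁻¹) * w := by
      intro w hw
      exact ((show Commute w (z ^ j) from hpowc j w hw).mul_right
        (show Commute w (z ^ i)⁻¹ from hinvc i w hw)).eq
    have hg1 : z ^ j * (z ^ i)⁻¹ ≠ 1 := by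
      intro h
      have h5 : z ^ j = z ^ i := by
        rw [mul_inv_eq_one] at h
        exact h
      rw [pow_inj_mod, hzo] at h5
      rw [Nat.mod_eq_of_lt (Finset.mem_range.1 hj), Nat.mod_eq_of_lt (Finset.mem_range.1 hi)] at h5
      exact hij h5.symm
    have hgp : (z ^ j * (z ^ i)⁻¹) ^ p = 1 := by
      have hcomm : Commute (z ^ j) ((z ^ i)⁻¹) :=
        Commute.inv_right (Commute.pow_pow (Commute.refl z) j i)
      rw [hcomm.mul_pow, inv_pow, ← pow_mul, ← pow_mul, mul_comm j p, mul_comm i p, pow_mul, pow_mul,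
        hzp]
      simp
    exact prod_pow_eq_one hirr hgc hg1 hgp (u i)
  · intro hj'
    exact absurd hj hj'

/-- if `b c b⁻¹ = c z` with `z` central of order `p`, the fixed points of `c` are small -/
theorem card_fix_pow_le [Finite V] {P : Subgroup (MulAut V)} (hirr : Irr P) {p : ℕ}
    [hp : Fact p.Prime] (hcop : (Nat.card V).Coprime p) {c b z : MulAut V} (hcP : c ∈ P)
    (hbP : b ∈ P) (hzP : z ∈ P) (hzc : ∀ u ∈ P, u * z = z * u) (hzo : orderOf z = p)
    (hconj : b * c * b⁻¹ = c * z) :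
    Nat.card (fixSub c) ^ p ≤ Nat.card V := by
  -- `b^i c b^{-i} = c z^i`
  have hpowc : ∀ n : ℕ, ∀ w ∈ P, w * z ^ n = z ^ n * w := by
    intro n w hw
    exact (Commute.pow_right (show Commute w z from hzc w hw) n).eq
  have hconj' : ∀ i : ℕ, b ^ i * c = c * z ^ i * b ^ i := by
    intro i
    induction i with
    | zero => simp
    | succ i ih =>
      have h0 : b * c = c * z * b := by
        rw [← hconj]; group
      calc b ^ (i + 1) * c = b * (b ^ i * c) := by rw [pow_succ']; group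
        _ = b * (c * z ^ i * b ^ i) := by rw [ih]
        _ = (b * c) * z ^ i * b ^ i := by group
        _ = c * z * (b * z ^ i) * b ^ i := by rw [h0]; group
        _ = c * z * (z ^ i * b) * b ^ i := by rw [hpowc i b hbP]
        _ = c * z ^ (i + 1) * b ^ (i + 1) := by rw [pow_succ' z i, pow_succ' b i]; group
  -- the map
  let Φ : (Fin p → fixSub c) → V := fun w => ∏ i : Fin p, (b ^ (i : ℕ)) (w i : V)
  have hΦ : Function.Injective Φ := by
    intro w w' hww'
    -- the quotient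
    let δ : ℕ → V := fun i => if hi : i < p then (b ^ i) ((w ⟨i, hi⟩ : V) * (w' ⟨i, hi⟩ : V)⁻¹) else 1
    have hδ : ∀ i : Fin p, δ i = (b ^ (i : ℕ)) ((w i : V) * (w' i : V)⁻¹) := by
      intro i
      simp only [δ, dif_pos i.2]
    have hprod : ∏ i ∈ Finset.range p, δ i = 1 := by
      rw [← Fin.prod_univ_eq_prod_range δ p]
      simp only [hδ, map_mul, map_inv, Finset.prod_mul_distrib, Finset.prod_inv_distrib]
      have : Φ w = Φ w' := hww'
      simp only [Φ] at this
      rw [this, mul_inv_cancel]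
    have heig : ∀ i ∈ Finset.range p, c (δ i) = ((z ^ i)⁻¹) (δ i) := by
      intro i hi
      have hi' : i < p := Finset.mem_range.1 hi
      set x : V := (w ⟨i, hi'⟩ : V) * (w' ⟨i, hi'⟩ : V)⁻¹ with hx
      have hxfix : c x = x := by
        have h1 : c (w ⟨i, hi'⟩ : V) = w ⟨i, hi'⟩ := (w ⟨i, hi'⟩).2
        have h2 : c (w' ⟨i, hi'⟩ : V) = w' ⟨i, hi'⟩ := (w' ⟨i, hi'⟩).2
        rw [hx, map_mul, map_inv, h1, h2]
      have hδi : δ i = (b ^ i) x := by simp only [δ, dif_pos hi', hx]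
      rw [hδi]
      -- `c (z^i (b^i x)) = b^i x`
      have h3 : (c * z ^ i * b ^ i) x = (b ^ i * c) x := by rw [hconj' i]
      simp only [MulAut.mul_apply, hxfix] at h3
      -- `c` commutes with `z^i`
      have h4 : (c * z ^ i) ((b ^ i) x) = (z ^ i * c) ((b ^ i) x) := by rw [hpowc i c hcP]
      simp only [MulAut.mul_apply] at h4
      rw [h4] at h3
      -- apply `(z^i)⁻¹`
      have h5 : ((z ^ i)⁻¹) ((z ^ i) (c ((b ^ i) x))) = ((z ^ i)⁻¹) ((b ^ i) x) := by rw [h3]
      rw [← MulAut.mul_apply, inv_mul_cancel, MulAut.one_apply] at h5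
      exact h5
    have hall := eigen_indep hirr hcop hcP hzP hzc hzo δ heig hprod
    funext i
    have h6 := hall (i : ℕ) (Finset.mem_range.2 i.2)
    rw [hδ i] at h6
    have h7 : (w i : V) * (w' i : V)⁻¹ = 1 := by
      have h8 : (b ^ (i : ℕ)) ((w i : V) * (w' i : V)⁻¹) = (b ^ (i : ℕ)) 1 := by rw [h6, map_one]
      exact (b ^ (i : ℕ)).injective h8
    exact Subtype.ext (mul_inv_eq_one.1 h7)
  have h9 := Nat.card_le_card_of_injective Φ hΦ
  rwa [Nat.card_fun, Nat.card_fin] at h9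


/-- in a non-abelian finite `p`-group there is a non-central element all of whose commutators are
central -/
theorem exists_second_center_elt {Q : Type*} [Group Q] [Finite Q] {p : ℕ} [Fact p.Prime]
    (hQ : IsPGroup p Q) (hnab : ¬ ∀ u v : Q, u * v = v * u) :
    ∃ a : Q, (¬ ∀ u : Q, u * a = a * u) ∧
      ∀ u w : Q, w * (u⁻¹ * a⁻¹ * u * a) = (u⁻¹ * a⁻¹ * u * a) * w := by
  have hnt : Nontrivial (Q ⧸ center Q) := by
    by_contra hcon
    rw [not_nontrivial_iff_subsingleton] at hcon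
    apply hnab
    intro u v
    have h1 : (QuotientGroup.mk v : Q ⧸ center Q) = 1 := Subsingleton.elim _ _
    rw [QuotientGroup.eq_one_iff] at h1
    exact (Subgroup.mem_center_iff.1 h1 u)
  have hQ' : IsPGroup p (Q ⧸ center Q) := hQ.to_quotient (center Q)
  have hcn : Nontrivial (center (Q ⧸ center Q)) := hQ'.center_nontrivial
  obtain ⟨⟨q, hqc⟩, hq1⟩ := exists_ne (1 : center (Q ⧸ center Q))
  obtain ⟨a, rfl⟩ := QuotientGroup.mk_surjective q
  have hane : (QuotientGroup.mk a : Q ⧸ center Q) ≠ 1 := by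
    intro h
    apply hq1
    exact Subtype.ext h
  refine ⟨a, ?_, ?_⟩
  · intro hcen
    apply hane
    rw [QuotientGroup.eq_one_iff, Subgroup.mem_center_iff]
    intro u
    exact hcen u
  · intro u w
    have h1 : (QuotientGroup.mk (u⁻¹ * a⁻¹ * u * a) : Q ⧸ center Q) = 1 := by
      have h2 := Subgroup.mem_center_iff.1 hqc (QuotientGroup.mk u)
      simp only [QuotientGroup.mk_mul, QuotientGroup.mk_inv]
      calc (QuotientGroup.mk u : Q ⧸ center Q)⁻¹ * (QuotientGroup.mk a)⁻¹ * QuotientGroup.mk u *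
            QuotientGroup.mk a
          = (QuotientGroup.mk u : Q ⧸ center Q)⁻¹ * (QuotientGroup.mk a)⁻¹ *
            (QuotientGroup.mk u * QuotientGroup.mk a) := by group
        _ = (QuotientGroup.mk u : Q ⧸ center Q)⁻¹ * (QuotientGroup.mk a)⁻¹ *
            (QuotientGroup.mk a * QuotientGroup.mk u) := by rw [h2]
        _ = 1 := by group
    rw [QuotientGroup.eq_one_iff, Subgroup.mem_center_iff] at h1
    exact h1 w

/-- version for a subgroup of an ambient group -/
theorem exists_second_center_elt_sub {H : Type*} [Group H] {P : Subgroup H} [Finite P] {p : ℕ}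
    [Fact p.Prime] (hP : IsPGroup p P) (hnab : ¬ ∀ u ∈ P, ∀ v ∈ P, u * v = v * u) :
    ∃ a ∈ P, (¬ ∀ u ∈ P, u * a = a * u) ∧
      ∀ u ∈ P, ∀ w ∈ P, w * (u⁻¹ * a⁻¹ * u * a) = (u⁻¹ * a⁻¹ * u * a) * w := by
  have hnab' : ¬ ∀ u v : P, u * v = v * u := by
    intro h
    apply hnab
    intro u hu v hv
    have := h ⟨u, hu⟩ ⟨v, hv⟩
    exact congrArg Subtype.val this
  obtain ⟨a, ha1, ha2⟩ := exists_second_center_elt hP hnab'
  refine ⟨a.1, a.2, ?_, ?_⟩
  · intro h
    apply ha1
    intro u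
    exact Subtype.ext (h u.1 u.2)
  · intro u hu w hw
    have := ha2 ⟨u, hu⟩ ⟨w, hw⟩
    exact congrArg Subtype.val this

/-- some element of a generating set does not commute with a non-central element -/
theorem exists_not_commute_of_closure {H : Type*} [Group H] {P : Subgroup H} {C : Set H}
    (hC : closure C = P) {a : H} (ha : ¬ ∀ u ∈ P, u * a = a * u) : ∃ c ∈ C, c * a ≠ a * c := by
  by_contra hcon
  push Not at hcon
  apply ha
  have h1 : closure C ≤ centralizer {a} := by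
    rw [closure_le]
    intro c hc
    rw [SetLike.mem_coe, mem_centralizer_singleton_iff]
    exact hcon c hc
  intro u hu
  rw [← hC] at hu
  exact mem_centralizer_singleton_iff.1 (h1 hu)

/-- a "good" pair: from a non-commuting pair `(c, a)` with central commutator, produce `b`, `z`. -/
theorem exists_good_pair [Finite V] {P : Subgroup (MulAut V)} {p : ℕ} [hp : Fact p.Prime]
    (hP : IsPGroup p P) {c a : MulAut V} (hcP : c ∈ P) (haP : a ∈ P) (hca : c * a ≠ a * c)
    (hcen : ∀ w ∈ P, w * (c⁻¹ * a⁻¹ * c * a) = (c⁻¹ * a⁻¹ * c * a) * w) :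
    ∃ b ∈ P, ∃ z ∈ P, (∀ u ∈ P, u * z = z * u) ∧ orderOf z = p ∧ b * c * b⁻¹ = c * z := by
  set z0 : MulAut V := c⁻¹ * a⁻¹ * c * a with hz0
  have hz0P : z0 ∈ P := P.mul_mem (P.mul_mem (P.mul_mem (P.inv_mem hcP) (P.inv_mem haP)) hcP) haP
  have hz01 : z0 ≠ 1 := by
    intro h
    apply hca
    have h1 : a * z0 = a := by rw [h, mul_one]
    have h2 : c * a = a * c * z0 := by
      rw [hz0]
      have h3 : a * c * (c⁻¹ * a⁻¹ * c * a) = c * a := by group
      rw [h3]
    rw [h2, h, mul_one]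
  -- `a⁻¹ c a = c z0`
  have hstep : a⁻¹ * c * a = c * z0 := by rw [hz0]; group
  -- order of z0
  obtain ⟨m, hm⟩ := (IsPGroup.iff_orderOf.1 hP) ⟨z0, hz0P⟩
  rw [Subgroup.orderOf_mk] at hm
  have hm1 : m ≠ 0 := by
    intro h
    rw [h, pow_zero, orderOf_eq_one_iff] at hm
    exact hz01 hm
  have hdvd : p ∣ orderOf z0 := by
    rw [hm]
    exact dvd_pow_self p hm1
  have hpos : orderOf z0 ≠ 0 := by
    rw [hm]
    exact pow_ne_zero _ hp.out.ne_zero
  set n : ℕ := orderOf z0 / p with hn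
  have hzo : orderOf (z0 ^ n) = p := orderOf_pow_orderOf_div hpos hdvd
  -- `a^{-n} c a^n = c z0^n`
  have hpowc : ∀ k : ℕ, ∀ w ∈ P, w * z0 ^ k = z0 ^ k * w := by
    intro k w hw
    exact (Commute.pow_right (show Commute w z0 from hcen w hw) k).eq
  have hiter : ∀ k : ℕ, (a ^ k)⁻¹ * c * a ^ k = c * z0 ^ k := by
    intro k
    induction k with
    | zero => simp
    | succ k ih =>
      calc (a ^ (k + 1))⁻¹ * c * a ^ (k + 1) = a⁻¹ * ((a ^ k)⁻¹ * c * a ^ k) * a := by
            rw [pow_succ]; group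
        _ = a⁻¹ * (c * z0 ^ k) * a := by rw [ih]
        _ = (a⁻¹ * c * a) * (a⁻¹ * (z0 ^ k * a)) := by group
        _ = (c * z0) * (a⁻¹ * (a * z0 ^ k)) := by rw [hstep, hpowc k a haP]
        _ = c * z0 ^ (k + 1) := by rw [pow_succ' z0 k]; group
  refine ⟨(a ^ n)⁻¹, P.inv_mem (P.pow_mem haP n), z0 ^ n, P.pow_mem hz0P n, ?_, hzo, ?_⟩
  · intro u hu
    exact hpowc n u hu
  · rw [inv_inv]
    exact hiter n

/-- **Core, faithful form.** -/
theorem core1 [Finite V] (p : ℕ) [hp : Fact p.Prime] (hp3 : 3 ≤ p) (hcop : (Nat.card V).Coprime p)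
    (P : Subgroup (MulAut V)) (hP : IsPGroup p P) (hirr : Irr P)
    (C D : Set (MulAut V)) (hC : closure C = P) (hD : closure D = P)
    (h : ∀ c ∈ C, ∀ d ∈ D, ∀ v : V, ∃ a b : V, v = a * b ∧ c a = a ∧ d b = b) : P = ⊥ := by
  by_contra hne
  have hCP : ∀ c ∈ C, c ∈ P := fun c hc => hC ▸ subset_closure hc
  have hDP : ∀ d ∈ D, d ∈ P := fun d hd => hD ▸ subset_closure hd
  by_cases hab : ∀ u ∈ P, ∀ v ∈ P, u * v = v * u
  · -- abelian case
    have hex : ∃ c ∈ C, c ≠ 1 := by
      by_contra hcon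
      push Not at hcon
      apply hne
      rw [← hC, closure_eq_bot_iff]
      intro c hc
      exact hcon c hc
    obtain ⟨c, hc, hc1⟩ := hex
    have hcc : ∀ u ∈ P, u * c = c * u := fun u hu => hab u hu c (hCP c hc)
    apply hne
    rw [← hD, closure_eq_bot_iff]
    intro d hd
    rw [Set.mem_singleton_iff]
    ext v
    obtain ⟨a, b, hv, ha, hb⟩ := h c hc d hd v
    have ha1 : a = 1 := fix_eq_one_of_central hirr hcc hc1 ha
    rw [MulAut.one_apply, hv, ha1, one_mul, hb]
  · -- non-abelian case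
    have : Finite P := inferInstance
    obtain ⟨a, haP, hanc, hacen⟩ := exists_second_center_elt_sub hP hab
    obtain ⟨c, hc, hca⟩ := exists_not_commute_of_closure hC hanc
    obtain ⟨d, hd, hda⟩ := exists_not_commute_of_closure hD hanc
    obtain ⟨b1, hb1P, z1, hz1P, hz1c, hz1o, hconj1⟩ :=
      exists_good_pair hP (hCP c hc) haP hca (hacen c (hCP c hc))
    obtain ⟨b2, hb2P, z2, hz2P, hz2c, hz2o, hconj2⟩ :=
      exists_good_pair hP (hDP d hd) haP hda (hacen d (hDP d hd))
    have hle1 := card_fix_pow_le hirr hcop (hCP c hc) hb1P hz1P hz1c hz1o hconj1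
    have hle2 := card_fix_pow_le hirr hcop (hDP d hd) hb2P hz2P hz2c hz2o hconj2
    -- `|V| ≤ |Fix c| |Fix d|`
    have hsurj : Function.Surjective
        (fun x : fixSub c × fixSub d => ((x.1 : V) * (x.2 : V))) := by
      intro v
      obtain ⟨a', b', hv, ha', hb'⟩ := h c hc d hd v
      exact ⟨(⟨a', ha'⟩, ⟨b', hb'⟩), hv.symm⟩
    have hle3 := Nat.card_le_card_of_surjective _ hsurj
    rw [Nat.card_prod] at hle3
    -- arithmetic
    have hVpos : 0 < Nat.card V := Nat.card_pos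
    have h4 : Nat.card V ^ p ≤ Nat.card V ^ 2 := by
      calc Nat.card V ^ p ≤ (Nat.card (fixSub c) * Nat.card (fixSub d)) ^ p :=
            Nat.pow_le_pow_left hle3 p
        _ = Nat.card (fixSub c) ^ p * Nat.card (fixSub d) ^ p := mul_pow _ _ _
        _ ≤ Nat.card V * Nat.card V := Nat.mul_le_mul hle1 hle2
        _ = Nat.card V ^ 2 := (sq _).symm
    have h5 : Nat.card V = 1 := by
      by_contra h1
      have h2 : 2 ≤ Nat.card V := by omega
      have h6 : Nat.card V ^ 2 < Nat.card V ^ p := Nat.pow_lt_pow_right h2 (by omega)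
      omega
    -- then everything is trivial
    have : Subsingleton V := (Nat.card_eq_one_iff_unique.1 h5).1
    apply hne
    rw [eq_bot_iff]
    intro u _
    rw [Subgroup.mem_bot]
    ext v
    exact Subsingleton.elim _ _

/-- **Core, homomorphism form.** -/
theorem core2 [Finite V] {Q : Type*} [Group Q] (p : ℕ) [hp : Fact p.Prime] (hp3 : 3 ≤ p)
    (hQ : IsPGroup p Q) (hcop : (Nat.card V).Coprime p) (ρ : Q →* MulAut V)
    (hirr : ∀ W : Subgroup V, (∀ u : Q, ∀ w ∈ W, ρ u w ∈ W) → W = ⊥ ∨ W = ⊤)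
    (C D : Set Q) (hC : closure C = ⊤) (hD : closure D = ⊤)
    (h : ∀ c ∈ C, ∀ d ∈ D, ∀ v : V, ∃ a b : V, v = a * b ∧ ρ c a = a ∧ ρ d b = b) :
    ∀ u : Q, ρ u = 1 := by
  have hP : IsPGroup p ρ.range := by
    rw [MonoidHom.range_eq_map]
    exact (IsPGroup.map (H := (⊤ : Subgroup Q)) (hQ.to_subgroup ⊤) ρ)
  have hirr' : Irr ρ.range := by
    intro W hW
    apply hirr W
    intro u w hw
    exact hW (ρ u) ⟨u, rfl⟩ w hw
  have hC' : closure (ρ '' C) = ρ.range := by
    rw [← MonoidHom.map_closure, hC, MonoidHom.range_eq_map]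
  have hD' : closure (ρ '' D) = ρ.range := by
    rw [← MonoidHom.map_closure, hD, MonoidHom.range_eq_map]
  have h' : ∀ c ∈ ρ '' C, ∀ d ∈ ρ '' D, ∀ v : V, ∃ a b : V, v = a * b ∧ c a = a ∧ d b = b := by
    rintro _ ⟨c, hc, rfl⟩ _ ⟨d, hd, rfl⟩ v
    exact h c hc d hd v
  have hbot := core1 p hp3 hcop ρ.range hP hirr' (ρ '' C) (ρ '' D) hC' hD' h'
  intro u
  have : ρ u ∈ ρ.range := ⟨u, rfl⟩
  rw [hbot, Subgroup.mem_bot] at this
  exact this


/-- **Core, homomorphism form, for a group with a commutativity hypothesis.** -/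
theorem core3 {W : Type*} [Group W] [Finite W] (hcomm : ∀ a b : W, a * b = b * a)
    {Q : Type*} [Group Q] (p : ℕ) [hp : Fact p.Prime] (hp3 : 3 ≤ p)
    (hQ : IsPGroup p Q) (hcop : (Nat.card W).Coprime p) (ρ : Q →* MulAut W)
    (hirr : ∀ U : Subgroup W, (∀ u : Q, ∀ w ∈ U, ρ u w ∈ U) → U = ⊥ ∨ U = ⊤)
    (C D : Set Q) (hC : closure C = ⊤) (hD : closure D = ⊤)
    (h : ∀ c ∈ C, ∀ d ∈ D, ∀ v : W, ∃ a b : W, v = a * b ∧ ρ c a = a ∧ ρ d b = b) :
    ∀ u : Q, ρ u = 1 := by
  let _ : CommGroup W := { (inferInstance : Group W) with mul_comm := hcomm }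
  exact core2 p hp3 hQ hcop ρ hirr C D hC hD h

end Cfsg.Agent.Helper72.PComp
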