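import Mathlib
import Cfsg.Agent.Helper72.PCompCore
import Cfsg.Agent.Helper68.QuotAut
import Cfsg.Agent.Helper48.CoprimeGen

/-!
# Bridge lemmas for S2277 (helper72)
-/

set_option autoImplicit false

namespace Cfsg.Agent.Helper72.PComp

open Subgroup

variable {G : Type*} [Group G]

/-- elementwise coprime-action lemma: if `u x u⁻¹ = y x` with `y` commuting with `u` and of order
coprime to that of `u`, then `y = 1`. -/
theorem eq_one_of_conj_eq_mul [Finite G] {u x y : G} (hy : u * x * u⁻¹ = y * x)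
    (hyu : u * y = y * u) (hcop : (orderOf y).Coprime (orderOf u)) : y = 1 := by
  have hpow : ∀ k : ℕ, u ^ k * x * (u ^ k)⁻¹ = y ^ k * x := by
    intro k
    induction k with
    | zero => simp
    | succ k ih =>
      have hyk : u * y ^ k = y ^ k * u := (Commute.pow_right (show Commute u y from hyu) k).eq
      calc u ^ (k + 1) * x * (u ^ (k + 1))⁻¹ = u * (u ^ k * x * (u ^ k)⁻¹) * u⁻¹ := by
            rw [pow_succ']; group
        _ = u * (y ^ k * x) * u⁻¹ := by rw [ih]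
        _ = (u * y ^ k) * (x * u⁻¹) := by group
        _ = (y ^ k * u) * (x * u⁻¹) := by rw [hyk]
        _ = y ^ k * (u * x * u⁻¹) := by group
        _ = y ^ k * (y * x) := by rw [hy]
        _ = y ^ (k + 1) * x := by rw [pow_succ]; group
  have h1 := hpow (orderOf u)
  rw [pow_orderOf_eq_one] at h1
  simp only [one_mul, inv_one, mul_one] at h1
  have h2 : y ^ orderOf u = 1 := by
    have h3 : y ^ orderOf u * x = 1 * x := by rw [one_mul]; exact h1.symm
    exact mul_right_cancel h3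
  have h4 : orderOf y ∣ orderOf u := orderOf_dvd_of_pow_eq_one h2
  have h5 : orderOf y = 1 := Nat.eq_one_of_dvd_coprimes hcop (dvd_refl _) h4
  exact orderOf_eq_one_iff.1 h5

theorem le_normalizer_of_conj_mem {X H : Subgroup G} (h : ∀ x ∈ X, ∀ g ∈ H, x * g * x⁻¹ ∈ H) :
    X ≤ normalizer (H : Set G) := by
  intro x hx
  rw [mem_normalizer_iff]
  intro g
  constructor
  · intro hg
    exact h x hx g hg
  · intro hg
    have := h x⁻¹ (X.inv_mem hx) _ hg
    simpa [mul_assoc] using this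

theorem closure_preimage_eq_top {H : Subgroup G} {C : Set G} (hC : closure C = H) :
    closure ((Subtype.val : ↥H → G) ⁻¹' C) = ⊤ := by
  subst hC
  exact closure_closure_coe_preimage

/-- the key consequence of the hypothesis: `x ∈ C_X(d) C_X(c)` -/
theorem exists_mul_of_isPGroup [Finite G] {p : ℕ} [Fact p.Prime] (P : Sylow p G) (N : Subgroup G)
    (hN : (Nat.card N).Coprime p) (X : Subgroup G) (hXN : X ≤ N)
    (hPX : (P : Subgroup G) ≤ normalizer (X : Set G)) {c d x : G} (hc : c ∈ P) (hd : d ∈ P)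
    (hx : x ∈ X) (hT : IsPGroup p (closure ({x * c * x⁻¹, d} : Set G))) :
    ∃ y ∈ X, ∃ w ∈ X, x = y * w ∧ y * d = d * y ∧ w * c = c * w := by
  set Γ : Subgroup G := X ⊔ (P : Subgroup G) with hΓ
  have hXΓ : X ≤ Γ := le_sup_left
  have hPΓ : (P : Subgroup G) ≤ Γ := le_sup_right
  set T : Subgroup G := closure ({x * c * x⁻¹, d} : Set G) with hTdef
  have hTΓ : T ≤ Γ := by
    rw [hTdef, closure_le]
    intro t ht
    rcases ht with rfl | rfl
    · exact Γ.mul_mem (Γ.mul_mem (hXΓ hx) (hPΓ hc)) (Γ.inv_mem (hXΓ hx))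
    · exact hPΓ hd
  -- `X ∩ P = 1`
  have hXP : ∀ g, g ∈ X → g ∈ (P : Subgroup G) → g = 1 := by
    intro g hgX hgP
    have hcop : (Nat.card N).Coprime (Nat.card (P : Subgroup G)) := by
      obtain ⟨n, hn⟩ := IsPGroup.iff_card.1 P.isPGroup'
      rw [hn]
      exact Nat.Coprime.pow_right n hN
    have hbot := (Subgroup.disjoint_of_coprime_natCard hcop).eq_bot
    have : g ∈ N ⊓ (P : Subgroup G) := Subgroup.mem_inf.2 ⟨hXN hgX, hgP⟩
    rw [hbot] at this
    exact Subgroup.mem_bot.1 this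
  -- Sylow in `Γ`
  let P' : Sylow p Γ := P.subtype hPΓ
  have hT' : IsPGroup p (T.subgroupOf Γ) := hT.comap_subtype
  obtain ⟨S, hS⟩ := hT'.exists_le_sylow
  obtain ⟨g, hg⟩ := MulAction.exists_smul_eq Γ P' S
  -- for `t ∈ T`, `g⁻¹ t g ∈ P`
  have hconj : ∀ t ∈ T, (g : G)⁻¹ * t * g ∈ (P : Subgroup G) := by
    intro t ht
    have h1 : (⟨t, hTΓ ht⟩ : Γ) ∈ (S : Subgroup Γ) := hS (Subgroup.mem_subgroupOf.2 ht)
    rw [← hg, Sylow.smul_def, Sylow.pointwise_smul_def,
      Subgroup.mem_pointwise_smul_iff_inv_smul_mem] at h1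
    have h2 : (MulAut.conj g)⁻¹ • (⟨t, hTΓ ht⟩ : Γ) = g⁻¹ * ⟨t, hTΓ ht⟩ * g := by
      rw [← map_inv, MulAut.smul_def, MulAut.conj_apply, inv_inv]
    rw [h2] at h1
    have h3 : g⁻¹ * ⟨t, hTΓ ht⟩ * g ∈ (P : Subgroup G).subgroupOf Γ := by
      have : (P' : Subgroup Γ) = (P : Subgroup G).subgroupOf Γ := Sylow.coe_subtype P hPΓ
      rw [← this]
      exact h1
    rw [Subgroup.mem_subgroupOf] at h3
    simpa using h3
  -- decompose `g = y u`
  have hgmem : (g : G) ∈ ((X ⊔ (P : Subgroup G) : Subgroup G) : Set G) := g.2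
  rw [Subgroup.coe_mul_of_right_le_normalizer_left X (P : Subgroup G) hPX] at hgmem
  obtain ⟨y, hyX, u, huP, hyu⟩ := hgmem
  have hconj' : ∀ t ∈ T, y⁻¹ * t * y ∈ (P : Subgroup G) := by
    intro t ht
    have h1 := hconj t ht
    rw [← hyu] at h1
    have h2 : y⁻¹ * t * y = u * ((y * u)⁻¹ * t * (y * u)) * u⁻¹ := by group
    rw [h2]
    exact (P : Subgroup G).mul_mem ((P : Subgroup G).mul_mem huP h1) ((P : Subgroup G).inv_mem huP)
  have hdT : d ∈ T := subset_closure (by simp)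
  have hcT : x * c * x⁻¹ ∈ T := subset_closure (by simp)
  -- `y` commutes with `d`
  have hyd : y * d = d * y := by
    have h1 := hconj' d hdT
    have h2 : d⁻¹ * (y⁻¹ * d * y) ∈ (P : Subgroup G) :=
      (P : Subgroup G).mul_mem ((P : Subgroup G).inv_mem hd) h1
    have h3 : d⁻¹ * (y⁻¹ * d * y) ∈ X := by
      have h4 : d⁻¹ * y⁻¹ * d⁻¹⁻¹ ∈ X :=
        (mem_normalizer_iff.1 (hPX ((P : Subgroup G).inv_mem hd)) y⁻¹).1 (X.inv_mem hyX)
      have h5 : d⁻¹ * (y⁻¹ * d * y) = (d⁻¹ * y⁻¹ * d⁻¹⁻¹) * y := by group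
      rw [h5]
      exact X.mul_mem h4 hyX
    have h6 := hXP _ h3 h2
    have h7 : y⁻¹ * d * y = d := by
      have : d * (d⁻¹ * (y⁻¹ * d * y)) = d * 1 := by rw [h6]
      simpa [mul_assoc] using this
    calc y * d = y * (y⁻¹ * d * y) := by rw [h7]
      _ = d * y := by group
  -- `w = y⁻¹ x` commutes with `c`
  have hwX : y⁻¹ * x ∈ X := X.mul_mem (X.inv_mem hyX) hx
  have hwc : (y⁻¹ * x) * c = c * (y⁻¹ * x) := by
    have h1 := hconj' _ hcT
    have h1' : (y⁻¹ * x) * c * (y⁻¹ * x)⁻¹ ∈ (P : Subgroup G) := by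
      have : (y⁻¹ * x) * c * (y⁻¹ * x)⁻¹ = y⁻¹ * (x * c * x⁻¹) * y := by group
      rw [this]
      exact h1
    set w := y⁻¹ * x with hw
    have h2 : c⁻¹ * (w * c * w⁻¹) ∈ (P : Subgroup G) :=
      (P : Subgroup G).mul_mem ((P : Subgroup G).inv_mem hc) h1'
    have h3 : c⁻¹ * (w * c * w⁻¹) ∈ X := by
      have h4 : c⁻¹ * w * c⁻¹⁻¹ ∈ X :=
        (mem_normalizer_iff.1 (hPX ((P : Subgroup G).inv_mem hc)) w).1 hwX
      have h5 : c⁻¹ * (w * c * w⁻¹) = (c⁻¹ * w * c⁻¹⁻¹) * w⁻¹ := by group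
      rw [h5]
      exact X.mul_mem h4 (X.inv_mem hwX)
    have h6 := hXP _ h3 h2
    have h7 : w * c * w⁻¹ = c := by
      have : c * (c⁻¹ * (w * c * w⁻¹)) = c * 1 := by rw [h6]
      simpa [mul_assoc] using this
    calc w * c = (w * c * w⁻¹) * w := by group
      _ = c * w := by rw [h7]
  exact ⟨y, hyX, y⁻¹ * x, hwX, by group, hyd, hwc⟩

end Cfsg.Agent.Helper72.PComp
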