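import Mathlib
import Cfsg.Agent.Helper72.PCompBridge

/-!
# Main reduction for S2277 (helper72)
-/

set_option autoImplicit false
set_option linter.style.haveILetI false

namespace Cfsg.Agent.Helper72.PComp

open Subgroup
open Cfsg.Agent.Helper68 (conjAut quotAut quotAut_mk quotAut_mk_eq_iff conjAut_apply_coe)

variable {G : Type*} [Group G]

section quot

variable (Y X : Subgroup G) [hn : (Y.subgroupOf X).Normal]

/-- preimage in `G` of a subgroup of `X/Y` -/
def pre (W : Subgroup (↥X ⧸ Y.subgroupOf X)) : Subgroup G :=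
  (W.comap (QuotientGroup.mk' (Y.subgroupOf X))).map X.subtype

theorem mem_pre {W : Subgroup (↥X ⧸ Y.subgroupOf X)} {g : G} :
    g ∈ pre Y X W ↔ ∃ hg : g ∈ X, (QuotientGroup.mk ⟨g, hg⟩ : ↥X ⧸ Y.subgroupOf X) ∈ W := by
  constructor
  · rintro ⟨x, hx, rfl⟩
    exact ⟨x.2, hx⟩
  · rintro ⟨hg, h⟩
    exact ⟨⟨g, hg⟩, h, rfl⟩

theorem pre_le (W : Subgroup (↥X ⧸ Y.subgroupOf X)) : pre Y X W ≤ X := by
  intro g hg
  obtain ⟨hgX, -⟩ := (mem_pre Y X).1 hg
  exact hgX

theorem le_pre (hYX : Y ≤ X) (W : Subgroup (↥X ⧸ Y.subgroupOf X)) : Y ≤ pre Y X W := by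
  intro g hg
  rw [mem_pre]
  refine ⟨hYX hg, ?_⟩
  have : (QuotientGroup.mk ⟨g, hYX hg⟩ : ↥X ⧸ Y.subgroupOf X) = 1 := by
    rw [QuotientGroup.eq_one_iff, mem_subgroupOf]
    exact hg
  rw [this]
  exact W.one_mem

theorem eq_top_of_pre_eq {W : Subgroup (↥X ⧸ Y.subgroupOf X)} (h : pre Y X W = X) : W = ⊤ := by
  rw [eq_top_iff]
  intro v _
  obtain ⟨x, rfl⟩ := QuotientGroup.mk_surjective v
  have hx : (x : G) ∈ pre Y X W := by rw [h]; exact x.2
  obtain ⟨_, h2⟩ := (mem_pre Y X).1 hx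
  exact h2

theorem eq_bot_of_pre_le {W : Subgroup (↥X ⧸ Y.subgroupOf X)} (h : pre Y X W ≤ Y) : W = ⊥ := by
  rw [eq_bot_iff]
  intro v hv
  obtain ⟨x, rfl⟩ := QuotientGroup.mk_surjective v
  have hx : (x : G) ∈ pre Y X W := (mem_pre Y X).2 ⟨x.2, hv⟩
  rw [Subgroup.mem_bot, QuotientGroup.eq_one_iff, mem_subgroupOf]
  exact h hx

theorem le_normalizer_pre (W : Subgroup (↥X ⧸ Y.subgroupOf X)) [hW : W.Normal] :
    X ≤ normalizer (pre Y X W : Set G) := by
  apply le_normalizer_of_conj_mem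
  intro x hx g hg
  obtain ⟨hgX, hgW⟩ := (mem_pre Y X).1 hg
  rw [mem_pre]
  refine ⟨X.mul_mem (X.mul_mem hx hgX) (X.inv_mem hx), ?_⟩
  have := hW.conj_mem _ hgW (QuotientGroup.mk ⟨x, hx⟩)
  exact this

/-- the action of a subgroup normalizing `X` and `Y` on `X/Y` -/
noncomputable def actHom (Q : Subgroup G) (hQX : Q ≤ normalizer (X : Set G))
    (hQY : Q ≤ normalizer (Y : Set G)) : ↥Q →* MulAut (↥X ⧸ Y.subgroupOf X) :=
  MonoidHom.mk' (fun u => quotAut Y X u.1 (hQX u.2) (hQY u.2)) (by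
    intro u w
    ext v
    obtain ⟨x, rfl⟩ := QuotientGroup.mk_surjective v
    rw [MulAut.mul_apply, quotAut_mk, quotAut_mk, quotAut_mk]
    congr 1
    apply Subtype.ext
    simp [conjAut_apply_coe, mul_assoc])

theorem actHom_mk (Q : Subgroup G) (hQX : Q ≤ normalizer (X : Set G))
    (hQY : Q ≤ normalizer (Y : Set G)) (u : ↥Q) (x : ↥X) :
    actHom Y X Q hQX hQY u (QuotientGroup.mk x) =
      QuotientGroup.mk (conjAut X u.1 (hQX u.2) x) :=
  quotAut_mk Y X u.1 (hQX u.2) (hQY u.2) x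

theorem le_normalizer_pre_of_invariant (Q : Subgroup G) (hQX : Q ≤ normalizer (X : Set G))
    (hQY : Q ≤ normalizer (Y : Set G)) (W : Subgroup (↥X ⧸ Y.subgroupOf X))
    (hinv : ∀ u : ↥Q, ∀ w ∈ W, actHom Y X Q hQX hQY u w ∈ W) :
    Q ≤ normalizer (pre Y X W : Set G) := by
  apply le_normalizer_of_conj_mem
  intro u hu g hg
  obtain ⟨hgX, hgW⟩ := (mem_pre Y X).1 hg
  rw [mem_pre]
  have hconjX : u * g * u⁻¹ ∈ X := (mem_normalizer_iff.1 (hQX hu) g).1 hgX
  refine ⟨hconjX, ?_⟩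
  have h1 := hinv ⟨u, hu⟩ _ hgW
  rw [actHom_mk] at h1
  exact h1

end quot

/-- **Main theorem** (S2277 without the hypothesis `NP = G`). -/
theorem main [Finite G] (p : ℕ) [hp : Fact p.Prime] (hp3 : 3 ≤ p) (P : Sylow p G)
    (N : Subgroup G) [N.Normal] (hN : (Nat.card N).Coprime p)
    (C D : Set G) (hC : closure C = (P : Subgroup G)) (hD : closure D = (P : Subgroup G))
    (h : ∀ x ∈ N, ∀ c ∈ C, ∀ d ∈ D, IsPGroup p ↥(closure ({x * c * x⁻¹, d} : Set G))) :
    (P : Subgroup G) ≤ centralizer (N : Set G) := by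
  by_contra hcon
  -- a minimal non-centralized invariant subgroup
  obtain ⟨X, -, ⟨⟨hXN, hPX, hXnc⟩, hXmin⟩⟩ := Finite.exists_le_minimal
    (p := fun X : Subgroup G => X ≤ N ∧ (P : Subgroup G) ≤ normalizer (X : Set G) ∧
      ¬ (P : Subgroup G) ≤ centralizer (X : Set G)) (a := N)
    ⟨le_rfl, by rw [normalizer_eq_top]; exact le_top, hcon⟩
  have hmin : ∀ Z : Subgroup G, Z ≤ X → Z ≠ X → (P : Subgroup G) ≤ normalizer (Z : Set G) →
      (P : Subgroup G) ≤ centralizer (Z : Set G) := by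
    intro Z hZX hZne hPZ
    by_contra hZc
    exact hZne (le_antisymm hZX (hXmin ⟨hZX.trans hXN, hPZ, hZc⟩ hZX))
  have hpX : ¬ p ∣ Nat.card X := by
    intro hdvd
    have h1 : Nat.card X ∣ Nat.card N := Subgroup.card_dvd_of_le hXN
    exact (Nat.Prime.coprime_iff_not_dvd hp.out).1 hN.symm (hdvd.trans h1)
  -- `X` is solvable (indeed a `q`-group)
  have hsolv : Group.IsSolvable X := by
    by_contra hns
    apply hXnc
    rw [Subgroup.le_centralizer_iff]
    have hK0 : X ⊓ centralizer ((P : Subgroup G) : Set G) ≤ X := inf_le_left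
    have hall : X ≤ X ⊓ centralizer ((P : Subgroup G) : Set G) := by
      apply Helper48.le_of_forall_sylow_le hK0
      intro q hq
      haveI := hq
      obtain ⟨S, hS⟩ := Helper48.exists_invariant_sylow X (P : Subgroup G) hPX P.isPGroup' hpX q
      refine ⟨S, ?_⟩
      have hZX : (S : Subgroup X).map X.subtype ≤ X := Subgroup.map_subtype_le _
      have hPZ : (P : Subgroup G) ≤ normalizer (((S : Subgroup X).map X.subtype : Subgroup G) : Set G) := by
        apply le_normalizer_of_conj_mem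
        rintro a ha _ ⟨s, hs, rfl⟩
        have hx : a * (s : G) * a⁻¹ ∈ X := (mem_normalizer_iff.1 (hPX ha) s).1 s.2
        exact ⟨⟨a * s * a⁻¹, hx⟩, hS a ha s hs hx, rfl⟩
      have hZne : (S : Subgroup X).map X.subtype ≠ X := by
        intro hZeq
        apply hns
        have hqX : IsPGroup q X := by
          intro x
          have hxZ : (x : G) ∈ (S : Subgroup X).map X.subtype := by rw [hZeq]; exact x.2
          obtain ⟨s, hs, hsx⟩ := hxZ
          have hsx' : s = x := Subtype.ext hsx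
          obtain ⟨k, hk⟩ := S.isPGroup' ⟨s, hs⟩
          refine ⟨k, ?_⟩
          rw [← hsx']
          have := congrArg Subtype.val hk
          simpa using this
        haveI := hqX.isNilpotent
        infer_instance
      have hcent := hmin _ hZX hZne hPZ
      rw [Subgroup.le_centralizer_iff] at hcent
      exact le_inf hZX hcent
    exact hall.trans inf_le_right
  -- `X ≠ 1`
  have hXbot : X ≠ ⊥ := by
    intro hX
    apply hXnc
    rw [hX]
    intro u _
    rw [mem_centralizer_iff]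
    intro g hg
    rw [SetLike.mem_coe, Subgroup.mem_bot] at hg
    rw [hg]
    simp
  -- a maximal invariant normal subgroup `Y` of `X`
  obtain ⟨Y, -, ⟨⟨hYX, hYne, hXY, hPY⟩, hYmax⟩⟩ := Finite.exists_le_maximal
    (p := fun Y : Subgroup G => Y ≤ X ∧ Y ≠ X ∧ X ≤ normalizer (Y : Set G) ∧
      (P : Subgroup G) ≤ normalizer (Y : Set G)) (a := ⊥)
    ⟨bot_le, fun h => hXbot h.symm, by rw [normalizer_eq_top]; exact le_top,
      by rw [normalizer_eq_top]; exact le_top⟩
  have hmax : ∀ Z : Subgroup G, Y ≤ Z → Z ≤ X → Z ≠ X → X ≤ normalizer (Z : Set G) →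
      (P : Subgroup G) ≤ normalizer (Z : Set G) → Z ≤ Y := by
    intro Z hYZ hZX hZne hXZ hPZ
    exact hYmax ⟨hZX, hZne, hXZ, hPZ⟩ hYZ
  haveI hn : (Y.subgroupOf X).Normal := (normal_subgroupOf_iff_le_normalizer hYX).2 hXY
  have hPcY : (P : Subgroup G) ≤ centralizer (Y : Set G) := hmin Y hYX hYne hPY
  -- the quotient and the action
  haveI hVnt : Nontrivial (↥X ⧸ Y.subgroupOf X) := by
    rw [QuotientGroup.nontrivial_iff]
    intro htop
    rw [Subgroup.subgroupOf_eq_top] at htop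
    exact hYne (le_antisymm hYX htop)
  haveI := hsolv
  -- `V` is abelian
  have hVcomm : ∀ a b : ↥X ⧸ Y.subgroupOf X, a * b = b * a := by
    have hKlt : _root_.commutator (↥X ⧸ Y.subgroupOf X) < ⊤ :=
      Group.IsSolvable.commutator_lt_top_of_nontrivial _
    have hKchar : (_root_.commutator (↥X ⧸ Y.subgroupOf X)).Characteristic := by
      rw [_root_.commutator_def]; infer_instance
    haveI hKn : (_root_.commutator (↥X ⧸ Y.subgroupOf X)).Normal := inferInstance
    have hpe : pre Y X (_root_.commutator (↥X ⧸ Y.subgroupOf X)) ≠ X := by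
      intro hpe
      have := eq_top_of_pre_eq Y X hpe
      exact (ne_of_lt hKlt) this
    have hinv : ∀ u : ↥(P : Subgroup G), ∀ w ∈ _root_.commutator (↥X ⧸ Y.subgroupOf X),
        actHom Y X (P : Subgroup G) hPX hPY u w ∈ _root_.commutator (↥X ⧸ Y.subgroupOf X) := by
      intro u w hw
      have h1 := Subgroup.characteristic_iff_map_eq.1 hKchar (actHom Y X (P : Subgroup G) hPX hPY u)
      rw [← h1]
      exact Subgroup.mem_map_of_mem _ hw
    have hZ := hmax _ (le_pre Y X hYX _) (pre_le Y X _) hpe (le_normalizer_pre Y X _)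
      (le_normalizer_pre_of_invariant Y X (P : Subgroup G) hPX hPY _ hinv)
    have hKbot := eq_bot_of_pre_le Y X hZ
    intro a b
    rw [← commutatorElement_eq_one_iff_mul_comm]
    have h2 := Subgroup.commutator_mem_commutator (Subgroup.mem_top a) (Subgroup.mem_top b)
    rw [← _root_.commutator_def, hKbot] at h2
    exact Subgroup.mem_bot.1 h2
  -- irreducibility
  have hirr : ∀ U : Subgroup (↥X ⧸ Y.subgroupOf X),
      (∀ u : ↥(P : Subgroup G), ∀ w ∈ U, actHom Y X (P : Subgroup G) hPX hPY u w ∈ U) →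
      U = ⊥ ∨ U = ⊤ := by
    intro U hU
    haveI : U.Normal := ⟨fun n hn g => by
      rw [hVcomm g n, mul_inv_cancel_right]; exact hn⟩
    by_cases hpe : pre Y X U = X
    · right
      exact eq_top_of_pre_eq Y X hpe
    · left
      exact eq_bot_of_pre_le Y X (hmax _ (le_pre Y X hYX _) (pre_le Y X _) hpe
        (le_normalizer_pre Y X _) (le_normalizer_pre_of_invariant Y X (P : Subgroup G) hPX hPY _ hU))
  -- the decomposition hypothesis
  have hstar : ∀ c ∈ (Subtype.val : ↥(P : Subgroup G) → G) ⁻¹' C,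
      ∀ d ∈ (Subtype.val : ↥(P : Subgroup G) → G) ⁻¹' D, ∀ v : ↥X ⧸ Y.subgroupOf X,
      ∃ a b : ↥X ⧸ Y.subgroupOf X, v = a * b ∧
        actHom Y X (P : Subgroup G) hPX hPY c a = a ∧
        actHom Y X (P : Subgroup G) hPX hPY d b = b := by
    intro c hc d hd v
    obtain ⟨x, rfl⟩ := QuotientGroup.mk_surjective v
    obtain ⟨y, hyX, w, hwX, hxyw, hyd, hwc⟩ := exists_mul_of_isPGroup P N hN X hXN hPX c.2 d.2 x.2
      (h x.1 (hXN x.2) c.1 hc d.1 hd)
    refine ⟨QuotientGroup.mk ⟨w, hwX⟩, QuotientGroup.mk ⟨y, hyX⟩, ?_, ?_, ?_⟩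
    · rw [hVcomm, ← QuotientGroup.mk_mul]
      congr 1
      exact Subtype.ext hxyw
    · rw [actHom_mk]
      congr 1
      apply Subtype.ext
      rw [conjAut_apply_coe]
      show (c : G) * w * (c : G)⁻¹ = w
      rw [← hwc, mul_inv_cancel_right]
    · rw [actHom_mk]
      congr 1
      apply Subtype.ext
      rw [conjAut_apply_coe]
      show (d : G) * y * (d : G)⁻¹ = y
      rw [← hyd, mul_inv_cancel_right]
  have hcopV : (Nat.card (↥X ⧸ Y.subgroupOf X)).Coprime p := by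
    have h1 : Nat.card (↥X ⧸ Y.subgroupOf X) ∣ Nat.card X := Subgroup.card_quotient_dvd_card _
    have h2 : Nat.card X ∣ Nat.card N := Subgroup.card_dvd_of_le hXN
    exact Nat.Coprime.coprime_dvd_left (h1.trans h2) hN
  have hall := core3 hVcomm p hp3 P.isPGroup' hcopV (actHom Y X (P : Subgroup G) hPX hPY) hirr
    _ _ (closure_preimage_eq_top hC) (closure_preimage_eq_top hD) hstar
  -- conclusion: `P` centralizes `X`
  apply hXnc
  intro u hu
  rw [mem_centralizer_iff]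
  intro x hx
  have h1 : actHom Y X (P : Subgroup G) hPX hPY ⟨u, hu⟩ (QuotientGroup.mk ⟨x, hx⟩) =
      QuotientGroup.mk ⟨x, hx⟩ := by
    rw [hall]; rfl
  have h2 : u * x * u⁻¹ * x⁻¹ ∈ Y := (quotAut_mk_eq_iff Y X u (hPX hu) (hPY hu) ⟨x, hx⟩).1 h1
  have hyu : u * (u * x * u⁻¹ * x⁻¹) = (u * x * u⁻¹ * x⁻¹) * u :=
    (mem_centralizer_iff.1 (hPcY hu) _ h2).symm
  have hcop : (orderOf (u * x * u⁻¹ * x⁻¹)).Coprime (orderOf u) := by
    have h3 : orderOf (u * x * u⁻¹ * x⁻¹) ∣ Nat.card N :=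
      Subgroup.orderOf_dvd_natCard N (hXN (hYX h2))
    obtain ⟨k, hk⟩ := (IsPGroup.iff_orderOf.1 P.isPGroup') ⟨u, hu⟩
    rw [Subgroup.orderOf_mk] at hk
    rw [hk]
    exact Nat.Coprime.pow_right k (Nat.Coprime.coprime_dvd_left h3 hN)
  have hy1 : u * x * u⁻¹ * x⁻¹ = 1 :=
    eq_one_of_conj_eq_mul (u := u) (x := x) (y := u * x * u⁻¹ * x⁻¹) (by group) hyu hcop
  calc x * u = (u * x * u⁻¹ * x⁻¹)⁻¹ * (u * x) := by group
    _ = u * x := by rw [hy1]; simp

end Cfsg.Agent.Helper72.PComp
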