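import Mathlib
import Cfsg.Prelude.Def_LocalStructure
import Cfsg.Agent.Helper41.PSL2Klein

/-!
# Piece (EX-2) of S3875 (helper25's plan, board #6129): `PSL₂(p)`, `p` odd, has order
`p (p² - 1) / 2` and is not `p`-closed
-/

set_option autoImplicit false

namespace Cfsg.Agent.Helper72.PSL2NPC

open Matrix

variable {p : ℕ} [Fact p.Prime]

/-- upper unitriangular -/
def upper (t : ZMod p) : SpecialLinearGroup (Fin 2) (ZMod p) :=
  ⟨!![1, t; 0, 1], by simp [Matrix.det_fin_two]⟩

/-- lower unitriangular -/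
def lower (t : ZMod p) : SpecialLinearGroup (Fin 2) (ZMod p) :=
  ⟨!![1, 0; t, 1], by simp [Matrix.det_fin_two]⟩

/-- the Weyl element -/
def weyl : SpecialLinearGroup (Fin 2) (ZMod p) :=
  ⟨!![0, 1; -1, 0], by simp [Matrix.det_fin_two]⟩

theorem upper_zero : upper (0 : ZMod p) = 1 := by
  ext i j
  fin_cases i <;> fin_cases j <;> simp [upper]

theorem lower_zero : lower (0 : ZMod p) = 1 := by
  ext i j
  fin_cases i <;> fin_cases j <;> simp [lower]

theorem upper_mul (s t : ZMod p) : upper s * upper t = upper (s + t) := by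
  apply Subtype.ext
  show (!![1, s; 0, 1] * !![1, t; 0, 1] : Matrix (Fin 2) (Fin 2) (ZMod p)) = !![1, s + t; 0, 1]
  rw [Matrix.mul_fin_two]
  simp [add_comm]

theorem lower_mul (s t : ZMod p) : lower s * lower t = lower (s + t) := by
  apply Subtype.ext
  show (!![1, 0; s, 1] * !![1, 0; t, 1] : Matrix (Fin 2) (Fin 2) (ZMod p)) = !![1, 0; s + t, 1]
  rw [Matrix.mul_fin_two]
  simp

theorem upper_pow (t : ZMod p) (n : ℕ) : upper t ^ n = upper (n • t) := by
  induction n with
  | zero => simp [upper_zero]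
  | succ n ih => rw [pow_succ, ih, upper_mul, succ_nsmul]

theorem lower_pow (t : ZMod p) (n : ℕ) : lower t ^ n = lower (n • t) := by
  induction n with
  | zero => simp [lower_zero]
  | succ n ih => rw [pow_succ, ih, lower_mul, succ_nsmul]

theorem upper_pow_p (t : ZMod p) : upper t ^ p = 1 := by
  rw [upper_pow, nsmul_eq_mul, CharP.cast_eq_zero, zero_mul, upper_zero]

theorem lower_pow_p (t : ZMod p) : lower t ^ p = 1 := by
  rw [lower_pow, nsmul_eq_mul, CharP.cast_eq_zero, zero_mul, lower_zero]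

theorem weyl_eq : upper (1 : ZMod p) * lower (-1) * upper 1 = weyl := by
  apply Subtype.ext
  show (!![1, 1; 0, 1] * !![1, 0; -1, 1] * !![1, 1; 0, 1] : Matrix (Fin 2) (Fin 2) (ZMod p)) =
    !![0, 1; -1, 0]
  rw [Matrix.mul_fin_two, Matrix.mul_fin_two]
  simp

theorem weyl_sq_mem_center : (weyl : SpecialLinearGroup (Fin 2) (ZMod p)) * weyl ∈
    Subgroup.center (SpecialLinearGroup (Fin 2) (ZMod p)) := by
  rw [Cfsg.Agent.Helper41.sl2_mem_center_iff]
  refine ⟨-1, by simp, ?_⟩
  show (!![0, 1; -1, 0] * !![0, 1; -1, 0] : Matrix (Fin 2) (Fin 2) (ZMod p)) =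
    Matrix.scalar (Fin 2) (-1)
  rw [Matrix.mul_fin_two]
  ext i j
  fin_cases i <;> fin_cases j <;> simp

theorem weyl_not_mem_center : (weyl : SpecialLinearGroup (Fin 2) (ZMod p)) ∉
    Subgroup.center (SpecialLinearGroup (Fin 2) (ZMod p)) := by
  rw [Cfsg.Agent.Helper41.sl2_mem_center_iff]
  rintro ⟨r, -, hr⟩
  have := congrFun (congrFun hr 0) 1
  simp [weyl] at this

local notation "PSL2p" => Matrix.ProjectiveSpecialLinearGroup (Fin 2) (ZMod p)

theorem card_psl2 (hp : p ≠ 2) : Nat.card PSL2p = p * (p ^ 2 - 1) / 2 := by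
  have hpr : p.Prime := Fact.out
  have hodd : Odd (Fintype.card (ZMod p)) := by
    rw [ZMod.card]
    exact hpr.odd_of_ne_two hp
  have h := Cfsg.Agent.Helper41.two_mul_card_PSL2 (F := ZMod p) hodd
  rw [ZMod.card] at h
  omega

/-- In a group with a normal Sylow `p`-subgroup `P`, every element of order dividing `p` is in `P`. -/
theorem mem_of_normal_sylow {H : Type*} [Group H] [Finite H] (P : Sylow p H)
    (hP : (P : Subgroup H).Normal) {g : H} (hg : g ^ p = 1) : g ∈ (P : Subgroup H) := by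
  classical
  have hZ : IsPGroup p (Subgroup.zpowers g) := by
    apply IsPGroup.of_card (n := if g = 1 then 0 else 1)
    rw [Nat.card_zpowers]
    split_ifs with h1
    · rw [h1, orderOf_one, pow_zero]
    · rw [pow_one]
      exact orderOf_eq_prime hg h1
  obtain ⟨Q, hQ⟩ := hZ.exists_le_sylow
  have huniq : Unique (Sylow p H) := Sylow.unique_of_normal P hP
  have : Q = P := Subsingleton.elim _ _
  rw [← this]
  exact hQ (Subgroup.mem_zpowers g)

theorem exists_psl2_aux (hp : p ≠ 2) :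
    ∃ (H : Type) (_ : Group H) (_ : Finite H),
      Nat.card H = p * (p ^ 2 - 1) / 2 ∧ ¬ Cfsg.IsPClosed p H := by
  have hpr : p.Prime := Fact.out
  refine ⟨PSL2p, inferInstance, inferInstance, card_psl2 hp, ?_⟩
  intro hclosed
  obtain ⟨P⟩ : Nonempty (Sylow p PSL2p) := inferInstance
  have hPn := hclosed P
  let mk : SpecialLinearGroup (Fin 2) (ZMod p) →* PSL2p :=
    QuotientGroup.mk' (Subgroup.center (SpecialLinearGroup (Fin 2) (ZMod p)))
  have hu : mk (upper 1) ∈ (P : Subgroup PSL2p) := by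
    apply mem_of_normal_sylow P hPn
    rw [← map_pow, upper_pow_p, map_one]
  have hl : mk (lower (-1)) ∈ (P : Subgroup PSL2p) := by
    apply mem_of_normal_sylow P hPn
    rw [← map_pow, lower_pow_p, map_one]
  have hw : mk weyl ∈ (P : Subgroup PSL2p) := by
    rw [← weyl_eq, map_mul, map_mul]
    exact Subgroup.mul_mem _ (Subgroup.mul_mem _ hu hl) hu
  have hw2 : mk weyl * mk weyl = 1 := by
    rw [← map_mul]
    exact (QuotientGroup.eq_one_iff _).mpr weyl_sq_mem_center
  have hw1 : mk weyl ≠ 1 := by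
    intro h
    exact weyl_not_mem_center ((QuotientGroup.eq_one_iff _).mp h)
  have hord : orderOf (mk weyl) = 2 := by
    apply orderOf_eq_prime
    · rw [pow_two]; exact hw2
    · exact hw1
  -- but `mk weyl` lies in a p-group with p odd
  obtain ⟨k, hk⟩ := P.2 ⟨mk weyl, hw⟩
  have hk' : (mk weyl) ^ p ^ k = 1 := by
    have := congrArg Subtype.val hk
    simpa using this
  have hdvd : 2 ∣ p ^ k := hord ▸ orderOf_dvd_of_pow_eq_one hk'
  have : 2 ∣ p := Nat.prime_two.dvd_of_dvd_pow hdvd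
  exact hp ((Nat.prime_dvd_prime_iff_eq Nat.prime_two hpr).mp this).symm

/-- (EX-2) -/
theorem exists_psl2 (p : ℕ) [Fact p.Prime] (hp : p ≠ 2) :
    ∃ (H : Type) (_ : Group H) (_ : Finite H),
      Nat.card H = p * (p ^ 2 - 1) / 2 ∧ ¬ Cfsg.IsPClosed p H :=
  exists_psl2_aux hp

end Cfsg.Agent.Helper72.PSL2NPC
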