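import Mathlib
import Cfsg.Agent.Helper90.PronBU1.Defs

/-!
# S2225/S2226 block BU1 (helper90 #15500), leaf (A1): `q ≡ 1 (mod 4)`
-/

set_option autoImplicit false

namespace Cfsg.Agent.Helper72.Pron

open Matrix Cfsg.Agent.Helper99.Pron Cfsg.Agent.Helper90.Pron

variable {F : Type*} [Field F] [Fintype F] {q : ℕ}

/-- `q` is odd when `2 ≠ 0` in the field with `q ^ 2` elements -/
theorem bu1_q_odd (hF : Fintype.card F = q ^ 2) (h2 : (2 : F) ≠ 0) : q % 2 = 1 := by
  by_contra hq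
  have hq0 : q % 2 = 0 := by omega
  have hc : Fintype.card F % 2 = 0 := by
    rw [hF, Nat.pow_mod, hq0]
  have hchar : ringChar F = 2 := FiniteField.even_card_iff_char_two.mpr hc
  have : ((2 : ℕ) : F) = 0 := by
    rw [← hchar]
    exact ringChar.Nat.cast_ringChar
  exact h2 (by exact_mod_cast this)

/-- a square root of `-1` in the field with `q ^ 2` elements, `q` odd -/
theorem bu1_exists_sqrt_neg_one (hF : Fintype.card F = q ^ 2) (hq : q % 2 = 1) :
    ∃ i : F, i * i = -1 := by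
  have h4 : Fintype.card F % 4 ≠ 3 := by
    rw [hF, Nat.pow_mod]
    have h : q % 4 = 1 ∨ q % 4 = 3 := by omega
    rcases h with h | h <;> rw [h] <;> norm_num
  obtain ⟨i, hi⟩ := FiniteField.isSquare_neg_one_iff.mpr h4
  exact ⟨i, hi.symm⟩

/-- (A1) `q ≡ 1 (mod 4)` -/
theorem q_mod_four (hF : Fintype.card F = q ^ 2) (h2 : (2 : F) ≠ 0)
    (hns : ¬ ∃ i : F, i * i = -1 ∧ i ^ (q + 1) = 1) : q % 4 = 1 := by
  have hodd := bu1_q_odd hF h2
  obtain ⟨i, hi⟩ := bu1_exists_sqrt_neg_one hF hodd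
  by_contra hq
  have hq3 : q % 4 = 3 := by omega
  apply hns
  refine ⟨i, hi, ?_⟩
  have h4 : i ^ 4 = 1 := by
    have : i ^ 4 = (i * i) * (i * i) := by ring
    rw [this, hi]
    ring
  obtain ⟨k, hk⟩ : 4 ∣ q + 1 := by omega
  rw [hk, pow_mul, h4, one_pow]

end Cfsg.Agent.Helper72.Pron
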