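import Mathlib
import Cfsg.Agent.Helper90.PronBU1.Defs
import Cfsg.Agent.Helper72.PronBU1_A1

/-!
# S2225/S2226 block BU1 (helper90 #15500), leaf (A2): a square root `i` of `-1` with `i ^ q = i`
-/

set_option autoImplicit false

namespace Cfsg.Agent.Helper72.Pron

open Matrix Cfsg.Agent.Helper99.Pron Cfsg.Agent.Helper90.Pron

variable {F : Type*} [Field F] [Fintype F] {q : ℕ}

/-- (A2) a square root `i` of `-1` with `fr q i = i⁻¹` -/
theorem exists_i (hF : Fintype.card F = q ^ 2) (h2 : (2 : F) ≠ 0)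
    (hns : ¬ ∃ i : F, i * i = -1 ∧ i ^ (q + 1) = 1) :
    ∃ i : Fˣ, (i : F) * (i : F) = -1 ∧ fr q i = i⁻¹ := by
  have hq4 := q_mod_four hF h2 hns
  obtain ⟨i, hi⟩ := bu1_exists_sqrt_neg_one hF (by omega : q % 2 = 1)
  have hi0 : i ≠ 0 := by
    rintro rfl
    rw [mul_zero] at hi
    exact one_ne_zero (neg_eq_zero.mp hi.symm)
  refine ⟨Units.mk0 i hi0, by rw [Units.val_mk0]; exact hi, ?_⟩
  have h4 : (Units.mk0 i hi0) ^ 4 = 1 := by
    apply Units.ext
    rw [Units.val_pow_eq_pow_val, Units.val_mk0, Units.val_one]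
    have : i ^ 4 = (i * i) * (i * i) := by ring
    rw [this, hi]
    ring
  rw [fr_apply]
  obtain ⟨k, hk⟩ : ∃ k, q = 4 * k + 1 := ⟨q / 4, by omega⟩
  rw [hk, pow_succ, pow_mul, inv_pow, h4, inv_one, one_pow, one_mul]

end Cfsg.Agent.Helper72.Pron
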