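import Mathlib
import Cfsg.Agent.Helper90.PronBU1.Defs

/-!
# S2225/S2226 block BU1 (helper90 #15500), leaf (A3): `(l * fr q l) ^ 2 = 1` for `l` of `2`-power order
-/

set_option autoImplicit false

namespace Cfsg.Agent.Helper72.Pron

open Matrix Cfsg.Agent.Helper99.Pron Cfsg.Agent.Helper90.Pron

variable {F : Type*} [Field F] [Fintype F] {q : ℕ}

/-- (A3) `y = l * fr q l = l ^ (1 - q)` has `y ^ 2 = 1` -/
theorem lam_sq (hF : Fintype.card F = q ^ 2) (hq4 : q % 4 = 1) (l : Fˣ) (hl : l ∈ Lam2 F) :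
    (l * fr q l) ^ 2 = 1 := by
  classical
  have hcard : l ^ (q ^ 2 - 1) = 1 := by
    have h := pow_card_eq_one (G := Fˣ) (x := l)
    rwa [Fintype.card_units, hF] at h
  have hq1 : 1 ≤ q := by omega
  -- `y ^ (q + 1) = 1`
  have hy1 : (l * fr q l) ^ (q + 1) = 1 := by
    rw [fr_apply, mul_pow, ← pow_mul, inv_pow, mul_inv_eq_one]
    have e : q * (q + 1) = (q + 1) + (q ^ 2 - 1) := by
      have h1 : 1 ≤ q ^ 2 := Nat.one_le_pow _ _ hq1
      have h2 : q * (q + 1) = q ^ 2 + q := by ring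
      omega
    rw [e, pow_add l (q + 1), hcard, mul_one]
  -- `y` has `2`-power order
  obtain ⟨k, hk⟩ := (Lam2 F).mul_mem hl (fr_mem_Lam2 q hl)
  have hg : (l * fr q l) ^ Nat.gcd (q + 1) (2 ^ k) = 1 := pow_gcd_eq_one.mpr ⟨hy1, hk⟩
  obtain ⟨j, hjk, hj⟩ := (Nat.dvd_prime_pow Nat.prime_two).1 (Nat.gcd_dvd_right (q + 1) (2 ^ k))
  have hj1 : j ≤ 1 := by
    by_contra hcon
    have h2j : 2 ≤ j := by omega
    have h4 : 4 ∣ 2 ^ j := by
      have : (4 : ℕ) = 2 ^ 2 := by norm_num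
      rw [this]
      exact pow_dvd_pow 2 h2j
    have h4' : 4 ∣ q + 1 := by
      rw [← hj] at h4
      exact dvd_trans h4 (Nat.gcd_dvd_left _ _)
    omega
  rw [hj] at hg
  have hdvd : 2 ^ j ∣ 2 := by
    have : (2 : ℕ) = 2 ^ 1 := by norm_num
    rw [this]
    rw [← this]
    exact (pow_dvd_pow 2 hj1).trans (by norm_num)
  obtain ⟨c, hc⟩ := hdvd
  rw [hc, pow_mul, hg, one_pow]

end Cfsg.Agent.Helper72.Pron
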