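import Mathlib
import Cfsg.Agent.Helper90.PronBU1.Defs

/-!
# S2225/S2226 block BU1 (helper90 #15500), leaf (A7): `x ↦ x ^ q` is a ring endomorphism
-/

set_option autoImplicit false

namespace Cfsg.Agent.Helper72.Pron

open Matrix Cfsg.Agent.Helper99.Pron Cfsg.Agent.Helper90.Pron

variable {F : Type*} [Field F] [Fintype F] {q : ℕ}

/-- (A7) `x ↦ x ^ q` is a ring endomorphism -/
theorem exists_frob (hF : Fintype.card F = q ^ 2) : ∃ σ : F →+* F, ∀ x, σ x = x ^ q := by
  obtain ⟨p, hp⟩ := CharP.exists F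
  obtain ⟨n, hpp, hn⟩ := FiniteField.card F p
  have hq : q ∣ p ^ (n : ℕ) := by
    rw [← hn, hF]
    exact dvd_pow_self q (by norm_num)
  obtain ⟨m, -, hm⟩ := (Nat.dvd_prime_pow hpp).1 hq
  haveI : Fact p.Prime := ⟨hpp⟩
  haveI : ExpChar F p := ExpChar.prime hpp
  exact ⟨iterateFrobenius F p m, fun x => by rw [iterateFrobenius_def, hm]⟩

end Cfsg.Agent.Helper72.Pron
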