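import Mathlib
import Cfsg.Agent.Helper90.PronBU1.Defs

/-!
# S2225/S2226 block BU1 (helper90 #15500), leaf (C2): a base change turns `UJ` into `Uq`
-/

set_option autoImplicit false

namespace Cfsg.Agent.Helper72.Pron

open Matrix Cfsg.Agent.Helper99.Pron Cfsg.Agent.Helper90.Pron

variable {F : Type*} [Field F]

/-- (C2) conjugating by a base change `g` with `gᵀ g^(q) = Jm` turns `UJ` into `Uq` -/
theorem Uq_conj {q : ℕ} (σ : F →+* F) (hσ : ∀ x, σ x = x ^ q) (g a : GL (Fin 2) F)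
    (hg : (g : Matrix (Fin 2) (Fin 2) F)ᵀ * (g : Matrix (Fin 2) (Fin 2) F).map (· ^ q) = Jm)
    (ha : UJ q (a : Matrix (Fin 2) (Fin 2) F)) :
    Uq q ((g * a * g⁻¹ : GL (Fin 2) F) : Matrix (Fin 2) (Fin 2) F) := by
  have hfun : (fun x : F => x ^ q) = σ := funext (fun x => (hσ x).symm)
  unfold Uq
  unfold UJ at ha
  rw [hfun] at hg ha ⊢
  rw [Units.val_mul, Units.val_mul]
  set G : Matrix (Fin 2) (Fin 2) F := (g : Matrix (Fin 2) (Fin 2) F) with hG
  set A : Matrix (Fin 2) (Fin 2) F := (a : Matrix (Fin 2) (Fin 2) F) with hA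
  set Gi : Matrix (Fin 2) (Fin 2) F := ((g⁻¹ : GL (Fin 2) F) : Matrix (Fin 2) (Fin 2) F) with hGi
  have hGGi : G * Gi = 1 := by
    rw [hG, hGi, ← Units.val_mul, mul_inv_cancel, Units.val_one]
  rw [Matrix.map_mul, Matrix.map_mul, Matrix.transpose_mul, Matrix.transpose_mul]
  calc Giᵀ * (Aᵀ * Gᵀ) * (G.map σ * A.map σ * Gi.map σ)
      = Giᵀ * (Aᵀ * (Gᵀ * G.map σ) * A.map σ) * Gi.map σ := by
        simp only [Matrix.mul_assoc]
    _ = Giᵀ * (Gᵀ * G.map σ) * Gi.map σ := by rw [hg, ha]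
    _ = (G * Gi)ᵀ * (G * Gi).map σ := by
        rw [Matrix.map_mul, Matrix.transpose_mul]
        simp only [Matrix.mul_assoc]
    _ = 1 := by
        rw [hGGi, Matrix.transpose_one, Matrix.map_one σ σ.map_zero σ.map_one, Matrix.mul_one]

end Cfsg.Agent.Helper72.Pron
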