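import Mathlib
import Cfsg.Agent.Helper90.PronBU1.Defs

/-!
# S2225/S2226 block BU1 (helper90 #15500), leaf (M1): `P0` is a `2`-group
-/

set_option autoImplicit false

namespace Cfsg.Agent.Helper72.Pron

open Matrix Cfsg.Agent.Helper99.Pron Cfsg.Agent.Helper90.Pron

variable {F : Type*} [Field F] {q : ℕ} (hq : ∀ l : Fˣ, fr q (fr q l) = l)

/-- (M1) `P0` is a `2`-group -/
theorem P0_two (a : GL (Fin 2) F) (ha : a ∈ P0 q hq) : ∃ k : ℕ, a ^ (2 ^ k) = 1 := by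
  obtain ⟨l, ⟨k, hk⟩, h⟩ := mem_P0.mp ha
  have hm : (fr q l) ^ (2 ^ k) = 1 := by
    rw [fr_apply, ← pow_mul, mul_comm, pow_mul, inv_pow, hk, inv_one, one_pow]
  rcases h with rfl | rfl
  · exact ⟨k, by rw [dg_pow, hk, hm, dg_one]⟩
  · refine ⟨k + 1, ?_⟩
    rw [pow_succ, mul_comm, pow_mul, pow_two, ag_mul_ag, dg_pow, mul_pow, mul_pow, hk, hm, one_mul,
      dg_one]

end Cfsg.Agent.Helper72.Pron
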