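import Mathlib
import Cfsg.Agent.Helper90.PronBU1.Defs

/-!
# S2225/S2226 block BU1 (helper90 #15500), leaf (M10): the `2`-power scalars of norm one lie in `P0`
-/

set_option autoImplicit false

namespace Cfsg.Agent.Helper72.Pron

open Matrix Cfsg.Agent.Helper99.Pron Cfsg.Agent.Helper90.Pron

variable {F : Type*} [Field F] {q : ℕ} (hq : ∀ l : Fˣ, fr q (fr q l) = l)

/-- (M10) the `2`-power scalars of norm one: `l ^ (q + 1) = 1` gives `fr q l = l`, `sc l = dg l l` -/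
theorem P0_sc (l : Fˣ) (h1 : l ^ (q + 1) = 1) (hk : ∃ k : ℕ, l ^ (2 ^ k) = 1) :
    (sc l : GL (Fin 2) F) ∈ P0 q hq := by
  have hfr : fr q l = l := by
    rw [fr_apply, inv_pow, inv_eq_iff_eq_inv, eq_comm, inv_eq_iff_mul_eq_one, ← pow_succ']
    exact h1
  rw [sc_eq_dg]
  have h := dg_mem_P0 hq (l := l) hk
  rwa [hfr] at h

end Cfsg.Agent.Helper72.Pron
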