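import Mathlib
import Cfsg.Agent.Helper90.PronBU1.Defs

/-!
# S2225/S2226 block BU1 (helper90 #15500), leaf (M11): `P0` preserves the hyperbolic form
-/

set_option autoImplicit false

namespace Cfsg.Agent.Helper72.Pron

open Matrix Cfsg.Agent.Helper99.Pron Cfsg.Agent.Helper90.Pron

variable {F : Type*} [Field F] {q : ℕ} (hq : ∀ l : Fˣ, fr q (fr q l) = l)

/-- the form is preserved by `dg l m` and `ag l m` when `m * l ^ q = 1` and `l * m ^ q = 1` -/
theorem bu1_UJ_of (hq0 : q ≠ 0) (l m : F) (e1 : m * l ^ q = 1) (e2 : l * m ^ q = 1) :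
    UJ q (!![l, 0; 0, m] : Matrix (Fin 2) (Fin 2) F) ∧
      UJ q (!![0, l; m, 0] : Matrix (Fin 2) (Fin 2) F) := by
  have z : (0 : F) ^ q = 0 := zero_pow hq0
  unfold UJ Jm
  constructor
  · ext a b
    fin_cases a <;> fin_cases b <;>
      simp [Matrix.mul_apply, Fin.sum_univ_two, z, e1, e2]
  · ext a b
    fin_cases a <;> fin_cases b <;>
      simp [Matrix.mul_apply, Fin.sum_univ_two, z, e1, e2]

/-- (M11) `P0` preserves the hyperbolic form -/
theorem P0_UJ (hq0 : q ≠ 0) (a : GL (Fin 2) F) (ha : a ∈ P0 q hq) :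
    UJ q (a : Matrix (Fin 2) (Fin 2) F) := by
  obtain ⟨l, -, h⟩ := mem_P0.mp ha
  -- the two scalar identities
  have e1' : fr q l * l ^ q = 1 := by rw [fr_apply, inv_pow, inv_mul_cancel]
  have e2' : l * (fr q l) ^ q = 1 := by
    have h0 := hq l
    calc l * (fr q l) ^ q = fr q (fr q l) * (fr q l) ^ q := by rw [h0]
      _ = 1 := by rw [fr_apply (l := fr q l), inv_pow, inv_mul_cancel]
  obtain ⟨m, hm⟩ : ∃ m : Fˣ, fr q l = m := ⟨_, rfl⟩
  rw [hm] at e1' e2' h
  have e1 : (m : F) * (l : F) ^ q = 1 := by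
    have h' := congrArg (fun u : Fˣ => (u : F)) e1'
    simpa using h'
  have e2 : (l : F) * (m : F) ^ q = 1 := by
    have h' := congrArg (fun u : Fˣ => (u : F)) e2'
    simpa using h'
  obtain ⟨h1, h2⟩ := bu1_UJ_of hq0 (l : F) (m : F) e1 e2
  rcases h with rfl | rfl
  · rw [dg_val]; exact h1
  · rw [ag_val]; exact h2

end Cfsg.Agent.Helper72.Pron
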