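import Mathlib
import Cfsg.Agent.Helper90.PronBU1.Defs

/-!
# S2225/S2226 block BU1 (helper90 #15500), leaf (M3): intertwiners of diagonal matrices are monomial
-/

set_option autoImplicit false

namespace Cfsg.Agent.Helper72.Pron

open Matrix Cfsg.Agent.Helper99.Pron Cfsg.Agent.Helper90.Pron

variable {F : Type*} [Field F]

/-- (M3) an invertible matrix intertwining `diag(a, b)`, `a ≠ b`, with a diagonal matrix is monomial -/
theorem mono_of_intertwine (a b c d : Fˣ) (hab : a ≠ b) (x : GL (Fin 2) F)
    (h : x * dg a b = dg c d * x) : (∃ x1 x2 : Fˣ, x = dg x1 x2) ∨ (∃ x1 x2 : Fˣ, x = ag x1 x2) := by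
  have hdet : (x : Matrix (Fin 2) (Fin 2) F).det ≠ 0 :=
    ((Matrix.isUnit_iff_isUnit_det (x : Matrix (Fin 2) (Fin 2) F)).mp x.isUnit).ne_zero
  rw [Matrix.det_fin_two] at hdet
  have hab' : (a : F) ≠ (b : F) := fun e => hab (Units.ext e)
  have hM := congrArg (fun g : GL (Fin 2) F => (g : Matrix (Fin 2) (Fin 2) F)) h
  simp only [Units.val_mul, dg_val] at hM
  have e00 := congrFun (congrFun hM 0) 0
  have e01 := congrFun (congrFun hM 0) 1
  have e10 := congrFun (congrFun hM 1) 0
  have e11 := congrFun (congrFun hM 1) 1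
  simp [Matrix.mul_apply, Fin.sum_univ_two] at e00 e01 e10 e11
  -- `e00 : p a = c p`, `e01 : r b = c r`, `e10 : s a = d s`, `e11 : t b = d t`
  set p := (x : Matrix (Fin 2) (Fin 2) F) 0 0 with hp
  set r := (x : Matrix (Fin 2) (Fin 2) F) 0 1 with hr
  set s := (x : Matrix (Fin 2) (Fin 2) F) 1 0 with hs
  set t := (x : Matrix (Fin 2) (Fin 2) F) 1 1 with ht
  by_cases hp0 : p = 0
  · -- antidiagonal
    right
    have hrs : r * s ≠ 0 := by
      intro h0
      apply hdet
      rw [hp0, h0]
      ring
    have hr0 : r ≠ 0 := left_ne_zero_of_mul hrs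
    have hs0 : s ≠ 0 := right_ne_zero_of_mul hrs
    have hbc : (b : F) = c := by
      have : r * ((b : F) - c) = 0 := by rw [mul_sub, e01]; ring
      rcases mul_eq_zero.mp this with h1 | h1
      · exact absurd h1 hr0
      · exact sub_eq_zero.mp h1
    have had : (a : F) = d := by
      have : s * ((a : F) - d) = 0 := by rw [mul_sub, e10]; ring
      rcases mul_eq_zero.mp this with h1 | h1
      · exact absurd h1 hs0
      · exact sub_eq_zero.mp h1
    have ht0 : t = 0 := by
      have : t * ((b : F) - a) = 0 := by rw [mul_sub, e11, ← had]; ring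
      rcases mul_eq_zero.mp this with h1 | h1
      · exact h1
      · exact absurd (sub_eq_zero.mp h1).symm hab'
    refine ⟨Units.mk0 r hr0, Units.mk0 s hs0, ?_⟩
    apply Units.ext
    ext i j
    fin_cases i <;> fin_cases j <;> simp [ag_val, ← hp, ← hr, ← hs, ← ht, hp0, ht0]
  · -- diagonal
    left
    have hac : (a : F) = c := by
      have : p * ((a : F) - c) = 0 := by rw [mul_sub, e00]; ring
      rcases mul_eq_zero.mp this with h1 | h1
      · exact absurd h1 hp0
      · exact sub_eq_zero.mp h1
    have hr0 : r = 0 := by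
      have : r * ((b : F) - a) = 0 := by rw [mul_sub, e01, ← hac]; ring
      rcases mul_eq_zero.mp this with h1 | h1
      · exact h1
      · exact absurd (sub_eq_zero.mp h1).symm hab'
    have hpt : p * t ≠ 0 := by
      intro h0
      apply hdet
      rw [h0, hr0]
      ring
    have ht0 : t ≠ 0 := right_ne_zero_of_mul hpt
    have hbd : (b : F) = d := by
      have : t * ((b : F) - d) = 0 := by rw [mul_sub, e11]; ring
      rcases mul_eq_zero.mp this with h1 | h1
      · exact absurd h1 ht0
      · exact sub_eq_zero.mp h1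
    have hs0 : s = 0 := by
      have : s * ((a : F) - b) = 0 := by rw [mul_sub, e10, ← hbd]; ring
      rcases mul_eq_zero.mp this with h1 | h1
      · exact h1
      · exact absurd (sub_eq_zero.mp h1) hab'
    refine ⟨Units.mk0 p hp0, Units.mk0 t ht0, ?_⟩
    apply Units.ext
    ext i j
    fin_cases i <;> fin_cases j <;> simp [dg_val, ← hp, ← hr, ← hs, ← ht, hr0, hs0]

end Cfsg.Agent.Helper72.Pron
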