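import Mathlib
import Cfsg.Agent.Helper90.PronBU1.Defs

/-!
# S2225/S2226 block BU1 (helper90 #15500), leaf (M4): `neg1`
-/

set_option autoImplicit false

namespace Cfsg.Agent.Helper72.Pron

open Matrix Cfsg.Agent.Helper99.Pron Cfsg.Agent.Helper90.Pron

variable {F : Type*} [Field F] {q : ℕ} (hq : ∀ l : Fˣ, fr q (fr q l) = l)

/-- (M4) `neg1` (and `neg`): `c = dg i i⁻¹`, `c * c = diag(i², i⁻²) = -1`, `det c = 1` -/
theorem P0_neg1 (i : Fˣ) (hi : (i : F) * (i : F) = -1) (hfi : fr q i = i⁻¹) :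
    ∃ c ∈ P0 q hq, (c : Matrix (Fin 2) (Fin 2) F) * (c : Matrix (Fin 2) (Fin 2) F) = -1 ∧
      (c : Matrix (Fin 2) (Fin 2) F).det = 1 := by
  have hinv : ((i⁻¹ : Fˣ) : F) = -(i : F) := by
    apply Units.inv_eq_of_mul_eq_one_right
    rw [mul_neg, hi, neg_neg]
  have hL : i ∈ Lam2 F := by
    refine ⟨2, ?_⟩
    apply Units.ext
    rw [Units.val_pow_eq_pow_val, Units.val_one]
    have : (i : F) ^ 2 ^ 2 = ((i : F) * (i : F)) * ((i : F) * (i : F)) := by ring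
    rw [this, hi]
    ring
  refine ⟨dg i i⁻¹, ?_, ?_, ?_⟩
  · rw [← hfi]
    exact dg_mem_P0 hq hL
  · rw [dg_val, hinv]
    ext a b
    fin_cases a <;> fin_cases b <;> simp [Matrix.mul_apply, Fin.sum_univ_two, hi]
  · rw [det_dg, hinv, mul_neg, hi, neg_neg]

end Cfsg.Agent.Helper72.Pron
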