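import Mathlib
import Cfsg.Agent.Helper90.PronBU1.Defs
import Cfsg.Agent.Helper76.PronBU1_M2

/-!
# S2225/S2226 block BU1 (helper90 #15500), leaf (M5) `P0_comm` (from helper76's (M2) `comm_core`)
-/

set_option autoImplicit false

namespace Cfsg.Agent.Helper72.Pron

open Matrix Cfsg.Agent.Helper99.Pron Cfsg.Agent.Helper90.Pron

variable {F : Type*} [Field F] {q : ℕ} (hq : ∀ l : Fˣ, fr q (fr q l) = l)

/-- a square root of `-1` has `2`-power order and differs from its inverse -/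
theorem bu1_i_facts (h2 : (2 : F) ≠ 0) (i : Fˣ) (hi : (i : F) * (i : F) = -1) :
    i ∈ Lam2 F ∧ i ≠ i⁻¹ := by
  constructor
  · refine ⟨2, ?_⟩
    apply Units.ext
    rw [Units.val_pow_eq_pow_val, Units.val_one]
    have : (i : F) ^ 2 ^ 2 = ((i : F) * (i : F)) * ((i : F) * (i : F)) := by ring
    rw [this, hi]
    ring
  · intro h
    have h1 : i * i = 1 := by
      nth_rewrite 2 [h]
      exact mul_inv_cancel i
    have h3 : (i : F) * (i : F) = 1 := by
      have := congrArg (fun u : Fˣ => (u : F)) h1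
      simpa using this
    rw [hi] at h3
    apply h2
    have : (2 : F) = 1 - (-1) := by ring
    rw [this, h3]
    ring

/-- (M5) `comm`: (M2) with `dg i i⁻¹` (`i ≠ i⁻¹` as `i * i = -1 ≠ 1`) and `ag 1 1` -/
theorem P0_comm (h2 : (2 : F) ≠ 0) (i : Fˣ) (hi : (i : F) * (i : F) = -1) (hfi : fr q i = i⁻¹)
    (X : Matrix (Fin 2) (Fin 2) F)
    (hX : ∀ a ∈ P0 q hq, (a : Matrix (Fin 2) (Fin 2) F) * X = X * (a : Matrix (Fin 2) (Fin 2) F)) :
    ∃ c : F, X = c • 1 := by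
  obtain ⟨hL, hne⟩ := bu1_i_facts h2 i hi
  have hd : dg i i⁻¹ ∈ P0 q hq := by
    rw [← hfi]
    exact dg_mem_P0 hq hL
  exact Cfsg.Agent.Helper76.Pron.comm_core i i⁻¹ 1 1 hne X (hX _ hd) (hX _ (tau_mem_P0 hq))

end Cfsg.Agent.Helper72.Pron
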