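import Mathlib
import Cfsg.Agent.Helper90.PronBU1.Defs
import Cfsg.Agent.Helper76.PronBU1_M2
import Cfsg.Agent.Helper72.PronBU1_M5

/-!
# S2225/S2226 block BU1 (helper90 #15500), leaf (M6) `P0_comm6` (from helper76's (M2) `comm_core`)
-/

set_option autoImplicit false

namespace Cfsg.Agent.Helper72.Pron

open Matrix Cfsg.Agent.Helper99.Pron Cfsg.Agent.Helper90.Pron

variable {F : Type*} [Field F] {q : ℕ} (hq : ∀ l : Fˣ, fr q (fr q l) = l)

/-- (M6) `comm6`: (M2) with `dg i i⁻¹` (determinant `1 = (det 1) ^ 2`) and `ag l (fr q l)` where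
`l * fr q l = -1` (determinant `-(l * fr q l) = 1`) -/
theorem P0_comm6 (h2 : (2 : F) ≠ 0) (i : Fˣ) (hi : (i : F) * (i : F) = -1) (hfi : fr q i = i⁻¹)
    (l : Fˣ) (hl : l ∈ Lam2 F) (hl1 : ((l * fr q l : Fˣ) : F) = -1)
    (X : Matrix (Fin 2) (Fin 2) F)
    (hX : ∀ a ∈ P0 q hq, (∃ e ∈ P0 q hq, (a : Matrix (Fin 2) (Fin 2) F).det =
      (e : Matrix (Fin 2) (Fin 2) F).det ^ 2) →
      (a : Matrix (Fin 2) (Fin 2) F) * X = X * (a : Matrix (Fin 2) (Fin 2) F)) :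
    ∃ c : F, X = c • 1 := by
  obtain ⟨hL, hne⟩ := bu1_i_facts h2 i hi
  have hd : dg i i⁻¹ ∈ P0 q hq := by
    rw [← hfi]
    exact dg_mem_P0 hq hL
  have hone : ((1 : GL (Fin 2) F) : Matrix (Fin 2) (Fin 2) F).det ^ 2 = 1 := by
    rw [Units.val_one, det_one, one_pow]
  have h1 := hX _ hd ⟨1, (P0 q hq).one_mem, by
    rw [hone, det_dg, ← Units.val_mul, mul_inv_cancel, Units.val_one]⟩
  have h2' := hX _ (ag_mem_P0 hq hl) ⟨1, (P0 q hq).one_mem, by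
    rw [hone, det_ag, ← Units.val_mul, hl1, neg_neg]⟩
  exact Cfsg.Agent.Helper76.Pron.comm_core i i⁻¹ l (fr q l) hne X h1 h2'

end Cfsg.Agent.Helper72.Pron
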