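import Mathlib
import Cfsg.Agent.Helper77.Res.Defs
import Cfsg.Agent.Helper63.PGroup
import Cfsg.Agent.Helper79.BlkIDX
import Cfsg.Agent.Helper89.BlkRK

/-!
# S5289 swarm (architect helper77), piece (ALL2) `no_pearl_above` — helper72 (hedge)

Abstract version `ALL2_abs` inside the group `G = ↥T`, then the translation from the configuration in `Ω`.
-/

set_option autoImplicit false
set_option linter.unusedSectionVars false
set_option linter.unusedVariables false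

universe u

namespace Cfsg.Agent.Helper72.Res

open Subgroup Cfsg.Agent.Helper77.Res

section abs

variable {G : Type u} [Group G] [Finite G] {p : ℕ} [hp : Fact p.Prime]

/-- a subgroup of index `p` is generated by the smaller one and any element outside -/
theorem ALL2_sup_zpowers_eq {M N : Subgroup G} (hMN : M ≤ N) (hcard : Nat.card N = p * Nat.card M)
    {u : G} (huN : u ∈ N) (huM : u ∉ M) : M ⊔ zpowers u = N := by
  have hle : M ⊔ zpowers u ≤ N := sup_le hMN (zpowers_le.mpr huN)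
  apply eq_of_le_of_card_ge hle
  obtain ⟨m, hm⟩ := card_dvd_of_le (le_sup_left : M ≤ M ⊔ zpowers u)
  have hdvd := card_dvd_of_le hle
  rw [hm, hcard] at hdvd
  have hMpos : 0 < Nat.card M := Nat.card_pos
  have hmp : m ∣ p := by
    have h1 : Nat.card M * m ∣ Nat.card M * p := by rwa [mul_comm p] at hdvd
    exact Nat.dvd_of_mul_dvd_mul_left hMpos h1
  rcases (Nat.dvd_prime hp.out).mp hmp with h1 | hp'
  · exfalso
    have h2 : M = M ⊔ zpowers u := eq_of_le_of_card_ge le_sup_left (by rw [hm, h1, mul_one])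
    apply huM
    rw [h2]
    exact (le_sup_right : zpowers u ≤ M ⊔ zpowers u) (mem_zpowers u)
  · rw [hm, hp', hcard, mul_comm]

/-- generated by commuting elements, so commutative -/
theorem ALL2_comm_sup {M : Subgroup G} {u : G} (hM : ∀ a ∈ M, ∀ b ∈ M, a * b = b * a)
    (hu : ∀ a ∈ M, u * a = a * u) :
    ∀ a ∈ M ⊔ zpowers u, ∀ b ∈ M ⊔ zpowers u, a * b = b * a := by
  have h1 : ∀ b ∈ M ⊔ zpowers u, u * b = b * u := by
    have hle : M ⊔ zpowers u ≤ centralizer ({u} : Set G) := by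
      apply sup_le
      · intro a ha
        rw [mem_centralizer_iff]
        rintro h rfl
        exact hu a ha
      · rw [zpowers_le, mem_centralizer_iff]
        rintro h rfl
        rfl
    intro b hb
    have := mem_centralizer_iff.mp (hle hb) u rfl
    exact this
  have h2 : ∀ a ∈ M, ∀ b ∈ M ⊔ zpowers u, a * b = b * a := by
    intro a ha
    have hle : M ⊔ zpowers u ≤ centralizer ({a} : Set G) := by
      apply sup_le
      · intro b hb
        rw [mem_centralizer_iff]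
        rintro h rfl
        exact hM h ha b hb
      · rw [zpowers_le, mem_centralizer_iff]
        rintro h rfl
        exact (hu h ha).symm
    intro b hb
    exact mem_centralizer_iff.mp (hle hb) a rfl
  intro a ha b hb
  have hle : M ⊔ zpowers u ≤ centralizer ({b} : Set G) := by
    apply sup_le
    · intro c hc
      rw [mem_centralizer_iff]
      rintro h rfl
      exact (h2 c hc h hb).symm
    · rw [zpowers_le, mem_centralizer_iff]
      rintro h rfl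
      exact (h1 h hb).symm
  exact (mem_centralizer_iff.mp (hle ha) b rfl).symm

/-- `P` of order `p³`, `K ≤ P` commutative of order `p²`, `u ∈ P ∖ K` commuting with `K`: then `P` is commutative -/
theorem ALL2_comm_of_cent {P K : Subgroup G} (hPcard : Nat.card P = p ^ 3) (hKP : K ≤ P)
    (hKcard : Nat.card K = p ^ 2) (hK : ∀ a ∈ K, ∀ b ∈ K, a * b = b * a) {u : G} (huP : u ∈ P)
    (huK : u ∉ K) (hu : ∀ a ∈ K, u * a = a * u) : ∀ a ∈ P, ∀ b ∈ P, a * b = b * a := by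
  have h := ALL2_sup_zpowers_eq (p := p) hKP (by rw [hPcard, hKcard]; ring) huP huK
  rw [← h]
  exact ALL2_comm_sup hK hu

/-- subgroups of order `p²` are commutative -/
theorem ALL2_comm_of_card {K : Subgroup G} (hKcard : Nat.card K = p ^ 2) :
    ∀ a ∈ K, ∀ b ∈ K, a * b = b * a := by
  intro a ha b hb
  have h := (IsPGroup.isMulCommutative_of_card_eq_prime_sq (p := p) (G := K) hKcard).is_comm.comm
    (⟨a, ha⟩ : K) ⟨b, hb⟩
  exact congrArg Subtype.val h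

/-- `Z(P)` is normal when `P` is -/
instance ALL2_zOf_normal (P : Subgroup G) [P.Normal] : (zOf P).Normal := by
  unfold zOf
  infer_instance

/-- the hypotheses of the abstract version -/
structure ALL2Hyp (p : ℕ) (P Q : Subgroup G) : Prop where
  pg : IsPGroup p G
  rk : Cfsg.PRankLE p 2 G
  cent : ∀ t : G, (∀ x ∈ P, t * x = x * t) → t ∈ P
  ne : P ≠ ⊤
  cardP : Nat.card P = p ^ 3
  expP : ∀ x ∈ P, x ^ p = 1
  na : ∃ a ∈ P, ∃ b ∈ P, a * b ≠ b * a
  QP : Q ≤ P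
  cardQ : Nat.card Q = p ^ 2
  Qn : ∃ s : G, ∃ x ∈ Q, s * x * s⁻¹ ∉ Q

theorem ALL2_mem_zOf {P : Subgroup G} {z : G} :
    z ∈ zOf P ↔ z ∈ P ∧ ∀ v ∈ P, v * z = z * v := by
  unfold zOf
  rw [mem_inf, mem_centralizer_iff]
  rfl

variable {P Q : Subgroup G}

theorem ALL2Hyp.not_comm (h : ALL2Hyp p P Q) : ¬ ∀ a ∈ P, ∀ b ∈ P, a * b = b * a := by
  intro hc
  obtain ⟨a, ha, b, hb, hab⟩ := h.na
  exact hab (hc a ha b hb)

theorem ALL2Hyp.zOf_le (h : ALL2Hyp p P Q) : zOf P ≤ P := by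
  unfold zOf
  exact inf_le_left

theorem ALL2Hyp.zOf_comm (h : ALL2Hyp p P Q) : ∀ a ∈ zOf P, ∀ b ∈ zOf P, a * b = b * a := by
  intro a ha b hb
  exact (ALL2_mem_zOf.mp hb).2 a (h.zOf_le ha)

theorem ALL2Hyp.P_ne_bot (h : ALL2Hyp p P Q) : P ≠ ⊥ := by
  intro hb
  have h1 := h.cardP
  rw [hb, Subgroup.card_bot] at h1
  have : 1 < p ^ 3 := Nat.one_lt_pow (by norm_num) hp.out.one_lt
  omega

theorem ALL2Hyp.cardZ (h : ALL2Hyp p P Q) [P.Normal] : Nat.card (zOf P) = p := by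
  have hpp : p.Prime := hp.out
  -- `Z ≠ ⊥`
  have hne : zOf P ≠ ⊥ := by
    have h1 := Cfsg.Agent.Helper63.normal_inf_center_ne_bot h.pg P h.P_ne_bot
    intro hb
    apply h1
    rw [eq_bot_iff, ← hb]
    intro g hg
    rw [mem_inf] at hg
    rw [ALL2_mem_zOf]
    exact ⟨hg.1, fun v _ => (mem_center_iff.mp hg.2 v)⟩
  obtain ⟨k, hk3, hk⟩ := (Nat.dvd_prime_pow hpp).mp (h.cardP ▸ card_dvd_of_le h.zOf_le)
  have hk0 : k ≠ 0 := by
    rintro rfl
    rw [pow_zero] at hk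
    exact hne (Subgroup.card_eq_one.mp hk)
  have hk3' : k ≠ 3 := by
    rintro rfl
    have heq : zOf P = P := eq_of_le_of_card_ge h.zOf_le (by rw [hk, h.cardP])
    apply h.not_comm
    intro a ha b hb
    rw [← heq] at ha hb
    exact h.zOf_comm a ha b hb
  have hk2 : k ≠ 2 := by
    rintro rfl
    -- some `u ∈ P ∖ Z`
    have hex : ∃ u ∈ P, u ∉ zOf P := by
      by_contra hcon
      push Not at hcon
      have heq : zOf P = P := le_antisymm h.zOf_le hcon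
      have := h.cardP
      rw [← heq, hk] at this
      exact absurd (Nat.pow_right_injective hpp.two_le this) (by norm_num)
    obtain ⟨u, huP, huZ⟩ := hex
    apply h.not_comm
    exact ALL2_comm_of_cent h.cardP h.zOf_le hk h.zOf_comm huP huZ
      (fun a ha => ((ALL2_mem_zOf.mp ha).2 u huP))
  have hk1 : k = 1 := by omega
  rw [hk, hk1, pow_one]

theorem ALL2Hyp.zOf_le_center (h : ALL2Hyp p P Q) [P.Normal] : zOf P ≤ center G := by
  have hpp : p.Prime := hp.out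
  have hne : zOf P ≠ ⊥ := by
    intro hb
    have := h.cardZ
    rw [hb, Subgroup.card_bot] at this
    exact hpp.one_lt.ne this
  have h1 := Cfsg.Agent.Helper63.normal_inf_center_ne_bot h.pg (zOf P) hne
  have h2 : zOf P ⊓ center G = zOf P := by
    apply eq_of_le_of_card_ge inf_le_left
    have hd := card_dvd_of_le (inf_le_left : zOf P ⊓ center G ≤ zOf P)
    rw [h.cardZ] at hd ⊢
    rcases (Nat.dvd_prime hpp).mp hd with h3 | h3
    · exact absurd (Subgroup.card_eq_one.mp h3) h1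
    · exact h3.ge
  rw [← h2]
  exact inf_le_right

/-! ### the subgroup `E0` -/

/-- `E0`: the preimage in `P` of the centre of `G / Z(P)` -/
def ALL2E0 (P : Subgroup G) [P.Normal] : Subgroup G :=
  P ⊓ (center (G ⧸ zOf P)).comap (QuotientGroup.mk' (zOf P))

instance ALL2E0_normal (P : Subgroup G) [P.Normal] : (ALL2E0 P).Normal := by
  unfold ALL2E0
  infer_instance

theorem ALL2_mem_E0 [P.Normal] {u : G} :
    u ∈ ALL2E0 P ↔ u ∈ P ∧ ∀ g : G, g * u * g⁻¹ * u⁻¹ ∈ zOf P := by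
  unfold ALL2E0
  rw [mem_inf, mem_comap, mem_center_iff]
  constructor
  · rintro ⟨h1, h2⟩
    refine ⟨h1, fun g => ?_⟩
    rw [← QuotientGroup.eq_one_iff]
    have h3 := h2 (QuotientGroup.mk' (zOf P) g)
    simp only [QuotientGroup.mk'_apply] at h3
    rw [QuotientGroup.mk_mul, QuotientGroup.mk_mul, QuotientGroup.mk_mul, QuotientGroup.mk_inv,
      QuotientGroup.mk_inv, h3]
    group
  · rintro ⟨h1, h2⟩
    refine ⟨h1, fun gb => ?_⟩
    induction gb using QuotientGroup.induction_on with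
    | H g =>
      have h3 := (QuotientGroup.eq_one_iff (N := zOf P) _).mpr (h2 g)
      rw [QuotientGroup.mk_mul, QuotientGroup.mk_mul, QuotientGroup.mk_mul, QuotientGroup.mk_inv,
        QuotientGroup.mk_inv] at h3
      simp only [QuotientGroup.mk'_apply]
      calc (g : G ⧸ zOf P) * (u : G ⧸ zOf P)
          = ((g : G ⧸ zOf P) * (u : G ⧸ zOf P) * (g : G ⧸ zOf P)⁻¹ * (u : G ⧸ zOf P)⁻¹)
              * ((u : G ⧸ zOf P) * (g : G ⧸ zOf P)) := by group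
        _ = (u : G ⧸ zOf P) * (g : G ⧸ zOf P) := by rw [h3, one_mul]

theorem ALL2Hyp.E0_le (h : ALL2Hyp p P Q) [P.Normal] : ALL2E0 P ≤ P := by
  unfold ALL2E0
  exact inf_le_left

theorem ALL2Hyp.zOf_le_E0 (h : ALL2Hyp p P Q) [P.Normal] : zOf P ≤ ALL2E0 P := by
  intro z hz
  rw [ALL2_mem_E0]
  refine ⟨h.zOf_le hz, fun g => ?_⟩
  have h1 := mem_center_iff.mp (h.zOf_le_center hz) g
  have h2 : g * z * g⁻¹ * z⁻¹ = 1 := by
    rw [h1]
    group
  rw [h2]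
  exact one_mem _

/-- `Z(P) ≤ Q` -/
theorem ALL2Hyp.zOf_le_Q (h : ALL2Hyp p P Q) [P.Normal] : zOf P ≤ Q := by
  intro z hz
  by_contra hzQ
  apply h.not_comm
  exact ALL2_comm_of_cent h.cardP h.QP h.cardQ (ALL2_comm_of_card h.cardQ) (h.zOf_le hz) hzQ
    (fun a ha => ((ALL2_mem_zOf.mp hz).2 a (h.QP ha)).symm)

theorem ALL2Hyp.E0_ne (h : ALL2Hyp p P Q) [P.Normal] : ALL2E0 P ≠ P := by
  intro heq
  obtain ⟨s, x, hx, hsx⟩ := h.Qn
  apply hsx
  have hxE : x ∈ ALL2E0 P := by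
    rw [heq]
    exact h.QP hx
  have h1 := (ALL2_mem_E0.mp hxE).2 s
  have h2 : s * x * s⁻¹ = (s * x * s⁻¹ * x⁻¹) * x := by group
  rw [h2]
  exact Q.mul_mem (h.zOf_le_Q h1) hx

theorem ALL2Hyp.exists_E0_not_zOf (h : ALL2Hyp p P Q) [P.Normal] :
    ∃ c ∈ ALL2E0 P, c ∉ zOf P := by
  have hpp : p.Prime := hp.out
  -- `P / Z` is a nontrivial normal subgroup of `G / Z`
  have hex : ∃ u ∈ P, u ∉ zOf P := by
    by_contra hcon
    push Not at hcon
    have heq : zOf P = P := le_antisymm h.zOf_le hcon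
    have h1 := h.cardP
    rw [← heq, h.cardZ] at h1
    have h2 : p ^ 1 = p ^ 3 := by rw [pow_one]; exact h1
    exact absurd (Nat.pow_right_injective hpp.two_le h2) (by norm_num)
  obtain ⟨u, huP, huZ⟩ := hex
  have hnorm : (P.map (QuotientGroup.mk' (zOf P))).Normal :=
    Subgroup.Normal.map inferInstance _ (QuotientGroup.mk'_surjective _)
  have hne : P.map (QuotientGroup.mk' (zOf P)) ≠ ⊥ := by
    intro hb
    have h1 : QuotientGroup.mk' (zOf P) u ∈ P.map (QuotientGroup.mk' (zOf P)) :=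
      mem_map_of_mem _ huP
    rw [hb, mem_bot, QuotientGroup.mk'_apply, QuotientGroup.eq_one_iff] at h1
    exact huZ h1
  have h1 := Cfsg.Agent.Helper63.normal_inf_center_ne_bot (h.pg.to_quotient (zOf P))
    (P.map (QuotientGroup.mk' (zOf P))) hne
  obtain ⟨⟨cb, hcb⟩, hcb1⟩ := (Subgroup.ne_bot_iff_exists_ne_one).mp h1
  have hcb1' : cb ≠ 1 := fun h' => hcb1 (Subtype.ext h')
  obtain ⟨hcbP, hcbZ⟩ := mem_inf.mp hcb
  obtain ⟨c, hcP, rfl⟩ := mem_map.mp hcbP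
  refine ⟨c, ?_, ?_⟩
  · unfold ALL2E0
    rw [mem_inf, mem_comap]
    exact ⟨hcP, hcbZ⟩
  · intro hcZ
    apply hcb1'
    rw [QuotientGroup.mk'_apply, QuotientGroup.eq_one_iff]
    exact hcZ

theorem ALL2Hyp.cardE0 (h : ALL2Hyp p P Q) [P.Normal] : Nat.card (ALL2E0 P) = p ^ 2 := by
  have hpp : p.Prime := hp.out
  obtain ⟨c, hcE, hcZ⟩ := h.exists_E0_not_zOf
  obtain ⟨k, hk3, hk⟩ := (Nat.dvd_prime_pow hpp).mp (h.cardP ▸ card_dvd_of_le h.E0_le)
  have hk3' : k ≠ 3 := by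
    rintro rfl
    exact h.E0_ne (eq_of_le_of_card_ge h.E0_le (by rw [hk, h.cardP]))
  have hk1 : ¬ k ≤ 1 := by
    intro hk1
    have heq : zOf P = ALL2E0 P := by
      apply eq_of_le_of_card_ge h.zOf_le_E0
      rw [hk, h.cardZ]
      calc p ^ k ≤ p ^ 1 := Nat.pow_le_pow_right hpp.pos hk1
        _ = p := pow_one p
    apply hcZ
    rw [heq]
    exact hcE
  have hk2 : k = 2 := by omega
  rw [hk, hk2]

theorem ALL2Hyp.E0_comm (h : ALL2Hyp p P Q) [P.Normal] :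
    ∀ a ∈ ALL2E0 P, ∀ b ∈ ALL2E0 P, a * b = b * a :=
  ALL2_comm_of_card h.cardE0

/-- `C_P(E0) ≤ E0` -/
theorem ALL2Hyp.mem_E0_of_comm (h : ALL2Hyp p P Q) [P.Normal] {u : G} (huP : u ∈ P)
    (hu : ∀ a ∈ ALL2E0 P, u * a = a * u) : u ∈ ALL2E0 P := by
  by_contra huE
  apply h.not_comm
  exact ALL2_comm_of_cent h.cardP h.E0_le h.cardE0 h.E0_comm huP huE hu

/-- `Q ∩ E0 ≤ Z(P)` -/
theorem ALL2Hyp.mem_zOf_of_mem_Q_E0 (h : ALL2Hyp p P Q) [P.Normal] {u : G} (huQ : u ∈ Q)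
    (huE : u ∈ ALL2E0 P) : u ∈ zOf P := by
  by_contra huZ
  have h1 := ALL2_sup_zpowers_eq (p := p) h.zOf_le_Q (by rw [h.cardQ, h.cardZ]; ring) huQ huZ
  have h2 := ALL2_sup_zpowers_eq (p := p) h.zOf_le_E0 (by rw [h.cardE0, h.cardZ]; ring) huE huZ
  have heq : Q = ALL2E0 P := by rw [← h1, h2]
  obtain ⟨s, x, hx, hsx⟩ := h.Qn
  apply hsx
  rw [heq] at hx ⊢
  exact (ALL2E0_normal P).conj_mem x hx s

/-! ### the subgroup `A1 = C_G(E0)` and the commutator homomorphism -/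

/-- `A1 = C_G(E0)` -/
def ALL2A1 (P : Subgroup G) [P.Normal] : Subgroup G := centralizer (ALL2E0 P : Set G)

instance ALL2A1_normal (P : Subgroup G) [P.Normal] : (ALL2A1 P).Normal := by
  unfold ALL2A1
  infer_instance

theorem ALL2_mem_A1 [P.Normal] {t : G} : t ∈ ALL2A1 P ↔ ∀ e ∈ ALL2E0 P, e * t = t * e := by
  unfold ALL2A1
  rw [mem_centralizer_iff]
  rfl

theorem ALL2Hyp.A1_inf_P (h : ALL2Hyp p P Q) [P.Normal] {t : G} (htA : t ∈ ALL2A1 P)
    (htP : t ∈ P) : t ∈ ALL2E0 P :=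
  h.mem_E0_of_comm htP (fun a ha => ((ALL2_mem_A1.mp htA) a ha).symm)

theorem ALL2Hyp.E0_le_A1 (h : ALL2Hyp p P Q) [P.Normal] : ALL2E0 P ≤ ALL2A1 P := by
  intro e he
  rw [ALL2_mem_A1]
  intro e' he'
  exact h.E0_comm e' he' e he

/-- commutators with `x ∈ P` of elements of `A1` lie in `E0` -/
theorem ALL2Hyp.comm_mem_E0 (h : ALL2Hyp p P Q) [P.Normal] {x t : G} (hx : x ∈ P)
    (ht : t ∈ ALL2A1 P) : t * x * t⁻¹ * x⁻¹ ∈ ALL2E0 P := by
  apply h.A1_inf_P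
  · have h1 : x * t⁻¹ * x⁻¹ ∈ ALL2A1 P := (ALL2A1_normal P).conj_mem _ (inv_mem ht) x
    have h2 : t * x * t⁻¹ * x⁻¹ = t * (x * t⁻¹ * x⁻¹) := by group
    rw [h2]
    exact mul_mem ht h1
  · have h1 : t * x * t⁻¹ ∈ P := (inferInstance : P.Normal).conj_mem x hx t
    exact mul_mem h1 (inv_mem hx)

/-- the commutator homomorphism `A1 → E0`, `t ↦ [t, x]` -/
def ALL2f (h : ALL2Hyp p P Q) [P.Normal] (x : G) (hx : x ∈ P) : ↥(ALL2A1 P) →* ↥(ALL2E0 P) :=
  MonoidHom.mk' (fun t => ⟨(t : G) * x * (t : G)⁻¹ * x⁻¹, h.comm_mem_E0 hx t.2⟩) (by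
    rintro ⟨t, ht⟩ ⟨t', ht'⟩
    apply Subtype.ext
    show (t * t') * x * (t * t')⁻¹ * x⁻¹ = (t * x * t⁻¹ * x⁻¹) * (t' * x * t'⁻¹ * x⁻¹)
    have he' : t' * x * t'⁻¹ * x⁻¹ ∈ ALL2E0 P := h.comm_mem_E0 hx ht'
    have he : t * x * t⁻¹ * x⁻¹ ∈ ALL2E0 P := h.comm_mem_E0 hx ht
    have hcomm : (t' * x * t'⁻¹ * x⁻¹) * t = t * (t' * x * t'⁻¹ * x⁻¹) := (ALL2_mem_A1.mp ht) _ he'
    have h3 : t * (t' * x * t'⁻¹ * x⁻¹) * t⁻¹ = t' * x * t'⁻¹ * x⁻¹ := by
      rw [← hcomm]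
      group
    calc (t * t') * x * (t * t')⁻¹ * x⁻¹
        = (t * (t' * x * t'⁻¹ * x⁻¹) * t⁻¹) * (t * x * t⁻¹ * x⁻¹) := by group
      _ = (t' * x * t'⁻¹ * x⁻¹) * (t * x * t⁻¹ * x⁻¹) := by rw [h3]
      _ = (t * x * t⁻¹ * x⁻¹) * (t' * x * t'⁻¹ * x⁻¹) := h.E0_comm _ he' _ he)

theorem ALL2f_apply (h : ALL2Hyp p P Q) [P.Normal] (x : G) (hx : x ∈ P) (t : ↥(ALL2A1 P)) :
    ((ALL2f h x hx t : ↥(ALL2E0 P)) : G) = (t : G) * x * (t : G)⁻¹ * x⁻¹ := rfl

/-- an element of `A1` commuting with some `x ∈ P ∖ E0` lies in `Z(P)` -/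
theorem ALL2Hyp.mem_zOf_of_comm (h : ALL2Hyp p P Q) [P.Normal] {x t : G} (hx : x ∈ P)
    (hxE : x ∉ ALL2E0 P) (ht : t ∈ ALL2A1 P) (htx : t * x = x * t) : t ∈ zOf P := by
  have hP := ALL2_sup_zpowers_eq (p := p) h.E0_le (by rw [h.cardP, h.cardE0]; ring) hx hxE
  have hle : ALL2E0 P ⊔ zpowers x ≤ centralizer ({t} : Set G) := by
    apply sup_le
    · intro e he
      rw [mem_centralizer_iff]
      rintro g rfl
      exact ((ALL2_mem_A1.mp ht) e he).symm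
    · rw [zpowers_le, mem_centralizer_iff]
      rintro g rfl
      exact htx
  rw [hP] at hle
  have hall : ∀ v ∈ P, t * v = v * t := fun v hv => mem_centralizer_iff.mp (hle hv) t rfl
  rw [ALL2_mem_zOf]
  exact ⟨h.cent t hall, fun v hv => (hall v hv).symm⟩

theorem ALL2Hyp.exists_not_E0 (h : ALL2Hyp p P Q) [P.Normal] : ∃ x ∈ P, x ∉ ALL2E0 P := by
  by_contra hcon
  push Not at hcon
  exact h.E0_ne (le_antisymm h.E0_le hcon)

theorem ALL2Hyp.card_ker_le (h : ALL2Hyp p P Q) [P.Normal] {x : G} (hx : x ∈ P)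
    (hxE : x ∉ ALL2E0 P) : Nat.card (ALL2f h x hx).ker ≤ p := by
  have hmem : ∀ t : (ALL2f h x hx).ker, ((t : ↥(ALL2A1 P)) : G) ∈ zOf P := by
    rintro ⟨⟨t, ht⟩, hker⟩
    rw [MonoidHom.mem_ker] at hker
    have h1 : t * x * t⁻¹ * x⁻¹ = 1 := by
      have := congrArg Subtype.val hker
      exact this
    apply h.mem_zOf_of_comm hx hxE ht
    calc t * x = (t * x * t⁻¹ * x⁻¹) * (x * t) := by group
      _ = x * t := by rw [h1, one_mul]
  have hinj : Function.Injective (fun t : (ALL2f h x hx).ker =>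
      (⟨((t : ↥(ALL2A1 P)) : G), hmem t⟩ : ↥(zOf P))) := by
    intro t t' htt
    have := congrArg Subtype.val htt
    exact Subtype.ext (Subtype.ext this)
  have := Nat.card_le_card_of_injective _ hinj
  rwa [h.cardZ] at this

theorem ALL2Hyp.card_A1_and_range (h : ALL2Hyp p P Q) [P.Normal] {x : G} (hx : x ∈ P)
    (hxE : x ∉ ALL2E0 P) :
    Nat.card (ALL2A1 P) = p ^ 3 ∧ Function.Surjective (ALL2f h x hx) := by
  have hpp : p.Prime := hp.out
  -- index of `A1`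
  have hidx : (ALL2A1 P).index = p := by
    have h1 := Cfsg.Agent.Helper79.Blk.index_centralizer_dvd h.pg (ALL2E0 P) h.cardE0
    rcases (Nat.dvd_prime hpp).mp h1 with h2 | h2
    · exfalso
      have htop : ALL2A1 P = ⊤ := index_eq_one.mp h2
      apply hxE
      apply h.A1_inf_P _ hx
      rw [htop]
      exact mem_top x
    · exact h2
  obtain ⟨n, hn⟩ := IsPGroup.iff_card.mp h.pg
  have hn4 : 4 ≤ n := by
    have hdvd : p ^ 3 ∣ p ^ n := by
      rw [← h.cardP, ← hn]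
      exact card_subgroup_dvd_card P
    have hn3 : 3 ≤ n := (Nat.pow_dvd_pow_iff_le_right hpp.one_lt).mp hdvd
    have hne : n ≠ 3 := by
      rintro rfl
      exact h.ne (eq_top_of_card_eq P (by rw [h.cardP, hn]))
    omega
  have hA1 : Nat.card (ALL2A1 P) * p = p ^ n := by
    have h2 := card_mul_index (ALL2A1 P)
    rw [hidx, hn] at h2
    exact h2
  have hA1' : Nat.card (ALL2A1 P) = p ^ (n - 1) := by
    have h2 : p ^ n = p ^ (n - 1) * p := by
      rw [← pow_succ]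
      congr 1
      omega
    rw [h2] at hA1
    exact Nat.eq_of_mul_eq_mul_right hpp.pos hA1
  have hker := h.card_ker_le hx hxE
  have hrange : Nat.card (ALL2f h x hx).range ≤ p ^ 2 := by
    have := card_le_card_group (ALL2f h x hx).range
    rwa [h.cardE0] at this
  have hprod : Nat.card (ALL2f h x hx).ker * Nat.card (ALL2f h x hx).range
      = Nat.card (ALL2A1 P) := by
    rw [← index_ker, card_mul_index]
  have hge : p ^ 3 ≤ p ^ (n - 1) := Nat.pow_le_pow_right hpp.pos (by omega)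
  have hle : Nat.card (ALL2A1 P) ≤ p * p ^ 2 := by
    rw [← hprod]
    exact Nat.mul_le_mul hker hrange
  have hcard : Nat.card (ALL2A1 P) = p ^ 3 := by
    have h3 : p * p ^ 2 = p ^ 3 := by ring
    rw [h3] at hle
    rw [hA1'] at hle ⊢
    exact le_antisymm hle hge
  refine ⟨hcard, ?_⟩
  rw [← MonoidHom.range_eq_top]
  apply eq_top_of_card_eq
  rw [h.cardE0]
  apply le_antisymm hrange
  -- `p ^ 3 = k * r ≤ p * r`
  rw [hcard] at hprod
  have h4 : p * p ^ 2 ≤ p * Nat.card (ALL2f h x hx).range := by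
    calc p * p ^ 2 = p ^ 3 := by ring
      _ = Nat.card (ALL2f h x hx).ker * Nat.card (ALL2f h x hx).range := hprod.symm
      _ ≤ p * Nat.card (ALL2f h x hx).range := Nat.mul_le_mul_right _ hker
  exact Nat.le_of_mul_le_mul_left h4 hpp.pos

/-! ### generators -/

/-- elements of `M ⊔ ⟨u⟩`, `M` normal -/
theorem ALL2_decomp {M N : Subgroup G} [M.Normal] {u : G} (hN : M ⊔ zpowers u = N) {t : G}
    (ht : t ∈ N) : ∃ k : ℕ, ∃ m ∈ M, t = u ^ k * m := by
  rw [← hN, sup_comm, ← SetLike.mem_coe, mul_normal (zpowers u) M, Set.mem_mul] at ht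
  obtain ⟨a, ha, m, hm, rfl⟩ := ht
  rw [SetLike.mem_coe, ← mem_powers_iff_mem_zpowers, Submonoid.mem_powers_iff] at ha
  obtain ⟨k, rfl⟩ := ha
  exact ⟨k, m, hm, rfl⟩

/-- conjugation by powers when the commutator is central -/
theorem ALL2_conj_pow {H : Type*} [Group H] {S X W : H} (hW : ∀ g, g * W = W * g)
    (h : S * X * S⁻¹ = W * X) (c : ℕ) : S ^ c * X * (S ^ c)⁻¹ = W ^ c * X := by
  induction c with
  | zero => simp
  | succ c ih =>
    have hc : S * W ^ c = W ^ c * S := (Commute.pow_right (show Commute S W from hW S) c)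
    calc S ^ (c + 1) * X * (S ^ (c + 1))⁻¹ = S * (S ^ c * X * (S ^ c)⁻¹) * S⁻¹ := by
          rw [pow_succ']
          group
      _ = S * (W ^ c * X) * S⁻¹ := by rw [ih]
      _ = (S * W ^ c) * X * S⁻¹ := by group
      _ = W ^ c * (S * X * S⁻¹) := by
          rw [hc]
          group
      _ = W ^ c * (W * X) := by rw [h]
      _ = W ^ (c + 1) * X := by rw [pow_succ, mul_assoc]

/-- commutators are not changed by central factors -/
theorem ALL2_comm_central {H : Type*} [Group H] (A B z₁ z₂ : H) (h1 : ∀ g, g * z₁ = z₁ * g)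
    (h2 : ∀ g, g * z₂ = z₂ * g) :
    (A * z₁) * (B * z₂) * (A * z₁)⁻¹ * (B * z₂)⁻¹ = A * B * A⁻¹ * B⁻¹ := by
  have e1 : z₁ * (B * z₂) = (B * z₂) * z₁ := (h1 (B * z₂)).symm
  have e2 : z₂ * A⁻¹ = A⁻¹ * z₂ := (h2 A⁻¹).symm
  calc (A * z₁) * (B * z₂) * (A * z₁)⁻¹ * (B * z₂)⁻¹
      = A * (z₁ * (B * z₂)) * z₁⁻¹ * A⁻¹ * z₂⁻¹ * B⁻¹ := by group
    _ = A * ((B * z₂) * z₁) * z₁⁻¹ * A⁻¹ * z₂⁻¹ * B⁻¹ := by rw [e1]
    _ = A * B * (z₂ * A⁻¹) * z₂⁻¹ * B⁻¹ := by group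
    _ = A * B * (A⁻¹ * z₂) * z₂⁻¹ * B⁻¹ := by rw [e2]
    _ = A * B * A⁻¹ * B⁻¹ := by group

/-! ### invariance under automorphisms preserving `P` -/

theorem ALL2_inv_zOf (θ : G ≃* G) (hθ : ∀ v, θ v ∈ P ↔ v ∈ P) {z : G} (hz : z ∈ zOf P) :
    θ z ∈ zOf P := by
  rw [ALL2_mem_zOf] at hz ⊢
  refine ⟨(hθ z).mpr hz.1, fun v hv => ?_⟩
  have hv' : θ.symm v ∈ P := by
    rw [← hθ]
    simpa using hv
  have h1 := hz.2 (θ.symm v) hv'
  have h2 := congrArg θ h1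
  simpa using h2

theorem ALL2_inv_E0 [P.Normal] (θ : G ≃* G) (hθ : ∀ v, θ v ∈ P ↔ v ∈ P) {u : G}
    (hu : u ∈ ALL2E0 P) : θ u ∈ ALL2E0 P := by
  rw [ALL2_mem_E0] at hu ⊢
  refine ⟨(hθ u).mpr hu.1, fun g => ?_⟩
  have h1 := ALL2_inv_zOf θ hθ (hu.2 (θ.symm g))
  simpa using h1

theorem ALL2_symm_iff (θ : G ≃* G) (hθ : ∀ v, θ v ∈ P ↔ v ∈ P) : ∀ v, θ.symm v ∈ P ↔ v ∈ P := by
  intro v
  rw [← hθ (θ.symm v)]
  simp

theorem ALL2_inv_A1 [P.Normal] (θ : G ≃* G) (hθ : ∀ v, θ v ∈ P ↔ v ∈ P) {t : G}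
    (ht : t ∈ ALL2A1 P) : θ t ∈ ALL2A1 P := by
  rw [ALL2_mem_A1] at ht ⊢
  intro e he
  have he' : θ.symm e ∈ ALL2E0 P := ALL2_inv_E0 θ.symm (ALL2_symm_iff θ hθ) he
  have h1 := ht (θ.symm e) he'
  have h2 := congrArg θ h1
  simpa using h2

/-! ### the elements `x`, `w`, `s` -/

theorem ALL2Hyp.exists_data (h : ALL2Hyp p P Q) [P.Normal] :
    ∃ x w s : G, x ∈ Q ∧ x ∉ ALL2E0 P ∧ w ∈ ALL2E0 P ∧ w ∉ zOf P ∧ s ∈ ALL2A1 P ∧
      s * x * s⁻¹ * x⁻¹ = w := by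
  have hpp : p.Prime := hp.out
  have hex : ∃ x ∈ Q, x ∉ zOf P := by
    by_contra hcon
    push Not at hcon
    have hd := card_dvd_of_le (show Q ≤ zOf P from hcon)
    rw [h.cardQ, h.cardZ] at hd
    have h1 : p ^ 2 ≤ p := Nat.le_of_dvd hpp.pos hd
    have h2 : p * 2 ≤ p * p := Nat.mul_le_mul_left p hpp.two_le
    have h3 : p ^ 2 = p * p := by ring
    have := hpp.pos
    omega
  obtain ⟨x, hxQ, hxZ⟩ := hex
  have hxE : x ∉ ALL2E0 P := fun hxE => hxZ (h.mem_zOf_of_mem_Q_E0 hxQ hxE)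
  obtain ⟨w, hwE, hwZ⟩ := h.exists_E0_not_zOf
  obtain ⟨t, ht⟩ := (h.card_A1_and_range (h.QP hxQ) hxE).2 ⟨w, hwE⟩
  refine ⟨x, w, (t : G), hxQ, hxE, hwE, hwZ, t.2, ?_⟩
  have := congrArg Subtype.val ht
  exact this

/-! ### the abstract theorem -/

theorem ALL2_abs (h : ALL2Hyp p P Q) [P.Normal] (χ : G ≃* G) (hχP : ∀ v, χ v ∈ P ↔ v ∈ P)
    (a : ℕ) (ha : a ^ 2 % p ≠ 1) (hχQ : ∀ x ∈ Q, (x ^ a)⁻¹ * χ x ∈ zOf P) : False := by
  have hpp : p.Prime := hp.out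
  obtain ⟨x, w, s, hxQ, hxE, hwE, hwZ, hsA, hsxw⟩ := h.exists_data
  have hxP : x ∈ P := h.QP hxQ
  have hwP : w ∈ P := h.E0_le hwE
  have hZc : ∀ z ∈ zOf P, ∀ g : G, g * z = z * g := fun z hz =>
    mem_center_iff.mp (h.zOf_le_center hz)
  -- `s ∉ E0`
  have hsE : s ∉ ALL2E0 P := by
    intro hsE
    apply hwZ
    have h1 := (ALL2_mem_E0.mp hsE).2 x
    have h2 : w = (x * s * x⁻¹ * s⁻¹)⁻¹ := by
      rw [← hsxw]
      group
    rw [h2]
    exact inv_mem h1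
  -- `A1 = E0 ⊔ ⟨s⟩` is commutative
  have hcardA1 := (h.card_A1_and_range hxP hxE).1
  have hA1 : ALL2E0 P ⊔ zpowers s = ALL2A1 P :=
    ALL2_sup_zpowers_eq (p := p) h.E0_le_A1 (by rw [hcardA1, h.cardE0]; ring) hsA hsE
  have hA1comm : ∀ a ∈ ALL2A1 P, ∀ b ∈ ALL2A1 P, a * b = b * a := by
    rw [← hA1]
    exact ALL2_comm_sup h.E0_comm (fun e he => ((ALL2_mem_A1.mp hsA) e he).symm)
  -- `E0 = Z ⊔ ⟨w⟩`
  have hE0 : zOf P ⊔ zpowers w = ALL2E0 P :=
    ALL2_sup_zpowers_eq (p := p) h.zOf_le_E0 (by rw [h.cardE0, h.cardZ]; ring) hwE hwZ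
  -- `s ^ p ≠ 1`
  have hsp1 : s ^ p ≠ 1 := by
    intro hsp
    apply hsE
    exact Cfsg.Agent.Helper89.Blk.mem_of_rank h.rk (ALL2E0 P) h.cardE0
      (fun e he => h.expP e (h.E0_le he)) s hsA hsp
  -- `s ^ p ∈ Z`
  have hspZ : s ^ p ∈ zOf P := by
    have hspA : s ^ p ∈ ALL2A1 P := pow_mem hsA p
    apply h.mem_zOf_of_comm hxP hxE hspA
    have h1 : ALL2f h x hxP (⟨s, hsA⟩ ^ p) = 1 := by
      rw [map_pow]
      apply Subtype.ext
      rw [Subgroup.coe_pow, ALL2f_apply]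
      show (s * x * s⁻¹ * x⁻¹) ^ p = 1
      rw [hsxw]
      exact h.expP w hwP
    have h2 := congrArg Subtype.val h1
    rw [ALL2f_apply] at h2
    have h3 : s ^ p * x * (s ^ p)⁻¹ * x⁻¹ = 1 := h2
    calc s ^ p * x = (s ^ p * x * (s ^ p)⁻¹ * x⁻¹) * (x * s ^ p) := by group
      _ = x * s ^ p := by rw [h3, one_mul]
  have hosp : orderOf (s ^ p) = p := orderOf_eq_prime (h.expP _ (h.zOf_le hspZ)) hsp1
  -- the images under `χ`
  obtain ⟨z₁, hz₁, hχx⟩ : ∃ z₁ ∈ zOf P, χ x = x ^ a * z₁ :=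
    ⟨(x ^ a)⁻¹ * χ x, hχQ x hxQ, by group⟩
  obtain ⟨b, z₂, hz₂, hχw⟩ := ALL2_decomp hE0 (ALL2_inv_E0 χ hχP hwE)
  obtain ⟨c, e, he, hχs⟩ := ALL2_decomp hA1 (ALL2_inv_A1 χ hχP hsA)
  -- the quotient `G / Z`
  have hπZ : ∀ z ∈ zOf P, (QuotientGroup.mk' (zOf P) z) = 1 := by
    intro z hz
    rw [QuotientGroup.mk'_apply, QuotientGroup.eq_one_iff]
    exact hz
  have hπE : ∀ u ∈ ALL2E0 P, ∀ g : G ⧸ zOf P,
      g * QuotientGroup.mk' (zOf P) u = QuotientGroup.mk' (zOf P) u * g := by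
    intro u hu
    have h1 : u ∈ ALL2E0 P := hu
    unfold ALL2E0 at h1
    exact mem_center_iff.mp (mem_comap.mp (mem_inf.mp h1).2)
  have hWc := hπE w hwE
  have hWp : (QuotientGroup.mk' (zOf P) w) ^ p = 1 := by
    rw [← map_pow, h.expP w hwP, map_one]
  have hW1 : QuotientGroup.mk' (zOf P) w ≠ 1 := by
    rw [QuotientGroup.mk'_apply, Ne, QuotientGroup.eq_one_iff]
    exact hwZ
  have hoW : orderOf (QuotientGroup.mk' (zOf P) w) = p := orderOf_eq_prime hWp hW1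
  have key : s * x * s⁻¹ = w * x := by
    rw [← hsxw]
    group
  -- relation 1: `c * a ≡ b`
  have hrel1 : c * a ≡ b [MOD p] := by
    have hSX : QuotientGroup.mk' (zOf P) s * QuotientGroup.mk' (zOf P) x
        * (QuotientGroup.mk' (zOf P) s)⁻¹
        = QuotientGroup.mk' (zOf P) w * QuotientGroup.mk' (zOf P) x := by
      rw [← map_inv, ← map_mul, ← map_mul, ← map_mul, key]
    have h1 := congrArg (fun g => QuotientGroup.mk' (zOf P) (χ g)) key
    simp only [map_mul, map_inv] at h1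
    have hπx : QuotientGroup.mk' (zOf P) (χ x) = (QuotientGroup.mk' (zOf P) x) ^ a := by
      rw [hχx, map_mul, hπZ _ hz₁, mul_one, map_pow]
    have hπw : QuotientGroup.mk' (zOf P) (χ w) = (QuotientGroup.mk' (zOf P) w) ^ b := by
      rw [hχw, map_mul, hπZ _ hz₂, mul_one, map_pow]
    have hπs : QuotientGroup.mk' (zOf P) (χ s)
        = (QuotientGroup.mk' (zOf P) s) ^ c * QuotientGroup.mk' (zOf P) e := by
      rw [hχs, map_mul, map_pow]
    rw [hπx, hπw, hπs] at h1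
    have hEc := hπE e he
    generalize QuotientGroup.mk' (zOf P) s = S at *
    generalize QuotientGroup.mk' (zOf P) x = X at *
    generalize QuotientGroup.mk' (zOf P) w = W at *
    generalize QuotientGroup.mk' (zOf P) e = E at *
    have h2 : (S ^ c * E) * X ^ a * (S ^ c * E)⁻¹ = (W ^ c) ^ a * X ^ a := by
      calc (S ^ c * E) * X ^ a * (S ^ c * E)⁻¹ = S ^ c * (E * X ^ a) * E⁻¹ * (S ^ c)⁻¹ := by group
        _ = S ^ c * (X ^ a * E) * E⁻¹ * (S ^ c)⁻¹ := by rw [← hEc (X ^ a)]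
        _ = S ^ c * X ^ a * (S ^ c)⁻¹ := by group
        _ = (S ^ c * X * (S ^ c)⁻¹) ^ a := conj_pow.symm
        _ = (W ^ c * X) ^ a := by rw [ALL2_conj_pow hWc hSX c]
        _ = (W ^ c) ^ a * X ^ a :=
          (Commute.pow_left (show Commute W X from (hWc X).symm) c).mul_pow a
    rw [h2] at h1
    have h3 : W ^ (c * a) = W ^ b := by
      rw [pow_mul]
      exact mul_right_cancel h1
    have h4 := pow_eq_pow_iff_modEq.mp h3
    rwa [hoW] at h4
  -- relation 2: `a * b ≡ c`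
  have hrel2 : a * b ≡ c [MOD p] := by
    have hχsp : χ (s ^ p) = (s ^ p) ^ c := by
      have hcomm : Commute (s ^ c) e :=
        hA1comm _ (pow_mem hsA c) _ (h.E0_le_A1 he)
      rw [map_pow, hχs, hcomm.mul_pow, h.expP e (h.E0_le he), mul_one, ← pow_mul, mul_comm,
        pow_mul]
    have hz₀ : x * w * x⁻¹ * w⁻¹ ∈ zOf P := (ALL2_mem_E0.mp hwE).2 x
    have hz₀c := hZc _ hz₀
    have hz₀1 : x * w * x⁻¹ * w⁻¹ ≠ 1 := by
      intro h1
      apply hxE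
      apply h.mem_E0_of_comm hxP
      have hxw : x * w = w * x := by
        calc x * w = (x * w * x⁻¹ * w⁻¹) * (w * x) := by group
          _ = w * x := by rw [h1, one_mul]
      have hle : zOf P ⊔ zpowers w ≤ centralizer ({x} : Set G) := by
        apply sup_le
        · intro z hz
          rw [mem_centralizer_iff]
          rintro g rfl
          exact hZc z hz g
        · rw [zpowers_le, mem_centralizer_iff]
          rintro g rfl
          exact hxw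
      rw [hE0] at hle
      intro e' he'
      exact mem_centralizer_iff.mp (hle he') x rfl
    have hZgen : (⊥ : Subgroup G) ⊔ zpowers (x * w * x⁻¹ * w⁻¹) = zOf P :=
      ALL2_sup_zpowers_eq (p := p) bot_le (by rw [h.cardZ, Subgroup.card_bot, mul_one]) hz₀
        (by rw [mem_bot]; exact hz₀1)
    obtain ⟨k, m, hm, hspk⟩ := ALL2_decomp hZgen hspZ
    rw [mem_bot] at hm
    rw [hm, mul_one] at hspk
    have hχz₀ : χ (x * w * x⁻¹ * w⁻¹) = (x * w * x⁻¹ * w⁻¹) ^ (a * b) := by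
      have hxw : x * w * x⁻¹ = (x * w * x⁻¹ * w⁻¹) * w := by group
      have h1 := ALL2_conj_pow hz₀c hxw a
      have h2 : x ^ a * w ^ b * (x ^ a)⁻¹ = ((x * w * x⁻¹ * w⁻¹) ^ a) ^ b * w ^ b := by
        rw [← conj_pow, h1]
        exact (Commute.pow_left (show Commute (x * w * x⁻¹ * w⁻¹) w from (hz₀c w).symm) a).mul_pow b
      have h0 : χ (x * w * x⁻¹ * w⁻¹) = χ x * χ w * (χ x)⁻¹ * (χ w)⁻¹ := by
        simp only [map_mul, map_inv]
      rw [h0, hχx, hχw, ALL2_comm_central _ _ _ _ (hZc _ hz₁) (hZc _ hz₂), h2, pow_mul]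
      group
    have h3 : (s ^ p) ^ (a * b) = (s ^ p) ^ c := by
      rw [← hχsp]
      conv_rhs => rw [hspk]
      rw [map_pow, hχz₀, hspk, ← pow_mul, ← pow_mul, mul_comm]
    have h4 := pow_eq_pow_iff_modEq.mp h3
    rwa [hosp] at h4
  -- `p ∤ b`
  have hb : ¬ p ∣ b := by
    intro hpb
    apply hwZ
    have h1 : (QuotientGroup.mk' (zOf P) w) ^ b = 1 := by
      rw [← hoW] at hpb
      exact orderOf_dvd_iff_pow_eq_one.mp hpb
    have h2 : χ w ∈ zOf P := by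
      rw [hχw]
      refine mul_mem ?_ hz₂
      rw [← QuotientGroup.eq_one_iff, ← QuotientGroup.mk'_apply, map_pow]
      exact h1
    have h3 := ALL2_inv_zOf χ.symm (ALL2_symm_iff χ hχP) h2
    simpa using h3
  -- arithmetic
  have hcop : Nat.gcd p b = 1 := (Nat.Prime.coprime_iff_not_dvd hpp).mpr hb
  have h5 : a ^ 2 * b ≡ 1 * b [MOD p] := by
    calc a ^ 2 * b = a * (a * b) := by ring
      _ ≡ a * c [MOD p] := Nat.ModEq.mul_left a hrel2
      _ = c * a := mul_comm a c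
      _ ≡ b [MOD p] := hrel1
      _ = 1 * b := (one_mul b).symm
  have h6 : a ^ 2 ≡ 1 [MOD p] := Nat.ModEq.cancel_right_of_coprime hcop h5
  apply ha
  have h7 : a ^ 2 % p = 1 % p := h6
  rw [h7]
  exact Nat.mod_eq_of_lt hpp.one_lt

end abs

/-! ### translation from the configuration in `Ω` -/

variable {Ω : Type u} [Group Ω] {p : ℕ} [hp : Fact p.Prime]

section localcfg
variable {T P : Subgroup Ω} {A : Subgroup (MulAut ↥P)} {B : Subgroup (MulAut ↥T)}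

/-- (ALL2) second stage: `P ≅ p_+^{1+2}` (order `p³`, exponent `p`, nonabelian), `A` `p`-closed, `Q ≤ P` of order `p²` not normal in `T`, and
`ψ ∈ A` of order prime to `p` normalizing `Q` and acting on `Q/Z(P)` as the `a`-th power, `a² ≢ 1`: impossible. -/
theorem no_pearl_above (h5 : 5 ≤ p) (hc : Cfg p T P A B) (hpc : PClosed T P A)
    (hPcard : Nat.card P = p ^ 3) (hPexp : ∀ x ∈ P, x ^ p = 1) (hPna : ∃ a ∈ P, ∃ b ∈ P, a * b ≠ b * a)
    (Q : Subgroup Ω) (hQP : Q ≤ P) (hQcard : Nat.card Q = p ^ 2) (hQn : ∃ s ∈ T, ∃ x ∈ Q, s * x * s⁻¹ ∉ Q)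
    (ψ : MulAut ↥P) (hψ : ψ ∈ A) (a : ℕ) (ha : a ^ 2 % p ≠ 1) (hcop : (orderOf ψ).Coprime p)
    (hψQ : ∀ x : P, (x : Ω) ∈ Q → ((ψ x : P) : Ω) ∈ Q ∧
      ∀ t ∈ P, (((x : Ω) ^ a)⁻¹ * ((ψ x : P) : Ω)) * t = t * (((x : Ω) ^ a)⁻¹ * ((ψ x : P) : Ω))) : False := by
  haveI : Finite ↥T := hc.fin
  haveI hPn : (P.subgroupOf T).Normal := (normal_subgroupOf_iff_le_normalizer hc.le).mpr hc.norm
  -- the extension of `ψ`
  obtain ⟨χ, -, hχ⟩ := hc.ext ψ hψ (fun α hα => hpc ψ hψ α hα)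
  have hyp : ALL2Hyp p (P.subgroupOf T) (Q.subgroupOf T) := by
    refine ⟨hc.pgrp, ?_, ?_, ?_, ?_, ?_, ?_, ?_, ?_, ?_⟩
    · -- rank
      intro E hEcomm hEexp
      have h1 := hc.rank (E.map T.subtype) (map_subtype_le E) ?_ ?_
      · rwa [card_map_of_injective (subtype_injective T)] at h1
      · rintro _ ⟨u, hu, rfl⟩ _ ⟨v, hv, rfl⟩
        have h2 := hEcomm.is_comm.comm (⟨u, hu⟩ : E) ⟨v, hv⟩
        have h3 : u * v = v * u := congrArg Subtype.val h2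
        exact congrArg Subtype.val h3
      · rintro _ ⟨u, hu, rfl⟩
        have h2 := hEexp u hu
        have h3 := congrArg Subtype.val h2
        simpa using h3
    · -- cent
      intro t ht
      rw [mem_subgroupOf]
      apply hc.cent (t : Ω) t.2
      intro x hx
      have h1 := ht ⟨x, hc.le hx⟩ (mem_subgroupOf.mpr hx)
      exact congrArg Subtype.val h1
    · -- ne
      intro htop
      rw [subgroupOf_eq_top] at htop
      exact hc.ne (le_antisymm hc.le htop)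
    · rw [Nat.card_congr (subgroupOfEquivOfLe hc.le).toEquiv]
      exact hPcard
    · intro x hx
      rw [mem_subgroupOf] at hx
      apply Subtype.ext
      rw [Subgroup.coe_pow]
      exact hPexp _ hx
    · obtain ⟨u, hu, v, hv, huv⟩ := hPna
      refine ⟨⟨u, hc.le hu⟩, mem_subgroupOf.mpr hu, ⟨v, hc.le hv⟩, mem_subgroupOf.mpr hv, ?_⟩
      intro h1
      exact huv (congrArg Subtype.val h1)
    · intro x hx
      rw [mem_subgroupOf] at hx ⊢
      exact hQP hx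
    · rw [Nat.card_congr (subgroupOfEquivOfLe (hQP.trans hc.le)).toEquiv]
      exact hQcard
    · obtain ⟨s, hs, x, hx, hsx⟩ := hQn
      refine ⟨⟨s, hs⟩, ⟨x, hc.le (hQP hx)⟩, mem_subgroupOf.mpr hx, ?_⟩
      intro h1
      rw [mem_subgroupOf] at h1
      exact hsx h1
  -- `χ` preserves `P`
  have hχP1 : ∀ v : ↥T, v ∈ P.subgroupOf T → χ v ∈ P.subgroupOf T := by
    intro v hv
    rw [mem_subgroupOf] at hv ⊢
    have h1 := hχ ⟨(v : Ω), hv⟩
    have h2 : (⟨((⟨(v : Ω), hv⟩ : ↥P) : Ω), hc.le hv⟩ : ↥T) = v := Subtype.ext rfl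
    rw [h2] at h1
    rw [h1]
    exact (ψ ⟨(v : Ω), hv⟩).2
  have hχP : ∀ v : ↥T, χ v ∈ P.subgroupOf T ↔ v ∈ P.subgroupOf T := by
    intro v
    refine ⟨fun hv => ?_, hχP1 v⟩
    rw [mem_subgroupOf] at hv
    -- `χ v = ψ y` for some `y ∈ P`
    set y : ↥P := ψ.symm ⟨((χ v : ↥T) : Ω), hv⟩ with hy
    have h1 := hχ y
    have h2 : ((ψ y : ↥P) : Ω) = ((χ v : ↥T) : Ω) := by
      rw [hy, MulEquiv.apply_symm_apply]
    have h3 : χ ⟨(y : Ω), hc.le y.2⟩ = χ v := Subtype.ext (h1.trans h2)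
    have h4 := χ.injective h3
    rw [← h4, mem_subgroupOf]
    exact y.2
  apply ALL2_abs hyp χ hχP a ha
  intro x hx
  rw [mem_subgroupOf] at hx
  have hxP : (x : Ω) ∈ P := hQP hx
  have h1 := hχ ⟨(x : Ω), hxP⟩
  have h2 : (⟨((⟨(x : Ω), hxP⟩ : ↥P) : Ω), hc.le hxP⟩ : ↥T) = x := Subtype.ext rfl
  rw [h2] at h1
  obtain ⟨h3, h4⟩ := hψQ ⟨(x : Ω), hxP⟩ hx
  have hz : (((x ^ a)⁻¹ * χ x : ↥T) : Ω) = ((x : Ω) ^ a)⁻¹ * ((ψ ⟨(x : Ω), hxP⟩ : ↥P) : Ω) := by
    rw [Subgroup.coe_mul, Subgroup.coe_inv, Subgroup.coe_pow, h1]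
  rw [ALL2_mem_zOf]
  refine ⟨?_, ?_⟩
  · rw [mem_subgroupOf, hz]
    exact mul_mem (inv_mem (pow_mem hxP a)) (ψ ⟨(x : Ω), hxP⟩).2
  · intro v hv
    rw [mem_subgroupOf] at hv
    apply Subtype.ext
    show (v : Ω) * (((x ^ a)⁻¹ * χ x : ↥T) : Ω) = (((x ^ a)⁻¹ * χ x : ↥T) : Ω) * (v : Ω)
    rw [hz]
    exact (h4 (v : Ω) hv).symm

end localcfg

end Cfsg.Agent.Helper72.Res
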