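import Mathlib
import Cfsg.Agent.Helper62.S6.Defs
import Cfsg.Agent.Helper62.D8.Perfect
import Cfsg.Agent.Helper47.D8G7

/-!
# (C8) of helper62's S3333: `f, t ∈ L = ⟨S^G⟩`: then `L = G` is simple and S3716 applies.

`case_D8_of` takes the simplicity of `L` (the assembly `simple_normalClosure` of the skeleton) as a
hypothesis; Frattini is proved inline (`Sylow.normalizer_sup_eq_top'`).
-/

set_option autoImplicit false
open Cfsg

namespace Cfsg.Agent.Helper72.S6

open Cfsg.Agent.Helper62.S6 Cfsg.Agent.Helper62.D8

universe u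

variable {G : Type u} [Group G] [Finite G]
variable {S : Subgroup G} {x y t f : G}

/-- `N_G(S) ≤ L` when `f, t ∈ L`. -/
theorem normalizer_le_normalClosure (h : Cfg S x y t f)
    (hf : f ∈ Subgroup.normalClosure (S : Set G)) (ht : t ∈ Subgroup.normalClosure (S : Set G)) :
    Subgroup.normalizer (S : Set G) ≤ Subgroup.normalClosure (S : Set G) := by
  intro n hn'
  obtain ⟨s, hs, i, j, -, -, rfl⟩ := h.nd.memN n hn'
  exact mul_mem (Subgroup.le_normalClosure hs) (mul_mem (pow_mem hf i) (pow_mem ht j))

/-- Frattini: `L = ⊤` when `f, t ∈ L`. -/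
theorem normalClosure_eq_top (h : Cfg S x y t f)
    (hf : f ∈ Subgroup.normalClosure (S : Set G)) (ht : t ∈ Subgroup.normalClosure (S : Set G)) :
    Subgroup.normalClosure (S : Set G) = ⊤ := by
  have hNL := normalizer_le_normalClosure h hf ht
  obtain ⟨P, hP⟩ := h.syl
  subst hP
  haveI : Fact (Nat.Prime 3) := ⟨by norm_num⟩
  have key := Sylow.normalizer_sup_eq_top' P
    (N := Subgroup.normalClosure ((P : Subgroup G) : Set G)) Subgroup.le_normalClosure
  rw [← key]
  exact (sup_eq_right.2 hNL).symm

/-- (C8), with the simplicity of `L` as a hypothesis. -/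
theorem case_D8_of (h : Cfg S x y t f) (hn : ¬ S.Normal)
    (hf : f ∈ Subgroup.normalClosure (S : Set G)) (ht : t ∈ Subgroup.normalClosure (S : Set G))
    (hsimple : IsSimpleGroup ↥(Subgroup.normalClosure (S : Set G))) : False := by
  have hLtop := normalClosure_eq_top h hf ht
  -- `G` is simple
  haveI : Nontrivial G := by
    obtain ⟨a, b, hab⟩ := hsimple.toNontrivial
    exact ⟨⟨(a : G), (b : G), fun hc => hab (Subtype.ext hc)⟩⟩
  haveI : IsSimpleGroup G :=
    IsSimpleGroup.isSimpleGroup_of_surjective (Subgroup.normalClosure (S : Set G)).subtype (fun g =>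
      ⟨⟨g, by rw [hLtop]; exact Subgroup.mem_top g⟩, rfl⟩)
  -- `G` is perfect
  have hperf : commutator G = ⊤ := by
    rcases (inferInstance : (commutator G).Normal).eq_bot_or_eq_top with hb | ht'
    · exfalso
      apply hn
      refine ⟨fun s hs g => ?_⟩
      have hcen := (commutator_eq_bot_iff_center_eq_top G).mp hb
      have hg : g ∈ Subgroup.center G := by rw [hcen]; exact Subgroup.mem_top g
      have hgs : s * g = g * s := Subgroup.mem_center_iff.mp hg s
      have : g * s * g⁻¹ = s := by rw [← hgs, mul_inv_cancel_right]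
      rw [this]
      exact hs
    · exact ht'
  -- `|G| > 72`
  have hN72 := Cfsg.Agent.Helper47.D8.card_normalizer8 h.nd
  have hNtop : Subgroup.normalizer (S : Set G) ≠ ⊤ := fun hc =>
    hn (Subgroup.normalizer_eq_top_iff.mp hc)
  have hbig : 72 < Nat.card G := by
    have h1 := Subgroup.card_mul_index (Subgroup.normalizer (S : Set G))
    have h2 : (Subgroup.normalizer (S : Set G)).index ≠ 1 := fun hc =>
      hNtop (Subgroup.index_eq_one.mp hc)
    have h3 : (Subgroup.normalizer (S : Set G)).index ≠ 0 := Subgroup.index_ne_zero_of_finite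
    rw [hN72] at h1
    have h4 : 2 ≤ (Subgroup.normalizer (S : Set G)).index := by omega
    nlinarith
  obtain ⟨P, hP⟩ := h.syl
  subst hP
  exact false_of_ndata8_perfect P x y t f h.nd h.card h.loc hperf hbig

end Cfsg.Agent.Helper72.S6
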