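import Mathlib
import Cfsg.Agent.Helper62.S6.Lemmas
import Cfsg.Agent.Helper72.S6C8

/-!
# (C8) of helper62's S3333, verbatim statement (uses `Helper62.S6.simple_normalClosure`).
-/

set_option autoImplicit false
open Cfsg

namespace Cfsg.Agent.Helper72.S6

open Cfsg.Agent.Helper62.S6 Cfsg.Agent.Helper62.D8

universe u

variable {G : Type u} [Group G] [Finite G]
variable {S : Subgroup G} {x y t f : G}

/-- (C8) `f, t ∈ L`: then `L = G` is simple and S3716 applies. -/
theorem case_D8 (h : Cfg S x y t f) (hn : ¬ S.Normal)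
    (hf : f ∈ Subgroup.normalClosure (S : Set G)) (ht : t ∈ Subgroup.normalClosure (S : Set G)) :
    False :=
  case_D8_of h hn hf ht (simple_normalClosure h hn)

end Cfsg.Agent.Helper72.S6
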