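import Cfsg.Agent.Helper62.SC3.Defs3

/-!
# S3331 block M wave 1b (helper62 #15754), piece (M7a): an `x`-invariant `2`-subgroup `M` with
`|N(M)| = 3 |M|` is a Sylow `2`-subgroup of `G`
-/

set_option autoImplicit false

namespace Cfsg.Agent.Helper72.SC3

open Cfsg.Agent.Helper62.SC3

universe u

variable {G : Type u} [Group G] [Finite G]

/-- a `2`-subgroup whose normalizer has order `3 |M|` is a Sylow `2`-subgroup -/
theorem M7a_aux {M : Subgroup G} (h2 : IsPGroup 2 ↥M)
    (h3 : Nat.card (Subgroup.normalizer (M : Set G)) = 3 * Nat.card M) :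
    Nat.card M = 2 ^ (Nat.card G).factorization 2 := by
  haveI : Fact (Nat.Prime 2) := ⟨Nat.prime_two⟩
  obtain ⟨P, hMP⟩ := h2.exists_le_sylow
  -- `Q = N(M) ⊓ P` is a `2`-group between `M` and `N(M)`
  have hQ2 : IsPGroup 2 ↥(Subgroup.normalizer (M : Set G) ⊓ (P : Subgroup G)) :=
    P.2.to_le inf_le_right
  have hMQ : M ≤ Subgroup.normalizer (M : Set G) ⊓ (P : Subgroup G) :=
    le_inf Subgroup.le_normalizer hMP
  obtain ⟨a, ha⟩ := (IsPGroup.iff_card.mp hQ2)
  obtain ⟨b, hb⟩ := (IsPGroup.iff_card.mp h2)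
  have hd1 : Nat.card M ∣ Nat.card ↥(Subgroup.normalizer (M : Set G) ⊓ (P : Subgroup G)) :=
    Subgroup.card_dvd_of_le hMQ
  have hd2 : Nat.card ↥(Subgroup.normalizer (M : Set G) ⊓ (P : Subgroup G)) ∣ 3 * Nat.card M := by
    rw [← h3]
    exact Subgroup.card_dvd_of_le inf_le_left
  rw [ha, hb] at hd2
  have hab : a ≤ b := by
    by_contra hcon
    have h1 : 2 ^ (b + 1) ∣ 2 ^ a := pow_dvd_pow 2 (by omega)
    have h4 : 2 ^ (b + 1) ∣ 3 * 2 ^ b := h1.trans hd2
    rw [pow_succ, mul_comm 3] at h4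
    have h5 : 2 ∣ 3 := Nat.dvd_of_mul_dvd_mul_left (by positivity) h4
    omega
  have hQM : Subgroup.normalizer (M : Set G) ⊓ (P : Subgroup G) = M := by
    refine (Subgroup.eq_of_le_of_card_ge hMQ ?_).symm
    rw [ha, hb]
    exact Nat.pow_le_pow_right (by norm_num) hab
  -- normalizers grow in the `2`-group `P`
  have hMP' : M = (P : Subgroup G) := by
    by_contra hne
    haveI : Group.IsNilpotent ↥(P : Subgroup G) := P.2.isNilpotent
    have hnc := Group.normalizerCondition_of_isNilpotent (G := ↥(P : Subgroup G))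
    have hlt : M.subgroupOf (P : Subgroup G) < ⊤ := by
      rw [lt_top_iff_ne_top, Ne, Subgroup.subgroupOf_eq_top]
      intro hPM
      exact hne (le_antisymm hMP hPM)
    have h5 := hnc _ hlt
    rw [← Subgroup.subgroupOf_normalizer_eq hMP] at h5
    -- so `N(M) ⊓ P ≤ M` is violated
    obtain ⟨g, hgN, hgM⟩ := SetLike.exists_of_lt h5
    apply hgM
    rw [Subgroup.mem_subgroupOf] at hgN ⊢
    rw [← hQM]
    exact ⟨hgN, g.2⟩
  rw [hMP']
  exact P.card_eq_multiplicity

/-- (M7a) -/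
theorem M7a_two_sylow (S : Setup G) {M : Subgroup G} (hM : Inv3 S M) (h2 : IsPGroup 2 ↥M)
    (h3 : Nat.card (Subgroup.normalizer (M : Set G)) = 3 * Nat.card M) :
    Nat.card M = 2 ^ (Nat.card G).factorization 2 := M7a_aux h2 h3

end Cfsg.Agent.Helper72.SC3
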