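import Mathlib
import Cfsg.Agent.Helper5.SpBN.Api
import Cfsg.Agent.Helper5.SpCard
import Cfsg.Agent.S0246
import Cfsg.Prelude.Def_Classical

/-!
# S2545 (helper5), piece (SYL): the order of a Sylow `p`-subgroup of `PSp_2m(q)`.
-/

set_option autoImplicit false

namespace Cfsg.Agent.Helper72.SpBNSYL

open Matrix Cfsg.Agent.Helper5.SpBN

/-- `p ∤ q ^ j - 1` when `p ∣ q`, `j ≥ 1`. -/
theorem not_dvd_pow_sub_one (p q j : ℕ) (hp : p.Prime) (hpq : p ∣ q) (hq : 1 ≤ q) (hj : 1 ≤ j) :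
    ¬ p ∣ q ^ j - 1 := by
  intro h
  have h1 : p ∣ q ^ j := dvd_pow hpq (by omega)
  have hpos : 1 ≤ q ^ j := Nat.one_le_pow _ _ hq
  have h2 : p ∣ q ^ j - (q ^ j - 1) := Nat.dvd_sub h1 h
  have h3 : q ^ j - (q ^ j - 1) = 1 := by omega
  rw [h3] at h2
  exact hp.one_lt.ne' (Nat.dvd_one.mp h2)

theorem card_sylow_PSp {F : Type*} [Field F] [Fintype F] {m : ℕ} (p : ℕ) [Fact p.Prime]
    [CharP F p] (hm : 1 ≤ m)
    (P : Sylow p (Cfsg.PSp m F)) : Nat.card P = Fintype.card F ^ (m ^ 2) := by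
  classical
  have hp : p.Prime := Fact.out
  obtain ⟨f, -, hq⟩ := FiniteField.card F p
  have hf : 1 ≤ (f : ℕ) := f.pos
  have hpq : p ∣ Fintype.card F := by rw [hq]; exact dvd_pow_self p (by omega)
  have hq1 : 1 ≤ Fintype.card F := Fintype.card_pos
  rw [Sylow.card_eq_multiplicity]
  have hS := Cfsg.Agent.Helper5.card_sp (F := F) m
  have hZ := Cfsg.Agent.S0246.result (F := F) (q := Fintype.card F) rfl m hm
  have hmul := Subgroup.card_eq_card_quotient_mul_card_subgroup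
    (Subgroup.center (Matrix.symplecticGroup (Fin m) F))
  rw [hS, hZ] at hmul
  -- `hmul : q^(m²) * A = |PSp| * gcd 2 (q-1)`
  set A := ∏ i ∈ Finset.range m, (Fintype.card F ^ (2 * (i + 1)) - 1) with hA
  set z := Nat.gcd 2 (Fintype.card F - 1) with hz
  set g := Nat.card (Matrix.symplecticGroup (Fin m) F ⧸
    Subgroup.center (Matrix.symplecticGroup (Fin m) F)) with hg
  have hpA : ¬ p ∣ A := by
    rw [hA, Prime.dvd_finsetProd_iff (Nat.prime_iff.mp hp)]
    rintro ⟨i, -, hi⟩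
    exact not_dvd_pow_sub_one p _ _ hp hpq hq1 (by omega) hi
  have hpz : ¬ p ∣ z := by
    intro h
    have h1 : z ∣ Fintype.card F - 1 := Nat.gcd_dvd_right _ _
    have h2 : p ∣ Fintype.card F ^ 1 - 1 := by rw [pow_one]; exact dvd_trans h h1
    exact not_dvd_pow_sub_one p _ 1 hp hpq hq1 le_rfl h2
  have hA0 : A ≠ 0 := fun h => hpA (h ▸ dvd_zero p)
  have hz0 : z ≠ 0 := fun h => hpz (h ▸ dvd_zero p)
  have hg0 : g ≠ 0 := Nat.card_pos.ne'
  have hqm0 : Fintype.card F ^ (m ^ 2) ≠ 0 := pow_ne_zero _ (by omega)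
  have hfac : (Fintype.card F ^ (m ^ 2) * A).factorization p = (g * z).factorization p := by
    rw [hmul]
  rw [Nat.factorization_mul hqm0 hA0, Nat.factorization_mul hg0 hz0, Finsupp.add_apply,
    Finsupp.add_apply, Nat.factorization_eq_zero_of_not_dvd hpA,
    Nat.factorization_eq_zero_of_not_dvd hpz, add_zero, add_zero, Nat.factorization_pow,
    Finsupp.smul_apply, hq, Nat.factorization_pow, Finsupp.smul_apply,
    hp.factorization_self] at hfac
  show p ^ g.factorization p = Fintype.card F ^ (m ^ 2)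
  rw [← hfac, hq, smul_eq_mul, smul_eq_mul, mul_one, ← pow_mul, mul_comm]

end Cfsg.Agent.Helper72.SpBNSYL
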