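import Cfsg.Agent.Helper72.SzcMI6
import Cfsg.Agent.Helper20.SzcMD

/-!
# [MI6] of helper6's S4775, final form: `szc_ps_mult` VERBATIM (core `szc_ps_mult_of` + helper20's [MD])
-/

set_option autoImplicit false

namespace Cfsg.Agent.Helper72.Szc

open Cfsg Cfsg.Agent.Helper6
open scoped ComplexConjugate

universe u

variable {G : Type u} [Group G] [Fintype G] {Q H B K₁ K₂ : Subgroup G} {w : G} {T : ℕ}
  [Fintype ↥B]

/-- MI6: multiplicities of the non-linear characters of `B` in the restriction of a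
principal series character -/
theorem szc_ps_mult (D : SzHyp Q H B K₁ K₂ w T) (l : ↥B →* ℂ)
    (hl : ∀ x : ↥B, (x : G) ∈ Q → l x = 1) (β : ↥B → ℂ) (hβ : IsIrrCharacter ↥B β)
    (hk : ∃ n : ↥B, (n : G) ∈ Q ∧ β n ≠ β 1) (hvan : ∀ x : ↥B, (x : G) ∉ Q → β x = 0) :
    classInner (resFun B (indFun B (fun b => l b))) β = β 1 / ((2 * T ^ 2 - 1 : ℕ) : ℂ) :=
  szc_ps_mult_of
    (fun γ α hα hv => Cfsg.Agent.Helper20.Szc.szc_inner_ind_ind D γ α hα hv) l hl β hβ hk hvan

end Cfsg.Agent.Helper72.Szc
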