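import Cfsg.Agent.Helper56.U35.Defs

/-!
# S2149 farm (architect helper56), piece (TRN) `trans_of_large`
-/

set_option autoImplicit false

namespace Cfsg.Agent.Helper72.U35

open MulAction Cfsg.Agent.Helper56.U35

variable {G : Type*} [Group G] {Ω : Type*} [MulAction G Ω]

theorem TRN_finite (D : TIData G Ω) : Finite G :=
  Nat.finite_of_card_ne_zero (by rw [D.cardG]; norm_num)

theorem TRN_finiteΩ (D : TIData G Ω) : Finite Ω :=
  Nat.finite_of_card_ne_zero (by rw [D.cardΩ]; norm_num)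

/-- `|K ∩ B| ≤ 8` if `K ∩ P = 1` -/
theorem TRN_card_inf_le (D : TIData G Ω) (hstb : Nat.card (stabilizer G D.o) = 1000)
    (K : Subgroup G) (hKP : ∀ y ∈ K, y ∈ D.P → y = 1) :
    Nat.card (K ⊓ stabilizer G D.o : Subgroup G) ≤ 8 := by
  haveI := TRN_finite D
  haveI hn : (D.P.subgroupOf (stabilizer G D.o)).Normal := by
    refine ⟨fun n hn g => ?_⟩
    rw [Subgroup.mem_subgroupOf] at hn ⊢
    exact D.P_normal g g.2 n hn
  have hidx : (D.P.subgroupOf (stabilizer G D.o)).index = 8 := by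
    have h1 := Subgroup.card_mul_index (D.P.subgroupOf (stabilizer G D.o))
    rw [Nat.card_congr (Subgroup.subgroupOfEquivOfLe D.P_le).toEquiv, D.cardP, hstb] at h1
    omega
  let φ : ↥(K ⊓ stabilizer G D.o) →* (↥(stabilizer G D.o) ⧸ D.P.subgroupOf (stabilizer G D.o)) :=
    (QuotientGroup.mk' (D.P.subgroupOf (stabilizer G D.o))).comp (Subgroup.inclusion inf_le_right)
  have hinj : Function.Injective φ := by
    rw [injective_iff_map_eq_one]
    intro x hx
    rw [MonoidHom.comp_apply, QuotientGroup.mk'_apply, QuotientGroup.eq_one_iff,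
      Subgroup.mem_subgroupOf] at hx
    have hx' : (x : G) ∈ D.P := hx
    exact Subtype.ext (hKP x (Subgroup.mem_inf.mp x.2).1 hx')
  have h2 := Nat.card_le_card_of_injective φ hinj
  rwa [← Subgroup.index_eq_card, hidx] at h2

/-- Lemma A: a subgroup of order `> 1008` meets `P` -/
theorem TRN_exists_mem_P (D : TIData G Ω) (hstb : Nat.card (stabilizer G D.o) = 1000)
    (K : Subgroup G) (hK : 1008 < Nat.card K) : ∃ y ∈ K, y ∈ D.P ∧ y ≠ 1 := by
  by_contra hcon
  push Not at hcon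
  haveI := TRN_finite D
  haveI := TRN_finiteΩ D
  have h8 := TRN_card_inf_le D hstb K hcon
  have h1 := Subgroup.card_mul_index ((stabilizer G D.o).subgroupOf K)
  have h2 : Nat.card ((stabilizer G D.o).subgroupOf K)
      = Nat.card (K ⊓ stabilizer G D.o : Subgroup G) := by
    rw [← Subgroup.inf_subgroupOf_right, inf_comm]
    exact Nat.card_congr (Subgroup.subgroupOfEquivOfLe inf_le_left).toEquiv
  have h3 : ((stabilizer G D.o).subgroupOf K).index ≤ 126 := by
    have h4 : (stabilizer G D.o).subgroupOf K = stabilizer ↥K D.o := by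
      ext k
      rw [Subgroup.mem_subgroupOf, mem_stabilizer_iff, mem_stabilizer_iff, Subgroup.smul_def]
    rw [h4, index_stabilizer, ← D.cardΩ]
    exact Set.ncard_le_card _
  rw [h2] at h1
  have h5 : Nat.card K ≤ 8 * 126 := by
    rw [← h1]
    exact Nat.mul_le_mul h8 h3
  omega

/-- (TRN) a subgroup of order divisible by `5` and larger than `1008` is transitive on `Ω` -/
theorem trans_of_large (D : TIData G Ω)
    (hstb : Nat.card (stabilizer G D.o) = 1000)
    (hsyl : ∀ R : Subgroup G, IsPGroup 5 R → ∃ g : G, ∀ r ∈ R, g⁻¹ * r * g ∈ D.P)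
    (H : Subgroup G) (h5 : 5 ∣ Nat.card H) (hbig : 1008 < Nat.card H) :
    ∀ w : Ω, ∃ h ∈ H, h • D.o = w := by
  haveI := TRN_finite D
  haveI : Fact (Nat.Prime 5) := ⟨by norm_num⟩
  obtain ⟨R₀, -⟩ := IsPGroup.exists_le_sylow (p := 5) (P := (⊥ : Subgroup ↥H)) IsPGroup.of_bot
  obtain ⟨a, ha⟩ := hsyl ((R₀ : Subgroup ↥H).map H.subtype) (R₀.isPGroup'.map H.subtype)
  have key : ∀ w : Ω, ∃ h ∈ H, h • (a • D.o) = w := by
    intro w
    obtain ⟨g, rfl⟩ := D.trans w
    have hKcard : Nat.card (H.map (MulAut.conj g⁻¹).toMonoidHom) = Nat.card H :=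
      Subgroup.card_map_of_injective (MulAut.conj g⁻¹).injective
    obtain ⟨y, hyK, hyP, hy1⟩ := TRN_exists_mem_P D hstb (H.map (MulAut.conj g⁻¹).toMonoidHom)
      (by rw [hKcard]; exact hbig)
    obtain ⟨x, hxH, rfl⟩ := Subgroup.mem_map.mp hyK
    have hy : (MulAut.conj g⁻¹).toMonoidHom x = g⁻¹ * x * g := by
      simp
    rw [hy] at hyP hy1
    have hx1 : x ≠ 1 := by
      rintro rfl
      apply hy1
      group
    have hx125 : x ^ 125 = 1 := by
      have h1 : (g⁻¹ * x * g) ^ 125 = 1 := by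
        have h0 := pow_card_eq_one' (G := D.P) (x := ⟨_, hyP⟩)
        rw [D.cardP] at h0
        have h00 := congrArg Subtype.val h0
        simpa using h00
      have h2 : (g⁻¹ * x * g) ^ 125 = g⁻¹ * x ^ 125 * g := by
        have h0 := conj_pow (a := g⁻¹) (b := x) (i := 125)
        simpa using h0
      rw [h2] at h1
      calc x ^ 125 = g * (g⁻¹ * x ^ 125 * g) * g⁻¹ := by group
        _ = 1 := by
          rw [h1]
          group
    have hpg : IsPGroup 5 (Subgroup.zpowers (⟨x, hxH⟩ : ↥H)) := by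
      rintro ⟨u, hu⟩
      obtain ⟨n, rfl⟩ := Subgroup.mem_zpowers_iff.mp hu
      refine ⟨3, Subtype.ext ?_⟩
      have h1 : (⟨x, hxH⟩ : ↥H) ^ (5 ^ 3) = 1 := Subtype.ext (by simpa using hx125)
      show ((⟨x, hxH⟩ : ↥H) ^ n) ^ 5 ^ 3 = 1
      rw [← zpow_natCast, ← zpow_mul, mul_comm, zpow_mul, zpow_natCast, h1, one_zpow]
    obtain ⟨R, hR⟩ := hpg.exists_le_sylow
    obtain ⟨h, hh⟩ := MulAction.exists_smul_eq ↥H R₀ R
    have hxR : (⟨x, hxH⟩ : ↥H) ∈ (R : Subgroup ↥H) := hR (Subgroup.mem_zpowers _)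
    rw [← hh, Sylow.coe_subgroup_smul, Subgroup.mem_pointwise_smul_iff_inv_smul_mem] at hxR
    have hxR' : h⁻¹ * (⟨x, hxH⟩ : ↥H) * h ∈ (R₀ : Subgroup ↥H) := by
      simpa [MulAut.smul_def] using hxR
    have h3 := ha (H.subtype (h⁻¹ * (⟨x, hxH⟩ : ↥H) * h)) (Subgroup.mem_map_of_mem H.subtype hxR')
    have hu : a⁻¹ * (H.subtype (h⁻¹ * (⟨x, hxH⟩ : ↥H) * h)) * a
        = a⁻¹ * (h : G)⁻¹ * x * (h : G) * a := by
      simp [mul_assoc]
    rw [hu] at h3
    have hu1 : a⁻¹ * (h : G)⁻¹ * x * (h : G) * a ≠ 1 := by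
      intro h0
      apply hx1
      calc x = (h : G) * a * (a⁻¹ * (h : G)⁻¹ * x * (h : G) * a) * a⁻¹ * (h : G)⁻¹ := by group
        _ = 1 := by
          rw [h0]
          group
    have hfix : (a⁻¹ * (h : G)⁻¹ * x * (h : G) * a) • ((a⁻¹ * (h : G)⁻¹ * g) • D.o)
        = (a⁻¹ * (h : G)⁻¹ * g) • D.o := by
      rw [← mul_smul]
      have h0 : (a⁻¹ * (h : G)⁻¹ * x * (h : G) * a) * (a⁻¹ * (h : G)⁻¹ * g)
          = (a⁻¹ * (h : G)⁻¹ * g) * (g⁻¹ * x * g) := by group
      rw [h0, mul_smul]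
      congr 1
      exact D.P_le hyP
    have h4 := D.semireg _ h3 hu1 _ hfix
    refine ⟨(h : G), h.2, ?_⟩
    conv_lhs => rw [← h4]
    rw [← mul_smul, ← mul_smul]
    congr 1
    group
  intro w
  obtain ⟨h₀, hh₀, e₀⟩ := key D.o
  obtain ⟨h₁, hh₁, e₁⟩ := key w
  refine ⟨h₁ * h₀⁻¹, H.mul_mem hh₁ (H.inv_mem hh₀), ?_⟩
  rw [mul_smul, ← e₁]
  congr 1
  rw [inv_smul_eq_iff]
  exact e₀.symm

end Cfsg.Agent.Helper72.U35
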