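import Mathlib
import Cfsg.Agent.S2677

/-!
# S6001 piece (F2b) for helper44: the scalar of a unitary matrix `μ • x'`, `x'` an involution of
trace `±2`, has norm one
-/

set_option autoImplicit false
open scoped MatrixGroups

namespace Cfsg.Agent.Helper72.U4

open Matrix

variable {F : Type*} [Field F]

/-- (F2b) the scalar of a unitary matrix `μ • x'`, `x'` an involution of trace `±2`, is unitary -/
theorem invol_scalar_unitary {p : ℕ} (bar : F →+* F) (hbar : ∀ x, bar x = x ^ p) (h2 : (2 : F) ≠ 0)
    (x : GL (Fin 4) F) (hx : x ∈ Cfsg.GU 4 F p) (μ : F) (x' : Matrix (Fin 4) (Fin 4) F)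
    (hxx : (x : Matrix (Fin 4) (Fin 4) F) = μ • x') (hx' : x' * x' = 1)
    (htr : Matrix.trace x' = 2 ∨ Matrix.trace x' = -2) : μ * bar μ = 1 := by
  have hU := (Cfsg.Agent.S2677.mem_GU_iff_matrix 4 bar hbar x).mp hx
  rw [hxx] at hU
  have hmap : (μ • x').map bar = bar μ • x'.map bar := by
    ext a b
    simp [Matrix.map_apply, Matrix.smul_apply]
  rw [hmap, Matrix.transpose_smul, Matrix.smul_mul, Matrix.mul_smul, smul_smul] at hU
  -- multiply by `x'ᵀ` on the left
  have hT : x'ᵀ * x'ᵀ = 1 := by
    rw [← Matrix.transpose_mul, hx', Matrix.transpose_one]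
  have h3 : (μ * bar μ) • x'.map bar = x'ᵀ := by
    have := congrArg (fun M => x'ᵀ * M) hU
    simp only [Matrix.mul_smul, Matrix.mul_one] at this
    rw [← Matrix.mul_assoc, hT, Matrix.one_mul] at this
    exact this
  have h4 := congrArg Matrix.trace h3
  rw [Matrix.trace_smul, Matrix.trace_transpose, smul_eq_mul] at h4
  have h5 : Matrix.trace (x'.map bar) = bar (Matrix.trace x') := by
    simp [Matrix.trace, map_sum]
  rw [h5] at h4
  rcases htr with h | h
  · rw [h, map_ofNat] at h4
    have : (μ * bar μ - 1) * 2 = 0 := by linear_combination h4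
    rcases mul_eq_zero.mp this with h6 | h6
    · linear_combination h6
    · exact absurd h6 h2
  · rw [h, map_neg, map_ofNat] at h4
    have : (μ * bar μ - 1) * 2 = 0 := by linear_combination (-1 : F) * h4
    rcases mul_eq_zero.mp this with h6 | h6
    · linear_combination h6
    · exact absurd h6 h2

end Cfsg.Agent.Helper72.U4
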