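import Mathlib
import Cfsg.Agent.Helper99.UNdDefs

/-!
# S5954 (helper99), piece (JP): Jordan type of an element with `g ^ p = 1`.
-/

set_option autoImplicit false

namespace Cfsg.Agent.Helper72.UNdJP

open Matrix Polynomial
open Cfsg.Agent.Helper99.UNd

variable {F : Type*} [Field F]

/-- in characteristic `p`, `(M - 1) ^ p = M ^ p - 1` for a square matrix (any size). -/
theorem sub_one_pow_char (p : ℕ) [Fact p.Prime] [CharP F p] {n : ℕ}
    (M : Matrix (Fin n) (Fin n) F) : (M - 1) ^ p = M ^ p - 1 := by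
  have h : ((X : F[X]) - 1) ^ p = X ^ p - 1 := by
    rw [sub_pow_char, one_pow]
  have h2 := congrArg (Polynomial.aeval M) h
  simpa using h2

/-- (JP) Jordan type of an element with `g ^ p = 1` -/
theorem jtype_of_pow_p_eq_one (p : ℕ) [Fact p.Prime] [CharP F p] {n : ℕ} (g : GL (Fin n) F)
    (hg : (g : Matrix (Fin n) (Fin n) F) ^ p = 1) :
    Cfsg.Agent.Helper43.SS.IsUnip g ∧
      (∀ a ∈ Cfsg.Agent.Helper43.SS.jtype g, 0 < a ∧ a ≤ p) ∧
      (Cfsg.Agent.Helper43.SS.jtype g).sum = n ∧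
      ((g : Matrix (Fin n) (Fin n) F) ≠ 1 → ∃ a ∈ Cfsg.Agent.Helper43.SS.jtype g, 1 < a) := by
  have hnil : Cfsg.Agent.Helper43.SS.nilPart g ^ p = 0 := by
    show ((g : Matrix (Fin n) (Fin n) F) - 1) ^ p = 0
    rw [sub_one_pow_char, hg, sub_self]
  have hunip : Cfsg.Agent.Helper43.SS.IsUnip g := ⟨p, hnil⟩
  have hJ := Cfsg.Agent.Helper43.SS.jtype_spec g hunip
  refine ⟨hunip, ?_, hJ.sum_eq, ?_⟩
  · intro a ha
    exact ⟨hJ.2.1 a ha, (hJ.pow_eq_zero_iff p).mp hnil a ha⟩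
  · intro hne
    by_contra hcon
    push Not at hcon
    have h1 : Cfsg.Agent.Helper43.SS.nilPart g ^ 1 = 0 := (hJ.pow_eq_zero_iff 1).mpr hcon
    rw [pow_one] at h1
    apply hne
    have : (g : Matrix (Fin n) (Fin n) F) - 1 = 0 := h1
    exact sub_eq_zero.mp this

end Cfsg.Agent.Helper72.UNdJP
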