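import Mathlib
import Cfsg.Agent.Helper99.UNdDefs
import Cfsg.Agent.Helper43.SUClsC
import Cfsg.Agent.Helper43.SSPrime

/-!
# S5954 (helper99), piece (PU): unitary matrices with prescribed characteristic polynomial.
-/

set_option autoImplicit false

namespace Cfsg.Agent.Helper72.UNdPU

open Matrix Polynomial
open Cfsg.Agent.Helper99.UNd
open Cfsg.Agent.Helper43.GUPrime (utilde)

variable {F : Type*} [Field F]

/-- (PU) unitary matrices with prescribed characteristic polynomial -/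
theorem exists_unitary_of_poly [Fintype F] (p : ℕ) [Fact p.Prime] [CharP F p] {q : ℕ}
    (hF : Fintype.card F = q ^ 2) (bar : F →+* F) (hbar : ∀ x, bar x = x ^ q) (n r : ℕ)
    (z : F) (hz : z ≠ 0) (hrF : (r : F) ≠ 0) (f : F[X]) (hfm : f.Monic) (hfd : f.natDegree = n)
    (hfu : utilde bar f = f)
    (hfac : ∀ P : F[X], P.Monic → Irreducible P → P ∣ f → P ∣ (X ^ r - C z : F[X])) :
    ∃ B : Matrix (Fin n) (Fin n) F, IsUM n q B ∧ B.charpoly = f ∧
      B ^ r = z • (1 : Matrix (Fin n) (Fin n) F) := by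
  have hp : p.Prime := Fact.out
  have hr0 : 0 < r := by
    rcases Nat.eq_zero_or_pos r with h | h
    · exfalso; apply hrF; rw [h]; simp
    · exact h
  -- `f.coeff 0 ≠ 0`
  have hf0 : f.coeff 0 ≠ 0 := by
    intro h0
    have hX : (X : F[X]) ∣ f := Polynomial.X_dvd_iff.mpr h0
    have hX2 := hfac X Polynomial.monic_X Polynomial.irreducible_X hX
    have h1 := Polynomial.X_dvd_iff.mp hX2
    rw [Polynomial.coeff_sub, Polynomial.coeff_X_pow, Polynomial.coeff_C_zero,
      if_neg (by omega)] at h1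
    apply hz
    have : -z = 0 := by simpa using h1
    exact neg_eq_zero.mp this
  obtain ⟨B, k, hk0, hkp, hBk, hchar⟩ :=
    Cfsg.Agent.Helper43.SUCls.exists_GU_of_utilde p hF bar hbar n f hfm hfd hf0 hfu
  refine ⟨((B : GL (Fin n) F) : Matrix (Fin n) (Fin n) F), B.2, hchar, ?_⟩
  -- the matrix has order prime to `p`
  have hkF : (k : F) ≠ 0 := by
    intro h
    have hdvd : p ∣ k := (CharP.cast_eq_zero_iff F p k).mp h
    have h1 : p ∣ Nat.gcd k p := Nat.dvd_gcd hdvd (dvd_refl p)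
    rw [hkp] at h1
    exact hp.one_lt.ne' (Nat.dvd_one.mp h1)
  have hAk : ((B : GL (Fin n) F) : Matrix (Fin n) (Fin n) F) ^ k = 1 := by
    have h1 : ((B ^ k : ↥(Cfsg.GU n F q)) : GL (Fin n) F) = 1 := by rw [hBk]; rfl
    have h2 : ((B : GL (Fin n) F)) ^ k = 1 := by
      rw [← h1]; rfl
    have h3 := congrArg (fun g : GL (Fin n) F => (g : Matrix (Fin n) (Fin n) F)) h2
    simpa using h3
  have h0 : (X ^ r - C z : F[X]) ≠ 0 := Polynomial.X_pow_sub_C_ne_zero hr0 z
  have hzero := Cfsg.Agent.Helper43.SS.aeval_eq_zero_of_factors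
    ((B : GL (Fin n) F) : Matrix (Fin n) (Fin n) F) k hkF hAk (X ^ r - C z) h0
    (fun P hPm hPi hPd => hfac P hPm hPi (hchar ▸ hPd))
  rw [map_sub, map_pow, Polynomial.aeval_X, Polynomial.aeval_C,
    Algebra.algebraMap_eq_smul_one] at hzero
  exact sub_eq_zero.mp hzero

end Cfsg.Agent.Helper72.UNdPU
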